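import Groth.Agent.IsoNat97.Twist

/-! Forms of an object on a doubled scheme, by automorphisms of the overlap. -/

set_option autoImplicit false
set_option linter.unusedVariables false
set_option linter.style.haveILetI false
set_option backward.isDefEq.respectTransparency false
set_option backward.isDefEq.respectTransparency.types false
universe u

open CategoryTheory CategoryTheory.Limits AlgebraicGeometry Opposite AlgSt FibCat

namespace Groth.Agent.IsoNat97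

open AlgSt88 IsoNat

variable {S : Scheme.{u}} {𝒳 𝒴 : AlgSt.Cat S} {B C O D C' O' D' : Over S}

/-- An object on a doubling trivialised on the charts with given transition. -/
structure Triv (Z : overCat B ⥤ᵇ 𝒳) {o : O ⟶ C} (d : Doubling o D) (t : C ⟶ B) {s : O ⟶ B} (hs : o ≫ t = s)
    (ξ : 𝒳.p.Fiber D) (τ : AutT Z s) where
  μ : Bool → ((chObj Z t).1 ⟶ ξ.1)
  lift : ∀ b, 𝒳.p.IsHomLift (d.c b) (μ b)
  rel : τ.1 ≫ chMap Z o hs ≫ μ true = chMap Z o hs ≫ μ false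

/-- An object on a doubling receiving morphisms from the chart object on both charts. -/
def IsForm (Z : overCat B ⥤ᵇ 𝒳) {o : O ⟶ C} (d : Doubling o D) (t : C ⟶ B) (ξ : 𝒳.p.Fiber D) : Prop :=
  ∀ b, ∃ μ : (chObj Z t).1 ⟶ ξ.1, 𝒳.p.IsHomLift (d.c b) μ

theorem aut_cancel (hX : IsFibGrpd 𝒳.p) {Z : overCat B ⥤ᵇ 𝒳} {T T' : Over S} {t : T ⟶ B} {f : T ⟶ T'}
    {x : 𝒳.obj} (q : (chObj Z t).1 ⟶ x) (hq : 𝒳.p.IsHomLift f q) {a b : AutT Z t} (e : a.1 ≫ q = b.1 ≫ q) : a = b := by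
  haveI := b.2
  haveI := hq
  obtain ⟨χ, -, huniq⟩ := exists_fac hX (𝟙 T) (Category.id_comp f) q hq (b.1 ≫ q) inferInstance
  exact Subtype.ext ((huniq _ a.2 e).trans (huniq _ b.2 rfl).symm)

variable {Z : overCat B ⥤ᵇ 𝒳} {o : O ⟶ C} {d : Doubling o D} {t : C ⟶ B} {s : O ⟶ B} {hs : o ≫ t = s}

theorem Triv.isForm {ξ : 𝒳.p.Fiber D} {τ : AutT Z s} (T : Triv Z d t hs ξ τ) : IsForm Z d t ξ :=
  fun b => ⟨T.μ b, T.lift b⟩

theorem exists_triv_of_isForm (hX : IsFibGrpd 𝒳.p) (hs : o ≫ t = s) {ξ : 𝒳.p.Fiber D} (h : IsForm Z d t ξ) :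
    ∃ τ : AutT Z s, Nonempty (Triv Z d t hs ξ τ) := by
  choose μ hμ using h
  haveI := hμ true
  haveI := hμ false
  obtain ⟨τ₁, ⟨hτ₁, hτe⟩, -⟩ := exists_fac hX (𝟙 O) (Category.id_comp (o ≫ d.c true))
    (chMap Z o hs ≫ μ true) inferInstance (chMap Z o hs ≫ μ false) (by rw [← d.agree]; infer_instance)
  exact ⟨⟨τ₁, hτ₁⟩, ⟨⟨μ, hμ, hτe⟩⟩⟩

theorem exists_form (h𝒳 : Stk.IsStack (AlgSp.J S) 𝒳) (Z : overCat B ⥤ᵇ 𝒳) (o : O ⟶ C) [IsOpenImmersion o.left]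
    (t : C ⟶ B) {s : O ⟶ B} (hs : o ≫ t = s) (τ : AutT Z s) :
    ∃ (D : Over S) (π : D ⟶ B) (d : Doubling o D) (ξ : 𝒳.p.Fiber D),
      (∀ b, d.c b ≫ π = t) ∧ Nonempty (Triv Z d t hs ξ τ) := by
  subst hs
  obtain ⟨D, π, d, ξ, m, hπ, hm, hrel⟩ := exists_twist h𝒳 Z o t τ
  exact ⟨D, π, d, ξ, hπ, ⟨⟨m, hm, hrel⟩⟩⟩

/-- Forms with a given transition on a given doubling. -/
theorem exists_triv (h𝒳 : Stk.IsStack (AlgSp.J S) 𝒳) (Z : overCat B ⥤ᵇ 𝒳) [IsOpenImmersion o.left] (d : Doubling o D)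
    (t : C ⟶ B) {s : O ⟶ B} (hs : o ≫ t = s) (τ : AutT Z s) : ∃ ξ : 𝒳.p.Fiber D, Nonempty (Triv Z d t hs ξ τ) := by
  have hX := h𝒳.1
  obtain ⟨D₁, -, d₁, ξ₁, -, ⟨T₁⟩⟩ := exists_form h𝒳 Z o t hs τ
  obtain ⟨ρ, hρ⟩ := d.exists_desc₂ d₁.c d₁.agree
  obtain ⟨ξ, a, ha⟩ := exists_lift_fiber hX ρ ξ₁
  have hμ : ∀ b, ∃ μ : (chObj Z t).1 ⟶ ξ.1, 𝒳.p.IsHomLift (d.c b) μ ∧ μ ≫ a = T₁.μ b := fun b => by
    obtain ⟨c, hc, -⟩ := exists_fac hX (d.c b) (hρ b) a ha (T₁.μ b) (T₁.lift b)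
    exact ⟨c, hc⟩
  choose μ hμl hμa using hμ
  refine ⟨ξ, ⟨⟨μ, hμl, ?_⟩⟩⟩
  haveI := hμl true
  haveI := hμl false
  haveI := τ.2
  haveI := ha
  haveI := T₁.lift false
  obtain ⟨χ, -, huniq⟩ := exists_fac hX (o ≫ d.c false) rfl a ha (chMap Z o hs ≫ T₁.μ false) (by
    have h : 𝒳.p.IsHomLift (o ≫ d₁.c false) (chMap Z o hs ≫ T₁.μ false) := inferInstance
    rwa [Category.assoc, hρ])
  refine (huniq _ ?_ ?_).trans (huniq _ inferInstance ?_).symm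
  · rw [d.agree]; infer_instance
  · rw [Category.assoc, Category.assoc, hμa, T₁.rel]
  · rw [Category.assoc, hμa]

/-- The transitions of isomorphic forms are related by automorphisms of the charts. -/
theorem rel_of_hom (hX : IsFibGrpd 𝒳.p) {ξ ξ' : 𝒳.p.Fiber D} {τ τ' : AutT Z s} (T : Triv Z d t hs ξ τ)
    (T' : Triv Z d t hs ξ' τ') (e : ξ.1 ⟶ ξ'.1) (he : 𝒳.p.IsHomLift (𝟙 D) e) :
    ∃ (g : Bool → AutT Z t) (r : Bool → AutT Z s), (∀ b, IsRestr o (r b) (g b)) ∧ τ.mul (r true) = (r false).mul τ' := by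
  haveI := he
  have hg : ∀ b, ∃ g : AutT Z t, g.1 ≫ T'.μ b = T.μ b ≫ e := fun b => by
    haveI := T.lift b
    obtain ⟨c, ⟨hc, hce⟩, -⟩ := exists_fac hX (𝟙 C) (Category.id_comp (d.c b)) (T'.μ b) (T'.lift b) (T.μ b ≫ e)
      inferInstance
    exact ⟨⟨c, hc⟩, hce⟩
  choose g hg using hg
  have hr : ∀ b, ∃ r : AutT Z s, IsRestr o r (g b) := fun b => IsRestr.exists_of hX hs (g b)
  choose r hr using hr
  refine ⟨g, r, hr, ?_⟩
  haveI := T'.lift true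
  refine aut_cancel hX (f := o ≫ d.c true) (chMap Z o hs ≫ T'.μ true) inferInstance ?_
  obtain ⟨_, e₁⟩ := hr true
  obtain ⟨_, e₀⟩ := hr false
  show (τ.1 ≫ (r true).1) ≫ _ = ((r false).1 ≫ τ'.1) ≫ _
  rw [Category.assoc, ← Category.assoc (r true).1, e₁, Category.assoc, hg, Category.assoc, T'.rel,
    ← Category.assoc (r false).1, e₀, Category.assoc, hg, ← Category.assoc (chMap Z o hs) (T.μ true),
    ← Category.assoc τ.1, T.rel, Category.assoc]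

/-- Forms with related transitions are isomorphic. -/
theorem iso_of_rel (h𝒳 : Stk.IsStack (AlgSp.J S) 𝒳) {ξ ξ' : 𝒳.p.Fiber D} {τ τ' : AutT Z s}
    (T : Triv Z d t hs ξ τ) (T' : Triv Z d t hs ξ' τ') (g : Bool → AutT Z t) (r : Bool → AutT Z s)
    (hr : ∀ b, IsRestr o (r b) (g b)) (h : τ.mul (r true) = (r false).mul τ') : Nonempty (ξ ≅ ξ') := by
  have hX := h𝒳.1
  subst hs
  obtain ⟨k, hk, -⟩ := exists_hom_glue h𝒳 Z d τ T.μ T.lift T.rel (y := ξ') (𝟙 D) (fun b => (g b).1 ≫ T'.μ b)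
    (fun b => by
      haveI := (g b).2
      haveI := T'.lift b
      rw [Category.comp_id]; infer_instance) (by
    obtain ⟨_, e₁⟩ := hr true
    obtain ⟨_, e₀⟩ := hr false
    have h' : τ.1 ≫ (r true).1 = (r false).1 ≫ τ'.1 := congrArg Subtype.val h
    rw [← Category.assoc (chMap Z o rfl), ← e₁, Category.assoc, ← Category.assoc τ.1, h', Category.assoc, T'.rel,
      ← Category.assoc, e₀, Category.assoc])
  haveI := hk
  haveI := fg_isIso_of_lift_id hX k D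
  exact ⟨Fib44.fiberIso (asIso k) hk ξ.2 ξ'.2⟩

variable {o' : O' ⟶ C'} {d' : Doubling o' D'} {t' : C' ⟶ B} {s' : O' ⟶ B} {hs' : o' ≫ t' = s'}

/-- The pullback of a form along a map of doublings has the restricted transition. -/
theorem Triv.pullback (hX : IsFibGrpd 𝒳.p) {ξ : 𝒳.p.Fiber D} {τ : AutT Z s} (T : Triv Z d t hs ξ τ) (oo : O' ⟶ O)
    (cc : C' ⟶ C) (hcc : cc ≫ t = t') (hoc : o' ≫ cc = oo ≫ o) (ρ : D' ⟶ D) (hρ : ∀ b, d'.c b ≫ ρ = cc ≫ d.c b)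
    {τ' : AutT Z s'} (hτ : IsRestr oo τ' τ) {z : 𝒳.p.Fiber D'} (a : z.1 ⟶ ξ.1) (ha : 𝒳.p.IsHomLift ρ a) :
    Nonempty (Triv Z d' t' hs' z τ') := by
  haveI := ha
  haveI := τ'.2
  have hμ : ∀ b, ∃ μ : (chObj Z t').1 ⟶ z.1, 𝒳.p.IsHomLift (d'.c b) μ ∧ μ ≫ a = chMap Z cc hcc ≫ T.μ b := fun b => by
    haveI := T.lift b
    obtain ⟨c, hc, -⟩ := exists_fac hX (d'.c b) rfl a ha (chMap Z cc hcc ≫ T.μ b) (by rw [hρ b]; infer_instance)
    exact ⟨c, hc⟩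
  choose μ hμl hμa using hμ
  refine ⟨⟨μ, hμl, ?_⟩⟩
  haveI := hμl true
  haveI := hμl false
  obtain ⟨h1, e1⟩ := hτ
  have hL : (o' ≫ cc) ≫ t = s' := by rw [Category.assoc, hcc, hs']
  have hcomp : ∀ b, chMap Z o' hs' ≫ μ b ≫ a = chMap Z oo h1 ≫ chMap Z o hs ≫ T.μ b := fun b => by
    rw [hμa, ← Category.assoc, ← Category.assoc (chMap Z oo h1),
      chMap_comp Z o' cc hs' hcc (o' ≫ cc) rfl hL, chMap_comp Z oo o h1 hs (o' ≫ cc) hoc.symm hL]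
  haveI := T.lift false
  obtain ⟨χ, -, huniq⟩ := exists_fac hX (o' ≫ d'.c false) rfl a ha (chMap Z o' hs' ≫ μ false ≫ a) (by
    rw [Category.assoc]; infer_instance)
  refine (huniq _ ?_ ?_).trans (huniq _ inferInstance ?_).symm
  · rw [d'.agree]; infer_instance
  · rw [Category.assoc, Category.assoc, hcomp true, ← Category.assoc, e1, Category.assoc, T.rel, ← hcomp false]
  · rw [Category.assoc]

/-- A form maps to another one over a map of doublings when the transition is conjugate to the restricted one. -/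
theorem exists_hom_of_rel (h𝒳 : Stk.IsStack (AlgSp.J S) 𝒳) {ξ : 𝒳.p.Fiber D} {τ : AutT Z s} (T : Triv Z d t hs ξ τ)
    {z : 𝒳.p.Fiber D'} {τ' : AutT Z s'} (T' : Triv Z d' t' hs' z τ') (oo : O' ⟶ O)
    (cc : C' ⟶ C) (hcc : cc ≫ t = t') (hoc : o' ≫ cc = oo ≫ o) (ρ : D' ⟶ D) (hρ : ∀ b, d'.c b ≫ ρ = cc ≫ d.c b)
    {τ₁ : AutT Z s'} (hτ : IsRestr oo τ₁ τ) (g : Bool → AutT Z t') (r : Bool → AutT Z s')
    (hr : ∀ b, IsRestr o' (r b) (g b)) (h : τ'.mul (r true) = (r false).mul τ₁) :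
    ∃ a : z.1 ⟶ ξ.1, 𝒳.p.IsHomLift ρ a := by
  have hX := h𝒳.1
  obtain ⟨z₁, a₁, ha₁⟩ := exists_lift_fiber hX ρ ξ
  obtain ⟨T₁⟩ := T.pullback hX (d' := d') (hs' := hs') oo cc hcc hoc ρ hρ hτ a₁ ha₁
  obtain ⟨e⟩ := iso_of_rel h𝒳 T' T₁ g r hr h
  haveI := e.hom.2
  haveI := ha₁
  exact ⟨e.hom.1 ≫ a₁, inferInstance⟩

/-- Forms correspond. -/
theorem isForm_corr (hX : IsFibGrpd 𝒳.p) (hY : IsFibGrpd 𝒴.p) (φ : FIso 𝒳 𝒴) {X : overCat B ⥤ᵇ 𝒳}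
    {Y : overCat B ⥤ᵇ 𝒴} (hXY : φ.toEquiv B (objCls X) = objCls Y) {ξ : 𝒳.p.Fiber D} {η : 𝒴.p.Fiber D}
    (hξη : φ.toEquiv D (cls ξ) = cls η) (h : IsForm X d t ξ) : IsForm Y d t η := fun b => by
  obtain ⟨μ, hμ⟩ := h b
  exact natural' φ (d.c b) μ hμ (corr_chObj hY φ hXY t) hξη

end Groth.Agent.IsoNat97
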