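import Groth.Agent.IsoNat97.Star
import Groth.Agent.IsoNat97.Forms

/-! Commutativity of automorphisms seen by forms on doubled stars of lines. -/

set_option autoImplicit false
set_option linter.unusedVariables false
set_option linter.style.haveILetI false
set_option backward.isDefEq.respectTransparency false
set_option backward.isDefEq.respectTransparency.types false
universe u

open CategoryTheory CategoryTheory.Limits AlgebraicGeometry Opposite AlgSt FibCat Polynomial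

namespace Groth.Agent.IsoNat97

open AlgSt88 IsoNat

variable {S : Scheme.{u}} {𝒳 𝒴 : AlgSt.Cat S}

/-- All automorphism groups of the pullbacks of a chart object are commutative. -/
def Abel {B : Over S} (X : overCat B ⥤ᵇ 𝒳) : Prop :=
  ∀ {T : Over S} (t : T ⟶ B) (a b : AutT X t), a.mul b = b.mul a

/-- Automorphisms are determined on a covering by open subschemes. -/
theorem autT_ext_cover (h𝒳 : Stk.IsStack (AlgSp.J S) 𝒳) {B T : Over S} {Z : overCat B ⥤ᵇ 𝒳} {t : T ⟶ B} {κ : Type}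
    {W : κ → Over S} (i : ∀ k, W k ⟶ T) (hi : ∀ k, IsOpenImmersion (i k).left)
    (hcov : ∀ x : T.left, ∃ k y, (i k).left y = x) {s : ∀ k, W k ⟶ B} {g g' : AutT Z t} {σ : ∀ k, AutT Z (s k)}
    (h : ∀ k, IsRestr (i k) (σ k) g) (h' : ∀ k, IsRestr (i k) (σ k) g') : g = g' := by
  have hX := h𝒳.1
  let R : Sieve T := Sieve.generate (Presieve.ofArrows W i)
  have hR : R ∈ AlgSp.J S T := by
    rw [GrothendieckTopology.mem_over_iff, Sieve.overEquiv_generate]
    let 𝒰 : T.left.OpenCover :=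
      Scheme.Cover.mkOfCovers (P := @IsOpenImmersion) κ (fun k => (W k).left) (fun k => (i k).left) hcov hi
    refine GrothendieckTopology.superset_covering _ ?_
      (Precoverage.generate_mem_toGrothendieck (Scheme.zariskiPrecoverage_le_fppfPrecoverage _ 𝒰.mem₀))
    rw [Sieve.generate_le_iff]
    rintro Z g ⟨k⟩
    exact Sieve.le_generate _ _ _ ⟨W k, i k, 𝟙 _, ⟨k⟩, by simp; rfl⟩
  haveI := g.2
  haveI := g'.2
  refine Subtype.ext (Fib44.hom_ext_of_lifts hX ((Fib44.isStack_iff.1 h𝒳).2 R hR).1 (chObj Z t).2 (𝟙 T) g.1 g'.1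
    fun V f hf => ?_)
  obtain ⟨Y, q, f', ⟨k⟩, rfl⟩ := hf
  obtain ⟨hk, e⟩ := h k
  obtain ⟨_, e'⟩ := h' k
  refine ⟨(chObj Z (q ≫ s k)).1, chMap Z q rfl ≫ chMap Z (i k) hk, inferInstance, ?_⟩
  rw [Category.assoc, Category.assoc, ← e, ← e']

section

variable {A : Type u} [CommRing A] {s₀ : Spec (CommRingCat.of A) ⟶ S}

instance isAffine_aPt (R : Type u) [CommRing R] [Algebra A R] : IsAffine (aPt s₀ R).left :=
  inferInstanceAs (IsAffine (Spec (CommRingCat.of R)))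

theorem puncLine_injective : Function.Injective (puncLine s₀).left.appTop := by
  show Function.Injective (Spec.map (CommRingCat.ofHom
    (IsScalarTower.toAlgHom A A[X] (Localization.Away (X : A[X]))).toRingHom)).appTop
  intro x y hxy
  apply (Scheme.ΓSpecIso (CommRingCat.of A[X])).commRingCatIsoToRingEquiv.injective
  apply IsLocalization.injective (Localization.Away (X : A[X]))
    (Submonoid.powers_le.2 (Polynomial.monic_X (R := A)).mem_nonZeroDivisors)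
  have h := congrArg (fun f => f.hom x) (Scheme.ΓSpecIso_naturality
    (CommRingCat.ofHom (IsScalarTower.toAlgHom A A[X] (Localization.Away (X : A[X]))).toRingHom))
  have h' := congrArg (fun f => f.hom y) (Scheme.ΓSpecIso_naturality
    (CommRingCat.ofHom (IsScalarTower.toAlgHom A A[X] (Localization.Away (X : A[X]))).toRingHom))
  exact h.symm.trans ((congrArg _ hxy).trans h')

/-- The base point. -/
noncomputable def basePt (s₀ : Spec (CommRingCat.of A) ⟶ S) : Over.mk s₀ ⟶ aPt s₀ A :=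
  Over.homMk (𝟙 _) (by show 𝟙 _ ≫ Spec.map _ ≫ s₀ = s₀; simp)

theorem basePt_aStr : basePt s₀ ≫ aStr s₀ A = 𝟙 _ := by
  ext : 1
  show 𝟙 _ ≫ Spec.map _ = 𝟙 _
  simp

/-- The inclusion of two of three lines. -/
def subLines (j : Fin 2) : Fin 2 → Fin 3 := ![0, j.succ]

/-- Forms on the doubled star are determined by their restrictions to pairs of lines through the first one. -/
def StarInj (X : overCat (Over.mk s₀) ⥤ᵇ 𝒳) : Prop :=
  ∀ (D : Over S) (d : Doubling (starOpen s₀ 2) D) (ξ ξ' : 𝒳.p.Fiber D),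
    IsForm X d (aStr s₀ (Star A 2)) ξ → IsForm X d (aStr s₀ (Star A 2)) ξ' →
    (∀ j : Fin 2, ∃ (D₂ : Over S) (d₂ : Doubling (starOpen s₀ 1) D₂) (ρ : D₂ ⟶ D) (z : 𝒳.p.Fiber D₂)
      (a : z.1 ⟶ ξ.1) (a' : z.1 ⟶ ξ'.1), (∀ b, d₂.c b ≫ ρ = aMap s₀ (starSub (subLines j)) ≫ d.c b) ∧
        𝒳.p.IsHomLift ρ a ∧ 𝒳.p.IsHomLift ρ a') →
    Nonempty (ξ ≅ ξ')

theorem exists_subOpen (j : Fin 2) : ∃ oo : puncSigma s₀ 1 ⟶ puncSigma s₀ 2,
    (∀ k, puncMem s₀ 1 k ≫ oo = puncMem s₀ 2 (subLines j k)) ∧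
      starOpen s₀ 1 ≫ aMap s₀ (starSub (subLines j)) = oo ≫ starOpen s₀ 2 := by
  obtain ⟨oo, hoo⟩ := exists_puncSigmaHom s₀ (n := 1) fun k => puncMem s₀ 2 (subLines j k)
  refine ⟨oo, hoo, puncSigma_hom_ext s₀ fun k => ?_⟩
  rw [← Category.assoc, puncMem_starOpen, ← Category.assoc, hoo, puncMem_starOpen]
  exact aMap_comp _ _

theorem starInj_of_abel (h𝒳 : Stk.IsStack (AlgSp.J S) 𝒳)
    (hIs : RepByAlgSpWith AlgSp.IsSeparatedMor (inertiaToBase (toSelf 𝒳))) {X : overCat (Over.mk s₀) ⥤ᵇ 𝒳}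
    (hab : Abel X) : StarInj X := by
  intro D d ξ ξ' hξ hξ' H
  have hX := h𝒳.1
  obtain ⟨τ, ⟨T⟩⟩ := exists_triv_of_isForm hX (t := aStr s₀ (Star A 2)) rfl hξ
  obtain ⟨τ', ⟨T'⟩⟩ := exists_triv_of_isForm hX (t := aStr s₀ (Star A 2)) rfl hξ'
  let δ := (τ.inv hX).mul τ'
  have hδi : ∀ i, ∃ δi : AutT X (aStr s₀ (Localization.Away (Polynomial.X : A[X]))), IsRestr (puncMem s₀ 2 i) δi δ :=
    fun i => IsRestr.exists_of hX (starOpen_aStr s₀ i) δ
  choose δi hδi using hδi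
  have hw : ∀ j, ∃ w : AutT X (aStr s₀ (Star A 1)), ∀ k, IsRestr (puncIncl s₀ k) (δi (subLines j k)) w := by
    intro j
    obtain ⟨D₂, d₂, ρ, z, a, a', hρ, ha, ha'⟩ := H j
    obtain ⟨oo, hoo, hsq⟩ := exists_subOpen (s₀ := s₀) j
    have hcc : aMap s₀ (starSub (subLines j)) ≫ aStr s₀ (Star A 2) = aStr s₀ (Star A 1) := aMap_aStr _
    have hoot : oo ≫ starOpen s₀ 2 ≫ aStr s₀ (Star A 2) = starOpen s₀ 1 ≫ aStr s₀ (Star A 1) := by
      rw [← Category.assoc, ← hsq, Category.assoc, hcc]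
    obtain ⟨τj, hτj⟩ := IsRestr.exists_of hX hoot τ
    obtain ⟨τj', hτj'⟩ := IsRestr.exists_of hX hoot τ'
    obtain ⟨T₁⟩ := T.pullback hX (d' := d₂) (hs' := rfl) oo _ hcc hsq ρ hρ hτj a ha
    obtain ⟨T₁'⟩ := T'.pullback hX (d' := d₂) (hs' := rfl) oo _ hcc hsq ρ hρ hτj' a' ha'
    obtain ⟨g, r, hr, hrel⟩ := rel_of_hom hX T₁ T₁' (𝟙 z.1) (IsHomLift.id z.2)
    refine ⟨((g false).inv hX).mul (g true), fun k => ?_⟩
    have h1 : IsRestr (starOpen s₀ 1) (((r false).inv hX).mul (r true)) (((g false).inv hX).mul (g true)) :=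
      IsRestr.mul ((hr false).inv hX) (hr true)
    have h2 : IsRestr oo (((r false).inv hX).mul (r true)) δ := by
      have h3 := IsRestr.mul (hτj.inv hX) hτj'
      convert h3 using 1
      have e : (r false).mul τj' = τj.mul (r true) := hrel.symm
      have e1 := congrArg (fun x => ((r false).inv hX).mul x) e
      simp only [← AutT.mul_assoc', AutT.inv_mul, AutT.one_mul'] at e1
      rw [e1, hab _ ((r false).inv hX) τj, ← AutT.mul_assoc' (τj.inv hX), ← AutT.mul_assoc' (τj.inv hX),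
        AutT.inv_mul, AutT.one_mul']
    obtain ⟨e₁, he₁⟩ := IsRestr.exists_of hX (starOpen_aStr s₀ k) (((r false).inv hX).mul (r true))
    obtain rfl := IsRestr.unique hX (he₁.trans h2 (hoo k)) (hδi _)
    exact he₁.trans h1 (puncMem_starOpen s₀ k)
  choose w hw using hw
  have hL : ∀ j k, ∃ L : AutT X (aStr s₀ A[X]), IsRestr (aMap s₀ (starLine k)) L (w j) := fun j k =>
    IsRestr.exists_of hX (aMap_aStr _) _
  choose L hL using hL
  have hLp : ∀ j k, IsRestr (puncLine s₀) (δi (subLines j k)) (L j k) := fun j k => by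
    obtain ⟨e₁, he₁⟩ := IsRestr.exists_of hX (aMap_aStr (IsScalarTower.toAlgHom A A[X] (Localization.Away (Polynomial.X : A[X])))) (L j k)
    obtain rfl := IsRestr.unique hX (he₁.trans (hL j k) (puncIncl_eq s₀ k)) (hw j k)
    exact he₁
  have hL0 : L 1 0 = L 0 0 := autT_eq_of_dense hX hIs (puncLine s₀) puncLine_injective (hLp 1 0) (hLp 0 0)
  -- values at the origin
  let cst : A[X] →ₐ[A] A[X] := (Algebra.ofId A A[X]).comp (aeval (0 : A))
  have hK : ∀ j, ∃ K : AutT X (aStr s₀ A[X]), IsRestr (aMap s₀ (originHom 1)) K (w j) := fun j =>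
    IsRestr.exists_of hX (aMap_aStr _) _
  choose K hK using hK
  have hKc : ∀ j, IsRestr (aMap s₀ cst) (K j) (L j 0) := fun j => by
    obtain ⟨e₁, he₁⟩ := IsRestr.exists_of hX (aMap_aStr cst) (L j 0)
    have ec : cst.comp (starLine (A := A) (n := 1) 0) = originHom 1 := rfl
    obtain rfl := IsRestr.unique hX (he₁.trans (hL j 0) ((aMap_comp (starLine (A := A) (n := 1) 0) cst).trans
      (congrArg (fun f : Star A 1 →ₐ[A] A[X] => aMap s₀ f) ec))) (hK j)
    exact he₁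
  have hK1 : K 1 = K 0 := IsRestr.unique hX (hKc 1) (hL0 ▸ hKc 0)
  let R₀ : A[X] →ₐ[A] Star A 2 := starMap (n := 2) ![AlgHom.id A A[X], cst, cst] fun i => by
    refine Polynomial.algHom_ext ?_
    fin_cases i <;> simp [cst]
  let gg : Fin 2 → Fin 3 → Option (Fin 2) := ![![some 0, some 1, none], ![some 0, none, some 1]]
  obtain ⟨W₀, hW₀⟩ := IsRestr.exists_of hX (aMap_aStr (starRet (gg 0))) (w 0)
  obtain ⟨W₁, hW₁⟩ := IsRestr.exists_of hX (aMap_aStr (starRet (gg 1))) (w 1)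
  obtain ⟨V₀, hV₀⟩ := IsRestr.exists_of hX (aMap_aStr R₀) (L 0 0)
  let ww := (W₀.mul W₁).mul (V₀.inv hX)
  -- restriction along a line
  have hline : ∀ (R R' : Type u) [CommRing R] [Algebra A R] [CommRing R'] [Algebra A R'] (f : R →ₐ[A] R')
      (g : R' →ₐ[A] A[X]) (gf : R →ₐ[A] A[X]), g.comp f = gf → ∀ (a : AutT X (aStr s₀ R)) (b : AutT X (aStr s₀ R'))
      (c : AutT X (aStr s₀ A[X])), IsRestr (aMap s₀ f) b a → IsRestr (aMap s₀ gf) c a → IsRestr (aMap s₀ g) c b := by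
    intro R R' _ _ _ _ f g gf hgf a b c hb hc
    obtain ⟨e₁, he₁⟩ := IsRestr.exists_of hX (aMap_aStr g) b
    obtain rfl := IsRestr.unique hX (he₁.trans hb ((aMap_comp f g).trans (congrArg (aMap s₀) hgf))) hc
    exact he₁
  have hline' : ∀ i : Fin 3, IsRestr (aMap s₀ (starLine i))
      (![L 0 0, L 0 1, L 1 1] i) ww := by
    have a0 : ∀ k m, gg 0 k = m → IsRestr (aMap s₀ (starLine k)) (m.elim (K 0) (L 0)) W₀ := by
      intro k m hm
      refine hline (Star A 1) (Star A 2) (starRet (gg 0)) (starLine k) ((gg 0 k).elim (originHom 1) starLine) (starLine_comp_starRet (gg 0) k) (w 0) W₀ (m.elim (K 0) (L 0)) hW₀ ?_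
      subst hm
      cases gg 0 k
      · exact hK 0
      · exact hL 0 _
    have a1 : ∀ k m, gg 1 k = m → IsRestr (aMap s₀ (starLine k)) (m.elim (K 1) (L 1)) W₁ := by
      intro k m hm
      refine hline (Star A 1) (Star A 2) (starRet (gg 1)) (starLine k) ((gg 1 k).elim (originHom 1) starLine) (starLine_comp_starRet (gg 1) k) (w 1) W₁ (m.elim (K 1) (L 1)) hW₁ ?_
      subst hm
      cases gg 1 k
      · exact hK 1
      · exact hL 1 _
    have a2 : ∀ (k : Fin 3) (c : AutT X (aStr s₀ A[X])), IsRestr (aMap s₀ ((starLine k).comp R₀)) c (L 0 0) →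
        IsRestr (aMap s₀ (starLine k)) c V₀ := fun k c hc =>
      hline A[X] (Star A 2) R₀ (starLine k) ((starLine k).comp R₀) rfl (L 0 0) V₀ c hV₀ hc
    intro i
    fin_cases i
    · have h := IsRestr.mul (IsRestr.mul (a0 0 (some 0) rfl) (a1 0 (some 0) rfl)) ((a2 0 (L 0 0) (by
        show IsRestr (aMap s₀ (AlgHom.id A A[X])) _ _
        rw [aMap_id]; exact IsRestr.refl _)).inv hX)
      have e : ((L 0 0).mul (L 1 0)).mul ((L 0 0).inv hX) = L 0 0 := by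
        rw [hL0, AutT.mul_assoc', AutT.mul_inv, AutT.mul_one']
      simp only [Option.elim_some] at h
      rw [e] at h
      exact h
    · have h := IsRestr.mul (IsRestr.mul (a0 1 (some 1) rfl) (a1 1 none rfl)) ((a2 1 (K 0) (hKc 0)).inv hX)
      have e : ((L 0 1).mul (K 1)).mul ((K 0).inv hX) = L 0 1 := by
        rw [hK1, AutT.mul_assoc', AutT.mul_inv, AutT.mul_one']
      simp only [Option.elim_some, Option.elim_none] at h
      rw [e] at h
      exact h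
    · have h := IsRestr.mul (IsRestr.mul (a0 2 none rfl) (a1 2 (some 1) rfl)) ((a2 2 (K 0) (hKc 0)).inv hX)
      have e : ((K 0).mul (L 1 1)).mul ((K 0).inv hX) = L 1 1 := by
        rw [hab _ (K 0) (L 1 1), AutT.mul_assoc', AutT.mul_inv, AutT.mul_one']
      simp only [Option.elim_some, Option.elim_none] at h
      rw [e] at h
      exact h
  obtain ⟨wo, hwo⟩ := IsRestr.exists_of hX (rfl : starOpen s₀ 2 ≫ aStr s₀ (Star A 2) = _) ww
  have hwoδ : wo = δ := by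
    refine autT_ext_cover h𝒳 (fun i => puncMem s₀ 2 i)
      (fun i => SpFP87.sigmaIncl_isOpenImmersion (fun _ : ULift.{u} (Fin 3) => puncPt s₀) ⟨i⟩) (puncSigma_cover s₀)
      (σ := δi) (fun i => ?_) hδi
    obtain ⟨e₁, he₁⟩ := IsRestr.exists_of hX (starOpen_aStr s₀ i) wo
    have hp : IsRestr (puncLine s₀) (δi i) (![L 0 0, L 0 1, L 1 1] i) := by
      fin_cases i
      · exact hLp 0 0
      · exact hLp 0 1
      · exact hLp 1 1
    obtain rfl := IsRestr.unique hX (he₁.trans hwo (puncMem_starOpen s₀ i)) (hp.trans (hline' i) (puncIncl_eq s₀ i))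
    exact he₁
  refine iso_of_rel h𝒳 T T' (fun b => bif b then ww else AutT.one) (fun b => bif b then wo else AutT.one)
    (fun b => ?_) ?_
  · cases b
    · exact IsRestr.one rfl
    · exact hwo
  · show τ.mul wo = AutT.one.mul τ'
    rw [hwoδ]; show τ.mul ((τ.inv hX).mul τ') = _
    rw [AutT.one_mul', ← AutT.mul_assoc', AutT.mul_inv, AutT.one_mul']

theorem comm_of_starInj (h𝒳 : Stk.IsStack (AlgSp.J S) 𝒳)
    (hIs : RepByAlgSpWith AlgSp.IsSeparatedMor (inertiaToBase (toSelf 𝒳))) {Z : overCat (Over.mk s₀) ⥤ᵇ 𝒳}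
    (hP : StarInj Z) (g k : AutT Z (𝟙 (Over.mk s₀))) : g.mul k = k.mul g := by
  have hX := h𝒳.1
  let b := (k.mul g).mul (k.inv hX)
  -- constant restrictions
  have hc : ∀ {T : Over S} (t : T ⟶ Over.mk s₀) (u : AutT Z (𝟙 (Over.mk s₀))), ∃ u' : AutT Z t, IsRestr t u' u :=
    fun t u => IsRestr.exists_of hX (Category.comp_id t) u
  choose cs hcs using @hc
  have cs_restr : ∀ {T T' : Over S} (l : T' ⟶ T) {t : T ⟶ Over.mk s₀} {t' : T' ⟶ Over.mk s₀} (h : l ≫ t = t')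
      (u : AutT Z (𝟙 (Over.mk s₀))), IsRestr l (cs t' u) (cs t u) := fun {T T'} l {t t'} h u => by
    obtain ⟨e₁, he₁⟩ := IsRestr.exists_of hX h (cs t u)
    obtain rfl := IsRestr.unique hX (he₁.trans (hcs t u) h) (hcs t' u)
    exact he₁
  have cs_mul : ∀ {T : Over S} (t : T ⟶ Over.mk s₀) (u v : AutT Z (𝟙 (Over.mk s₀))),
      cs t (u.mul v) = (cs t u).mul (cs t v) := fun t u v =>
    IsRestr.unique hX (hcs t _) (IsRestr.mul (hcs t u) (hcs t v))
  have cs_one : ∀ {T : Over S} (t : T ⟶ Over.mk s₀), cs t AutT.one = AutT.one := fun t =>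
    IsRestr.unique hX (hcs t _) (IsRestr.one (Category.comp_id t))
  let P := aStr s₀ (Localization.Away (Polynomial.X : A[X]))
  let hopen : ∀ n (i : Fin (n + 1)), IsOpenImmersion (puncMem s₀ n i).left := fun n i =>
    SpFP87.sigmaIncl_isOpenImmersion (fun _ : ULift.{u} (Fin (n + 1)) => puncPt s₀) ⟨i⟩
  have glue : ∀ (n : ℕ) (fam : Fin (n + 1) → AutT Z (𝟙 (Over.mk s₀))),
      ∃ τ : AutT Z (starOpen s₀ n ≫ aStr s₀ (Star A n)), ∀ i, IsRestr (puncMem s₀ n i) (cs P (fam i)) τ :=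
    fun n fam => exists_autT_glue h𝒳 Z _ (fun i => puncMem s₀ n i) (hopen n) (puncSigma_cover s₀)
      (fun i j a b h => puncSigma_disj s₀ i j a b h) (starOpen_aStr s₀) _
  have glue_eq : ∀ (n : ℕ) {τ τ' : AutT Z (starOpen s₀ n ≫ aStr s₀ (Star A n))}
      (fam : Fin (n + 1) → AutT Z (𝟙 (Over.mk s₀))), (∀ i, IsRestr (puncMem s₀ n i) (cs P (fam i)) τ) →
      (∀ i, IsRestr (puncMem s₀ n i) (cs P (fam i)) τ') → τ = τ' := fun n {τ τ'} fam h h' =>
    autT_ext_cover h𝒳 (fun i => puncMem s₀ n i) (hopen n) (puncSigma_cover s₀) h h'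
  obtain ⟨τ, hτ⟩ := glue 2 ![AutT.one, g, g]
  obtain ⟨τ', hτ'⟩ := glue 2 ![AutT.one, g, b]
  obtain ⟨D, ⟨d⟩⟩ := exists_doubling (starOpen s₀ 2)
  obtain ⟨ξ, ⟨T⟩⟩ := exists_triv h𝒳 Z d (aStr s₀ (Star A 2)) rfl τ
  obtain ⟨ξ', ⟨T'⟩⟩ := exists_triv h𝒳 Z d (aStr s₀ (Star A 2)) rfl τ'
  obtain ⟨e⟩ := hP D d ξ ξ' T.isForm T'.isForm (fun j => by
    obtain ⟨oo, hoo, hsq⟩ := exists_subOpen (s₀ := s₀) j
    obtain ⟨D₂, ⟨d₂⟩⟩ := exists_doubling (starOpen s₀ 1)
    let cc := aMap s₀ (starSub (A := A) (subLines j))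
    obtain ⟨ρ, hρ⟩ := d₂.exists_desc₂ (fun c => cc ≫ d.c c) (by
      show starOpen s₀ 1 ≫ cc ≫ _ = starOpen s₀ 1 ≫ cc ≫ _
      rw [← Category.assoc, hsq, Category.assoc, d.agree, ← Category.assoc, ← hsq, Category.assoc])
    have hcc : cc ≫ aStr s₀ (Star A 2) = aStr s₀ (Star A 1) := aMap_aStr _
    obtain ⟨τ₂, hτ₂⟩ := glue 1 ![AutT.one, g]
    obtain ⟨z, ⟨T₂⟩⟩ := exists_triv h𝒳 Z d₂ (aStr s₀ (Star A 1)) rfl τ₂
    have hoot : oo ≫ starOpen s₀ 2 ≫ aStr s₀ (Star A 2) = starOpen s₀ 1 ≫ aStr s₀ (Star A 1) := by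
      rw [← Category.assoc, ← hsq, Category.assoc, hcc]
    have restr : ∀ (fam : Fin 3 → AutT Z (𝟙 (Over.mk s₀))) {σ : AutT Z (starOpen s₀ 2 ≫ aStr s₀ (Star A 2))},
        (∀ i, IsRestr (puncMem s₀ 2 i) (cs P (fam i)) σ) →
        ∃ σ₁ : AutT Z (starOpen s₀ 1 ≫ aStr s₀ (Star A 1)), IsRestr oo σ₁ σ ∧ ∀ k, IsRestr (puncMem s₀ 1 k) (cs P (fam (subLines j k))) σ₁ := by
      intro fam σ hσ
      obtain ⟨σ₁, hσ₁⟩ := IsRestr.exists_of hX hoot σ
      refine ⟨σ₁, hσ₁, fun k' => ?_⟩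
      obtain ⟨e₁, he₁⟩ := IsRestr.exists_of hX (starOpen_aStr s₀ k') σ₁
      obtain rfl := IsRestr.unique hX (he₁.trans hσ₁ (hoo k')) (hσ _)
      exact he₁
    obtain ⟨σ, hσ, hσk⟩ := restr _ hτ
    obtain ⟨σ', hσ', hσk'⟩ := restr _ hτ'
    let q : AutT Z (𝟙 (Over.mk s₀)) := ![AutT.one, k.inv hX] j
    have hq : ∀ i : Fin 2, (![AutT.one, g] i).mul q =
        q.mul ((![AutT.one, g, b] : Fin 3 → AutT Z (𝟙 (Over.mk s₀))) (subLines j i)) := by
      intro i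
      fin_cases i <;> fin_cases j <;>
        simp [q, subLines, b, AutT.one_mul', AutT.mul_one', ← AutT.mul_assoc', AutT.inv_mul]
    obtain ⟨a, ha⟩ := exists_hom_of_rel h𝒳 T T₂ oo cc hcc hsq ρ hρ hσ (fun _ => AutT.one) (fun _ => AutT.one)
      (fun _ => IsRestr.one rfl) (by
        rw [AutT.one_mul', AutT.mul_one']
        refine glue_eq 1 ![AutT.one, g] hτ₂ fun i => ?_
        convert hσk i using 2
        fin_cases i <;> fin_cases j <;> simp [subLines])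
    obtain ⟨a', ha'⟩ := exists_hom_of_rel h𝒳 T' T₂ oo cc hcc hsq ρ hρ hσ' (fun _ => cs _ q) (fun _ => cs _ q)
      (fun _ => cs_restr _ rfl q) (by
        refine glue_eq 1 (fun i => (![AutT.one, g] i).mul q) (fun i => ?_) (fun i => ?_)
        · rw [cs_mul]
          exact IsRestr.mul (hτ₂ i) (cs_restr _ (starOpen_aStr s₀ i) q)
        · rw [hq i, cs_mul]
          exact IsRestr.mul (cs_restr _ (starOpen_aStr s₀ i) q) (hσk' i))
    exact ⟨D₂, d₂, ρ, z, a, a', hρ, ha, ha'⟩)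
  obtain ⟨gg, rr, hrr, hrel⟩ := rel_of_hom hX T T' e.hom.1 e.hom.2
  let O3 : Over.mk s₀ ⟶ aPt s₀ (Star A 2) := basePt s₀ ≫ aMap s₀ starOrigin
  have hO3 : O3 ≫ aStr s₀ (Star A 2) = 𝟙 _ := by rw [Category.assoc, aMap_aStr, basePt_aStr]
  obtain ⟨U, hU⟩ := IsRestr.exists_of hX hO3 (gg true)
  obtain ⟨V, hV⟩ := IsRestr.exists_of hX hO3 (gg false)
  have key : ∀ i : Fin 3, ((![AutT.one, g, g] : Fin 3 → AutT Z (𝟙 (Over.mk s₀))) i).mul U =
      V.mul ((![AutT.one, g, b] : Fin 3 → AutT Z (𝟙 (Over.mk s₀))) i) := by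
    intro i
    obtain ⟨lt, hlt⟩ := IsRestr.exists_of hX (aMap_aStr (starLine (A := A) i)) (gg true)
    obtain ⟨lf, hlf⟩ := IsRestr.exists_of hX (aMap_aStr (starLine (A := A) i)) (gg false)
    obtain ⟨pt, hpt⟩ := IsRestr.exists_of hX (starOpen_aStr s₀ i) (rr true)
    obtain ⟨pf, hpf⟩ := IsRestr.exists_of hX (starOpen_aStr s₀ i) (rr false)
    have lp : ∀ {l : AutT Z (aStr s₀ A[X])} {r : AutT Z (starOpen s₀ 2 ≫ aStr s₀ (Star A 2))}
        {p : AutT Z P} {gb : AutT Z (aStr s₀ (Star A 2))}, IsRestr (aMap s₀ (starLine i)) l gb →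
        IsRestr (starOpen s₀ 2) r gb → IsRestr (puncMem s₀ 2 i) p r → IsRestr (puncLine s₀) p l := by
      intro l r p gb h1 h2 h3
      obtain ⟨e₁, he₁⟩ := IsRestr.exists_of hX (aMap_aStr (IsScalarTower.toAlgHom A A[X] (Localization.Away (Polynomial.X : A[X])))) l
      obtain rfl := IsRestr.unique hX (he₁.trans h1 (puncIncl_eq s₀ i)) (h3.trans h2 (puncMem_starOpen s₀ i))
      exact he₁
    let fa : AutT Z (𝟙 (Over.mk s₀)) := (![AutT.one, g, g] : Fin 3 → AutT Z (𝟙 (Over.mk s₀))) i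
    let fb : AutT Z (𝟙 (Over.mk s₀)) := (![AutT.one, g, b] : Fin 3 → AutT Z (𝟙 (Over.mk s₀))) i
    have hp : (cs P fa).mul pt = pf.mul (cs P fb) := by
      have h1 := IsRestr.mul (hτ i) hpt
      have h2 := IsRestr.mul hpf (hτ' i)
      rw [← hrel] at h2
      exact IsRestr.unique hX h1 h2
    have hline : (cs (aStr s₀ A[X]) fa).mul lt = lf.mul (cs (aStr s₀ A[X]) fb) := by
      refine autT_eq_of_dense hX hIs (puncLine s₀) puncLine_injective (r := (cs P fa).mul pt) ?_ ?_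
      · exact IsRestr.mul (cs_restr _ (aMap_aStr _) fa) (lp hlt (hrr true) hpt)
      · rw [hp]; exact IsRestr.mul (lp hlf (hrr false) hpf) (cs_restr _ (aMap_aStr _) fb)
    let z0 : Over.mk s₀ ⟶ aPt s₀ A[X] := basePt s₀ ≫ aMap s₀ (aeval (0 : A))
    have hz0 : z0 ≫ aStr s₀ A[X] = 𝟙 _ := by rw [Category.assoc, aMap_aStr, basePt_aStr]
    have hz1 : z0 ≫ aMap s₀ (starLine i) = O3 := by
      show (basePt s₀ ≫ _) ≫ _ = basePt s₀ ≫ _
      rw [Category.assoc, aMap_comp, aeval_comp_starLine]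
    have at0 : ∀ {l : AutT Z (aStr s₀ A[X])} {W : AutT Z (𝟙 (Over.mk s₀))} {gb : AutT Z (aStr s₀ (Star A 2))},
        IsRestr (aMap s₀ (starLine i)) l gb → IsRestr O3 W gb → IsRestr z0 W l := by
      intro l W gb h1 h2
      obtain ⟨e₁, he₁⟩ := IsRestr.exists_of hX hz0 l
      obtain rfl := IsRestr.unique hX (he₁.trans h1 hz1) h2
      exact he₁
    have cs0 : ∀ u : AutT Z (𝟙 (Over.mk s₀)), IsRestr z0 u (cs (aStr s₀ A[X]) u) := fun u => by
      have := cs_restr z0 hz0 u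
      rwa [show cs (𝟙 (Over.mk s₀)) u = u from IsRestr.unique hX (hcs (𝟙 (Over.mk s₀)) u) (IsRestr.refl u)] at this
    have h1 := IsRestr.mul (cs0 fa) (at0 hlt hU)
    have h2 := IsRestr.mul (at0 hlf hV) (cs0 fb)
    rw [hline] at h1
    exact IsRestr.unique hX h1 h2
  have k0 : U = V := by simpa [AutT.one_mul', AutT.mul_one'] using key 0
  have k1 : g.mul U = V.mul g := by simpa using key 1
  have k2 : g.mul U = V.mul b := by simpa using key 2
  have h3 : g = b := by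
    have := congrArg (fun x => (V.inv hX).mul x) (k1.symm.trans k2)
    simpa only [← AutT.mul_assoc', AutT.inv_mul, AutT.one_mul'] using this
  have h4 := congrArg (fun x => x.mul k) h3
  simpa only [b, AutT.mul_assoc', AutT.inv_mul, AutT.mul_one'] using h4

theorem starInj_corr (hX : IsFibGrpd 𝒳.p) (hY : IsFibGrpd 𝒴.p) (φ : FIso 𝒳 𝒴) {X : overCat (Over.mk s₀) ⥤ᵇ 𝒳}
    {Y : overCat (Over.mk s₀) ⥤ᵇ 𝒴} (hXY : φ.toEquiv (Over.mk s₀) (objCls X) = objCls Y) (h : StarInj X) :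
    StarInj Y := by
  intro D d η η' hη hη' H
  let ψ := symm hX hY φ
  have hXY' : ψ.toEquiv (Over.mk s₀) (objCls Y) = objCls X := (Equiv.symm_apply_eq _).2 hXY.symm
  obtain ⟨ξ, hξ⟩ := cls_surjective 𝒳 D (ψ.toEquiv D (cls η))
  obtain ⟨ξ', hξ'⟩ := cls_surjective 𝒳 D (ψ.toEquiv D (cls η'))
  obtain ⟨e⟩ := h D d ξ ξ' (isForm_corr hY hX ψ hXY' hξ.symm hη) (isForm_corr hY hX ψ hXY' hξ'.symm hη') (fun j => by
    obtain ⟨D₂, d₂, ρ, z, a, a', hρ, ha, ha'⟩ := H j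
    obtain ⟨z₁, hz₁⟩ := cls_surjective 𝒳 D₂ (ψ.toEquiv D₂ (cls z))
    obtain ⟨b, hb⟩ := natural' ψ ρ a ha hz₁.symm hξ.symm
    obtain ⟨b', hb'⟩ := natural' ψ ρ a' ha' hz₁.symm hξ'.symm
    exact ⟨D₂, d₂, ρ, z₁, b, b', hρ, hb, hb'⟩)
  refine cls_eq_iff.1 ((ψ.toEquiv D).injective ?_)
  rw [← hξ, ← hξ', cls_eq_iff.2 ⟨e⟩]

end

end Groth.Agent.IsoNat97
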