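import Groth.Agent.IsoNat97.Abel

/-! Commutativity of automorphism groups is detected by isomorphism classes. -/

set_option autoImplicit false
set_option linter.unusedVariables false
set_option backward.isDefEq.respectTransparency false
set_option backward.isDefEq.respectTransparency.types false
universe u

open CategoryTheory CategoryTheory.Limits AlgebraicGeometry Opposite AlgSt FibCat

namespace Groth.Agent.IsoNat97

open AlgSt88 IsoNat

variable {S : Scheme.{u}} {𝒳 𝒴 : AlgSt.Cat S}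

/-- Charts with a map to an object with abelian automorphism sheaf are abelian. -/
theorem abel_of_isAutAbelian (hX : IsFibGrpd 𝒳.p) {T B : Over S} {η : 𝒳.p.Fiber T} (hab : IsAutAbelian η)
    (X : overCat B ⥤ᵇ 𝒳) (b : (chObj X (𝟙 B)).1 ⟶ η.1) : Abel X := by
  intro T' t a c
  haveI := a.2
  haveI := c.2
  haveI := fg_isIso_of_lift_id hX a.1 T'
  haveI := fg_isIso_of_lift_id hX c.1 T'
  let A : Aut (chObj X t) := Fib44.fiberIso (asIso a.1) a.2 (chObj X t).2 (chObj X t).2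
  let C : Aut (chObj X t) := Fib44.fiberIso (asIso c.1) c.2 (chObj X t).2 (chObj X t).2
  have h := hab T' (chObj X t) (chMap X t (Category.comp_id t) ≫ b) A C
  have h' := congrArg (fun e : Aut (chObj X t) => e.hom.1) h
  exact Subtype.ext h'.symm

theorem isAutAbelian_transfer (h𝒳 : Stk.IsStack (AlgSp.J S) 𝒳) (h𝒴 : Stk.IsStack (AlgSp.J S) 𝒴)
    (hXs : RepByAlgSpWith AlgSp.IsSeparatedMor (inertiaToBase (toSelf 𝒳)))
    (hYs : RepByAlgSpWith AlgSp.IsSeparatedMor (inertiaToBase (toSelf 𝒴)))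
    (φ : FIso 𝒳 𝒴) {T : Over S} {η : 𝒳.p.Fiber T} {η' : 𝒴.p.Fiber T} (hη : φ.toEquiv T (cls η) = cls η')
    (hab : IsAutAbelian η) : IsAutAbelian η' := by
  intro T' x a0 s t
  have hX := h𝒳.1
  have hY := h𝒴.1
  let ψ := symm hX hY φ
  let g0 : T' ⟶ T := eqToHom x.2.symm ≫ 𝒴.p.map a0 ≫ eqToHom η'.2
  haveI ha0 : 𝒴.p.IsHomLift g0 a0 := IsHomLift.of_fac 𝒴.p g0 a0 x.2 η'.2 rfl
  haveI := s.hom.2
  haveI := t.hom.2
  let 𝒰 := T'.left.affineOpenCover
  let W : 𝒰.I₀ → Over S := fun i => Over.mk (𝒰.f i ≫ T'.hom)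
  let c : ∀ i, W i ⟶ T' := fun i => Over.homMk (𝒰.f i) rfl
  let R : Sieve T' := Sieve.generate (Presieve.ofArrows W c)
  have hR : R ∈ AlgSp.J S T' := by
    rw [GrothendieckTopology.mem_over_iff, Sieve.overEquiv_generate]
    refine GrothendieckTopology.superset_covering _ ?_
      (Precoverage.generate_mem_toGrothendieck
        (Scheme.zariskiPrecoverage_le_fppfPrecoverage _ 𝒰.openCover.mem₀))
    rw [Sieve.generate_le_iff]
    rintro Z g ⟨i⟩
    exact Sieve.le_generate _ _ _ ⟨W i, c i, 𝟙 _, ⟨i⟩, by simp; rfl⟩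
  refine Aut.ext (Subtype.ext ?_)
  show t.hom.1 ≫ s.hom.1 = s.hom.1 ≫ t.hom.1
  refine Fib44.hom_ext_of_lifts hY ((Fib44.isStack_iff.1 h𝒴).2 R hR).1 x.2 (𝟙 T') (t.hom.1 ≫ s.hom.1)
    (s.hom.1 ≫ t.hom.1) fun V g hg => ?_
  obtain ⟨Y, q, g', ⟨i⟩, rfl⟩ := hg
  obtain ⟨z, a, ha⟩ := exists_lift_fiber hY (c i) x
  obtain ⟨z', b, hb⟩ := exists_lift_fiber hY q z
  haveI := ha
  haveI := hb
  refine ⟨z'.1, b ≫ a, inferInstance, ?_⟩
  rw [Category.assoc, Category.assoc]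
  congr 1
  obtain ⟨χs, ⟨hχs, hes⟩, -⟩ :=
    exists_fac hY (𝟙 (W i)) (Category.id_comp (c i)) a ha (a ≫ s.hom.1) inferInstance
  obtain ⟨χt, ⟨hχt, het⟩, -⟩ :=
    exists_fac hY (𝟙 (W i)) (Category.id_comp (c i)) a ha (a ≫ t.hom.1) inferInstance
  haveI := hχs
  haveI := hχt
  let Z := classify hY z.1 z.2
  obtain ⟨e, he⟩ := classify_mk_id hY z.1 z.2
  haveI := he
  haveI := fg_isIso_of_lift_id hY e.hom (W i)
  let u : AutT Z (𝟙 (W i)) := ⟨e.hom ≫ χs ≫ inv e.hom, inferInstance⟩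
  let v : AutT Z (𝟙 (W i)) := ⟨e.hom ≫ χt ≫ inv e.hom, inferInstance⟩
  obtain ⟨X, hX'⟩ := exists_corr hX ψ Z
  have hXZ : φ.toEquiv (W i) (objCls X) = objCls Z := by
    rw [← hX']; exact Equiv.apply_symm_apply _ _
  have hzZ : cls z = objCls Z := (cls_eq_iff.2 ⟨Fib44.fiberIso e he _ z.2⟩).symm
  obtain ⟨m, -⟩ := natural' ψ (c i ≫ g0) (x' := z) (x := η') (a ≫ a0) inferInstance
    (y' := chObj X (𝟙 (W i))) (y := η) (by rw [hzZ]; exact hX') ((Equiv.symm_apply_eq _).2 hη.symm)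
  have hcomm := comm_of_starInj (A := ↥(𝒰.X i)) (s₀ := 𝒰.f i ≫ T'.hom) h𝒴 hYs
    (starInj_corr hX hY φ hXZ (starInj_of_abel h𝒳 hXs (abel_of_isAutAbelian hX hab X m))) u v
  have h1 : χs ≫ χt = χt ≫ χs := by
    have h2 : (e.hom ≫ χs ≫ inv e.hom) ≫ e.hom ≫ χt ≫ inv e.hom =
        (e.hom ≫ χt ≫ inv e.hom) ≫ e.hom ≫ χs ≫ inv e.hom := congrArg Subtype.val hcomm
    simp only [Category.assoc, IsIso.inv_hom_id_assoc] at h2
    rwa [cancel_epi, ← Category.assoc, ← Category.assoc χt, cancel_mono] at h2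
  rw [← Category.assoc, ← het, Category.assoc, ← hes, ← Category.assoc, ← h1, Category.assoc, het,
    ← Category.assoc, hes, Category.assoc]

end Groth.Agent.IsoNat97
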