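import Groth.Agent.IsoNat97.AutTransfer

/-! The correspondence of abelian automorphism groups, natural in the scheme. -/

set_option autoImplicit false
set_option linter.unusedVariables false
set_option linter.style.haveILetI false
set_option backward.isDefEq.respectTransparency false
set_option backward.isDefEq.respectTransparency.types false
universe u

open CategoryTheory CategoryTheory.Limits AlgebraicGeometry Opposite AlgSt FibCat

namespace Groth.Agent.IsoNat97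

open AlgSt88 IsoNat

variable {S : Scheme.{u}} {𝒳 𝒴 : AlgSt.Cat S} {T : Over S} {φ : FIso 𝒳 𝒴} {Z : overCat T ⥤ᵇ 𝒳}
  {Y : overCat T ⥤ᵇ 𝒴}

/-- Automorphisms of pullbacks corresponding on every affine. -/
def GRelT (φ : FIso 𝒳 𝒴) {V₀ : Over S} {t : V₀ ⟶ T} (g : AutT Z t) (g' : AutT Y t) : Prop :=
  ∀ (A : Type u) [CommRing A] (s₀ : Spec (CommRingCat.of A) ⟶ S) (b : Over.mk s₀ ⟶ V₀) (c : Over.mk s₀ ⟶ T)
    (h : AutT Z c) (h' : AutT Y c), IsRestr b h g → IsRestr b h' g' → LoopR φ c h h'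

theorem gRelT_unique (P : AbPair φ Z Y) {V₀ : Over S} {t : V₀ ⟶ T} {g : AutT Z t} {g' g'' : AutT Y t} (h' : GRelT φ g g')
    (h'' : GRelT φ g g'') : g' = g'' := by
  have hX := P.stkX.1
  have hY := P.stkY.1
  choose A hA s₀ w hw hxw hwO using fun x : V₀.left => exists_affine_over (O := ⊤) (x := x) trivial
  refine autT_ext_open P.stkY w hw (fun x => ⟨x, hxw x⟩) fun x => ?_
  letI := hA x
  obtain ⟨a, ha⟩ := IsRestr.exists_of hY (rfl : w x ≫ t = _) g'
  obtain ⟨c, hc⟩ := IsRestr.exists_of hY (rfl : w x ≫ t = _) g''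
  obtain ⟨a₁, ha₁⟩ := IsRestr.exists_of hY (rfl : w x ≫ t = _) g'
  obtain ⟨c₁, hc₁⟩ := IsRestr.exists_of hY (rfl : w x ≫ t = _) g''
  obtain ⟨h, hh⟩ := IsRestr.exists_of hX (rfl : w x ≫ t = _) g
  have e : a₁ = c₁ := loopR_unique P (h' (A x) (s₀ x) (w x) _ h a₁ hh ha₁) (h'' (A x) (s₀ x) (w x) _ h c₁ hh hc₁)
  subst e
  refine ⟨a, ha, ?_⟩
  obtain ⟨a₂, ha₂⟩ := IsRestr.exists_of hY (Category.id_comp _ : 𝟙 _ ≫ (w x ≫ t) = w x ≫ t) a₁
  obtain rfl := IsRestr.unique hY (ha₂.trans ha₁ (Category.id_comp _)) ha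
  obtain rfl := IsRestr.unique hY (ha₂.trans hc₁ (Category.id_comp _)) hc
  exact hc

theorem exists_gRelT (P : AbPair φ Z Y) {V₀ : Over S} {t : V₀ ⟶ T} (g : AutT Z t) : ∃ g' : AutT Y t, GRelT φ g g' := by
  have hX := P.stkX.1
  have hY := P.stkY.1
  choose A hA s₀ w hw hxw hwO using fun x : V₀.left => exists_affine_over (O := ⊤) (x := x) trivial
  choose h hh using fun x => IsRestr.exists_of hX (rfl : w x ≫ t = _) g
  choose h' hh' using fun x : V₀.left => (letI := hA x; exists_loopR P (w x ≫ t) (h x))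
  obtain ⟨g', hg'⟩ := exists_autT_glue_open P.stkY Y t w hw (fun x => ⟨x, hxw x⟩) h'
    (fun x y V p r hpr v a c ha hc => by
      choose A' hA' s₁ q hq hxq hqO using fun z : V.left => exists_affine_over (O := ⊤) (x := z) trivial
      refine autT_ext_open P.stkY q hq (fun z => ⟨z, hxq z⟩) fun z => ?_
      letI := hA' z
      letI := hA x
      letI := hA y
      obtain ⟨a₁, ha₁⟩ := IsRestr.exists_of hY (rfl : q z ≫ v = _) a
      obtain ⟨c₁, hc₁⟩ := IsRestr.exists_of hY (rfl : q z ≫ v = _) c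
      have ha' := ha₁.trans ha rfl
      have hc' := hc₁.trans hc rfl
      obtain ⟨k, hk⟩ := IsRestr.exists_of hX ha'.choose (h x)
      obtain ⟨k₂, hk₂⟩ := IsRestr.exists_of hX hc'.choose (h y)
      obtain rfl := IsRestr.unique hX (hk.trans (hh x) rfl) (hk₂.trans (hh y) (by rw [Category.assoc, Category.assoc, hpr]))
      have e : a₁ = c₁ := loopR_unique P (loopR_restr' P _ (hh' x) hk ha') (loopR_restr' P _ (hh' y) hk₂ hc')
      subst e
      exact ⟨a₁, ha₁, hc₁⟩)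
  refine ⟨g', fun A₀ _ t₀ b c k k' hk hk' => ?_⟩
  obtain rfl := hk.choose
  obtain ⟨k'', hk''⟩ := exists_loopR P (b ≫ t) k
  have e : k' = k'' := by
    have hpc : ∀ z : (Over.mk t₀).left, ∃ x : V₀.left, b.left z ∈ Set.range (w x).left := fun z => ⟨b.left z, hxw _⟩
    choose i hi using hpc
    haveI : ∀ x, IsOpenImmersion (w x).left := hw
    choose A' hA' s₁ q hq hxq hqO using fun z : (Over.mk t₀).left => exists_affine_over
      (O := b.left ⁻¹ᵁ (w (i z)).left.opensRange) (x := z) (hi z)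
    refine autT_ext_open P.stkY q hq (fun z => ⟨z, hxq z⟩) fun z => ?_
    letI := hA' z
    letI := hA (i z)
    let p : Over.mk (s₁ z) ⟶ Over.mk (s₀ (i z)) := Over.homMk (IsOpenImmersion.lift (w (i z)).left ((q z).left ≫ b.left)
      (by rintro _ ⟨m, rfl⟩; exact hqO z ⟨m, rfl⟩)) (by
        show _ ≫ s₀ (i z) = s₁ z
        refine (congrArg _ (Over.w (w (i z))).symm).trans ?_
        rw [← Category.assoc, IsOpenImmersion.lift_fac, Category.assoc]
        exact (congrArg _ (Over.w b)).trans (Over.w (q z)))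
    have hp : p ≫ w (i z) = q z ≫ b := Over.OverMorphism.ext (IsOpenImmersion.lift_fac _ _ _)
    obtain ⟨a, ha⟩ := IsRestr.exists_of hY (rfl : q z ≫ (b ≫ t) = _) k'
    obtain ⟨c, hc⟩ := IsRestr.exists_of hY (rfl : q z ≫ (b ≫ t) = _) k''
    obtain ⟨m, hm⟩ := IsRestr.exists_of hX (rfl : q z ≫ (b ≫ t) = _) k
    have hpt : p ≫ w (i z) ≫ t = q z ≫ (b ≫ t) := by rw [← Category.assoc, hp, Category.assoc]
    obtain ⟨m₂, hm₂⟩ := IsRestr.exists_of hX hpt (h (i z))
    obtain rfl := IsRestr.unique hX (hm₂.trans (hh (i z)) hp) (hm.trans hk rfl)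
    obtain ⟨a₂, ha₂⟩ := IsRestr.exists_of hY hpt (h' (i z))
    obtain rfl := IsRestr.unique hY (ha₂.trans (hg' (i z)) hp) (ha.trans hk' rfl)
    have e : a₂ = c := loopR_unique P (loopR_restr' P _ (hh' (i z)) hm₂ ha₂) (loopR_restr' P _ hk'' hm hc)
    subst e
    exact ⟨a₂, ha, hc⟩
  rwa [e]

theorem gRelT_mul (P : AbPair φ Z Y) {V₀ : Over S} {t : V₀ ⟶ T} {g k : AutT Z t} {g' k' : AutT Y t} (hg : GRelT φ g g')
    (hk : GRelT φ k k') : GRelT φ (g.mul k) (g'.mul k') := by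
  intro A _ s₀ b c h h' hh hh'
  obtain rfl := hh.choose
  have hX := P.stkX.1
  have hY := P.stkY.1
  obtain ⟨hg₁, e₁⟩ := IsRestr.exists_of hX (rfl : b ≫ t = _) g
  obtain ⟨hk₁, e₂⟩ := IsRestr.exists_of hX (rfl : b ≫ t = _) k
  obtain ⟨hg₂, e₃⟩ := IsRestr.exists_of hY (rfl : b ≫ t = _) g'
  obtain ⟨hk₂, e₄⟩ := IsRestr.exists_of hY (rfl : b ≫ t = _) k'
  obtain rfl := IsRestr.unique hX hh (IsRestr.mul e₁ e₂)
  obtain rfl := IsRestr.unique hY hh' (IsRestr.mul e₃ e₄)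
  obtain ⟨l', hl'⟩ := exists_loopR P (b ≫ t) (hg₁.mul hk₁)
  rwa [← loopR_mul P (hg A s₀ b _ _ _ e₁ e₃) (hk A s₀ b _ _ _ e₂ e₄) hl']

/-- A natural isomorphism between the abelian automorphism sheaves of corresponding charts. -/
theorem exists_autT_natEquiv (P : AbPair φ Z Y) :
    ∃ F : ∀ (V : Over S) (t : V ⟶ T), AutT Z t ≃ AutT Y t,
      (∀ V t (a c : AutT Z t), F V t (a.mul c) = (F V t a).mul (F V t c)) ∧
      ∀ {V' V : Over S} (l : V' ⟶ V) (t' : V' ⟶ T) (t : V ⟶ T) (a' : AutT Z t') (a : AutT Z t),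
        IsRestr l a' a → IsRestr l (F V' t' a') (F V t a) := by
  have hX := P.stkX.1
  have hY := P.stkY.1
  have P' : AbPair (symm hX hY φ) Y Z :=
    ⟨P.stkY, P.stkX, P.sepY, P.sepX, (Equiv.symm_apply_eq _).2 P.corr.symm, P.abY, P.abX⟩
  choose f hf using fun (V : Over S) (t : V ⟶ T) (g : AutT Z t) => exists_gRelT P g
  choose f' hf' using fun (V : Over S) (t : V ⟶ T) (g : AutT Y t) => exists_gRelT P' g
  have flip1 : ∀ {V : Over S} {t : V ⟶ T} {g : AutT Z t} {g' : AutT Y t},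
      GRelT φ g g' → GRelT (symm hX hY φ) g' g := by
    intro V t g g' h A _ s₀ b c k' k hk' hk
    obtain ⟨D, d, ξ, η, h1, h2, h3⟩ := h A s₀ b c k k' hk hk'
    exact ⟨D, d, η, ξ, h2, h1, (Equiv.symm_apply_eq _).2 h3.symm⟩
  have h1 : ∀ V t a, f' V t (f V t a) = a := fun V t a => gRelT_unique P' (hf' V t _) (flip1 (hf V t a))
  have h2 : ∀ V t a', f V t (f' V t a') = a' := fun V t a' => by
    refine gRelT_unique P (hf V t _) ?_
    intro A _ s₀ b c k k' hk hk'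
    obtain ⟨D, d, η, ξ, e1, e2, e3⟩ := hf' V t a' A s₀ b c k' k hk' hk
    exact ⟨D, d, ξ, η, e2, e1, ((Equiv.symm_apply_eq _).1 e3).symm⟩
  refine ⟨fun V t => ⟨f V t, f' V t, h1 V t, h2 V t⟩, fun V t a c => gRelT_unique P (hf V t _)
    (gRelT_mul P (hf V t a) (hf V t c)), fun {V' V} l t' t a' a hl => ?_⟩
  obtain ⟨ht, -⟩ := _root_.id hl
  obtain ⟨r, hr⟩ := IsRestr.exists_of hY ht (f V t a)
  have h3 : GRelT φ a' r := fun A _ s₀ b c k k' hk hk' =>
    hf V t a A s₀ (b ≫ l) c k k' (hk.trans hl rfl) (hk'.trans hr rfl)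
  show IsRestr l (f V' t' a') (f V t a)
  rw [gRelT_unique P (hf V' t' a') h3]
  exact hr

end Groth.Agent.IsoNat97
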