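import Groth.Agent.IsoNat97.AutSpace
import Groth.Agent.AlgSt88.Inertia

/-! Automorphisms agreeing on a schematically dense subscheme agree, when the diagonal is separated. -/

set_option autoImplicit false
set_option linter.unusedVariables false
set_option linter.style.haveILetI false
set_option backward.isDefEq.respectTransparency false
set_option backward.isDefEq.respectTransparency.types false
universe u

open CategoryTheory CategoryTheory.Limits AlgebraicGeometry Opposite AlgSt FibCat

namespace Groth.Agent.IsoNat97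

open AlgSt88

variable {S : Scheme.{u}} {𝒳 : AlgSt.Cat S}

theorem inertia_sep (hX : IsFibGrpd 𝒳.p)
    (hd : RepByAlgSpWith (AlgSp.IsSeparatedMor ⊓ AlgSp.IsQuasiCompactMor) (FibCat.diag (toSelf 𝒳))) :
    RepByAlgSpWith AlgSp.IsSeparatedMor (inertiaToBase (toSelf 𝒳)) :=
  repByAlgSpWith_inertiaToBase hX (toSelf 𝒳) (repByAlgSpWith_mono inf_le_left hd)

theorem autT_eq_of_dense (hX : IsFibGrpd 𝒳.p)
    (hIs : RepByAlgSpWith AlgSp.IsSeparatedMor (inertiaToBase (toSelf 𝒳))) {B : Over S} {Z : overCat B ⥤ᵇ 𝒳}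
    {T₀ T : Over S} [IsAffine T.left] (j : T₀ ⟶ T) (hj : Function.Injective j.left.appTop)
    {t₀ : T₀ ⟶ B} {t : T ⟶ B} {r : AutT Z t₀} {a b : AutT Z t} (ha : IsRestr j r a) (hb : IsRestr j r b) : a = b := by
  obtain ⟨F, e, he, hπ⟩ := hIs B Z
  let π := spMapOfOver (BasedFunctor.comp e (fpFst Z (inertiaToBase (toSelf 𝒳))))
  let s₁ := autSec hX he a
  let s₂ := autSec hX he b
  let g : (AlgSp.yon S).obj T ⟶ pullback π π :=
    pullback.lift s₁ s₂ ((autSec_proj hX he a).trans (autSec_proj hX he b).symm)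
  have hrep : AlgSp.RepWith @IsClosedImmersion (pullback.diagonal π) := hπ
  haveI hcl : IsClosedImmersion (hrep.rep.snd g).left := hrep.property_snd g
  have hsq := hrep.rep.isPullback g
  have hc : (AlgSp.yon S).map j ≫ g = ((AlgSp.yon S).map j ≫ s₁) ≫ pullback.diagonal π := by
    apply pullback.hom_ext
    · simp [g]
    · simp only [g, Category.assoc, pullback.lift_snd, pullback.diagonal_snd, Category.comp_id, s₁, s₂]
      rw [autSec_restr hX he ha, autSec_restr hX he hb]
  obtain ⟨r', hr'⟩ := (AlgSp.yon S).map_surjective (hsq.lift ((AlgSp.yon S).map j ≫ s₁) ((AlgSp.yon S).map j) hc.symm)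
  have hfac : r' ≫ hrep.rep.snd g = j := (AlgSp.yon S).map_injective (by
    rw [Functor.map_comp, hr', hsq.lift_snd])
  haveI : IsIso (hrep.rep.snd g).left := by
    have hinj : Function.Injective (hrep.rep.snd g).left.appTop := fun x y hxy => hj (by
      have h := congrArg (fun φ : T₀ ⟶ T => φ.left.appTop) hfac
      rw [← show _ = j.left.appTop from h]
      show (r'.left ≫ (hrep.rep.snd g).left).appTop x = (r'.left ≫ (hrep.rep.snd g).left).appTop y
      rw [Scheme.Hom.comp_appTop, CategoryTheory.comp_apply, CategoryTheory.comp_apply, hxy])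
    exact IsClosedImmersion.isIso_of_injective_of_isAffine hinj
  haveI : IsIso (hrep.rep.snd g) :=
    have : IsIso ((Over.forget S).map (hrep.rep.snd g)) := inferInstanceAs (IsIso (hrep.rep.snd g).left)
    isIso_of_reflects_iso _ (Over.forget S)
  have hg : g = (inv ((AlgSp.yon S).map (hrep.rep.snd g)) ≫ hrep.rep.fst g) ≫ pullback.diagonal π := by
    rw [Category.assoc, hsq.w, IsIso.inv_hom_id_assoc]
  have h₁ : s₁ = s₂ := by
    have e₁ : g ≫ pullback.fst π π = s₁ := pullback.lift_fst _ _ _
    have e₂ : g ≫ pullback.snd π π = s₂ := pullback.lift_snd _ _ _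
    rw [← e₁, ← e₂, hg]
    simp
  exact autSec_injective hX he h₁

end Groth.Agent.IsoNat97
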