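import Groth.Agent.IsoNat97.SecCalc
import Groth.Agent.AlgSt88.Inertia

/-! Automorphisms of the pullbacks of an object as sections of a space. -/

set_option autoImplicit false
set_option linter.unusedVariables false
set_option linter.style.haveILetI false
set_option backward.isDefEq.respectTransparency false
set_option backward.isDefEq.respectTransparency.types false
universe u

open CategoryTheory CategoryTheory.Limits AlgebraicGeometry Opposite AlgSt FibCat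

namespace Groth.Agent.IsoNat97

open AlgSt88

variable {S : Scheme.{u}} {𝒳 : AlgSt.Cat S} {B : Over S}

/-- Automorphisms over the identity of a pullback. -/
abbrev AutT (Z : overCat B ⥤ᵇ 𝒳) {T : Over S} (t : T ⟶ B) :=
  {σ : (chObj Z t).1 ⟶ (chObj Z t).1 // 𝒳.p.IsHomLift (𝟙 T) σ}

namespace AutT

variable {Z : overCat B ⥤ᵇ 𝒳} {T : Over S} {t : T ⟶ B}

def one : AutT Z t := ⟨𝟙 _, map_eqToHom_lift (chObj Z t).2⟩

def mul (σ τ : AutT Z t) : AutT Z t :=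
  ⟨σ.1 ≫ τ.1, haveI := σ.2; haveI := τ.2; inferInstance⟩

noncomputable def inv (hX : IsFibGrpd 𝒳.p) (σ : AutT Z t) : AutT Z t :=
  haveI := σ.2
  haveI := fg_isIso_of_lift_id hX σ.1 T
  ⟨CategoryTheory.inv σ.1, inferInstance⟩

theorem mul_inv (hX : IsFibGrpd 𝒳.p) (σ : AutT Z t) : σ.mul (σ.inv hX) = one := by
  haveI := σ.2
  haveI := fg_isIso_of_lift_id hX σ.1 T
  exact Subtype.ext (IsIso.hom_inv_id σ.1)

theorem inv_mul (hX : IsFibGrpd 𝒳.p) (σ : AutT Z t) : (σ.inv hX).mul σ = one := by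
  haveI := σ.2
  haveI := fg_isIso_of_lift_id hX σ.1 T
  exact Subtype.ext (IsIso.inv_hom_id σ.1)

theorem mul_assoc' (a b c : AutT Z t) : (a.mul b).mul c = a.mul (b.mul c) := Subtype.ext (Category.assoc _ _ _)

theorem one_mul' (a : AutT Z t) : one.mul a = a := Subtype.ext (Category.id_comp _)

theorem mul_one' (a : AutT Z t) : a.mul one = a := Subtype.ext (Category.comp_id _)

end AutT

/-- Restriction of automorphisms. -/
def IsRestr {Z : overCat B ⥤ᵇ 𝒳} {T' T : Over S} (l : T' ⟶ T) {t' : T' ⟶ B} {t : T ⟶ B} (σ' : AutT Z t')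
    (σ : AutT Z t) : Prop :=
  ∃ h : l ≫ t = t', σ'.1 ≫ chMap Z l h = chMap Z l h ≫ σ.1

namespace IsRestr

variable {Z : overCat B ⥤ᵇ 𝒳} {T'' T' T : Over S} {l : T' ⟶ T} {t'' : T'' ⟶ B} {t' : T' ⟶ B} {t : T ⟶ B}

theorem exists_of (hX : IsFibGrpd 𝒳.p) (h : l ≫ t = t') (σ : AutT Z t) : ∃ σ' : AutT Z t', IsRestr l σ' σ := by
  obtain ⟨θ, hθ, e⟩ := exists_restrict hX (c := Z) (x := Z) l h h σ.1 σ.2
  exact ⟨⟨θ, hθ⟩, h, e⟩

theorem unique (hX : IsFibGrpd 𝒳.p) {σ : AutT Z t} {a b : AutT Z t'} (ha : IsRestr l a σ) (hb : IsRestr l b σ) :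
    a = b := by
  obtain ⟨h, ea⟩ := ha
  obtain ⟨_, eb⟩ := hb
  exact Subtype.ext (chMap_cancel hX Z h a.2 b.2 (ea.trans eb.symm))

theorem mul {σ τ : AutT Z t} {σ' τ' : AutT Z t'} (hσ : IsRestr l σ' σ) (hτ : IsRestr l τ' τ) :
    IsRestr l (σ'.mul τ') (σ.mul τ) := by
  obtain ⟨h, e₁⟩ := hσ
  obtain ⟨_, e₂⟩ := hτ
  refine ⟨h, ?_⟩
  show (σ'.1 ≫ τ'.1) ≫ _ = _ ≫ σ.1 ≫ τ.1
  rw [Category.assoc, e₂, ← Category.assoc, e₁, Category.assoc]

theorem one (h : l ≫ t = t') : IsRestr l (AutT.one : AutT Z t') (AutT.one : AutT Z t) :=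
  ⟨h, (Category.id_comp _).trans (Category.comp_id _).symm⟩

theorem inv (hX : IsFibGrpd 𝒳.p) {σ : AutT Z t} {σ' : AutT Z t'} (hσ : IsRestr l σ' σ) :
    IsRestr l (σ'.inv hX) (σ.inv hX) := by
  obtain ⟨h, e⟩ := hσ
  haveI := σ.2
  haveI := σ'.2
  haveI := fg_isIso_of_lift_id hX σ.1 T
  haveI := fg_isIso_of_lift_id hX σ'.1 T'
  refine ⟨h, ?_⟩
  show CategoryTheory.inv σ'.1 ≫ chMap Z l h = chMap Z l h ≫ CategoryTheory.inv σ.1
  rw [IsIso.inv_comp_eq, ← Category.assoc, e, Category.assoc, IsIso.hom_inv_id, Category.comp_id]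

theorem trans {m : T'' ⟶ T'} {σ : AutT Z t} {σ' : AutT Z t'} {σ'' : AutT Z t''} (h₁ : IsRestr m σ'' σ')
    (h₂ : IsRestr l σ' σ) {n : T'' ⟶ T} (hn : m ≫ l = n) : IsRestr n σ'' σ := by
  obtain ⟨a, ea⟩ := h₁
  obtain ⟨b, eb⟩ := h₂
  have hc : n ≫ t = t'' := by rw [← hn, Category.assoc, b, a]
  refine ⟨hc, ?_⟩
  rw [← chMap_comp Z m l a b n hn hc, ← Category.assoc, ea, Category.assoc, eb, Category.assoc]

theorem refl (σ : AutT Z t) : IsRestr (𝟙 T) σ σ :=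
  ⟨Category.id_comp t, by
    have h : chMap Z (𝟙 T) (Category.id_comp t) = 𝟙 _ :=
      (congrArg Z.map (Over.OverMorphism.ext rfl)).trans (Z.map_id _)
    rw [h]; exact (Category.comp_id _).trans (Category.id_comp _).symm⟩

end IsRestr

section Space

variable {Z : overCat B ⥤ᵇ 𝒳} {F : AlgSp.Sp S} {e : ofSp F ⥤ᵇ fp Z (inertiaToBase (toSelf 𝒳))}

theorem isFibGrpd_autFp (hX : IsFibGrpd 𝒳.p) (Z : overCat B ⥤ᵇ 𝒳) :
    IsFibGrpd (fp Z (inertiaToBase (toSelf 𝒳))).p :=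
  isFibGrpd_fp (isFibGrpd_overCat B) (AlgSt88.isFibGrpd_inertia hX isFibGrpd_selfOver (toSelf 𝒳)) hX Z _

/-- The section of an automorphism. -/
noncomputable def autSec (hX : IsFibGrpd 𝒳.p) (he : IsEquivOver e) {T : Over S} {t : T ⟶ B} (σ : AutT Z t) :
    (AlgSp.yon S).obj T ⟶ F :=
  (exists_sec he (T := T) (mkInert hX Z t σ.1 σ.2) rfl).choose

theorem autSec_spec (hX : IsFibGrpd 𝒳.p) (he : IsEquivOver e) {T : Over S} {t : T ⟶ B} (σ : AutT Z t) :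
    ∃ k : e.obj (secObj (autSec hX he σ)) ⟶ mkInert hX Z t σ.1 σ.2,
      (fp Z (inertiaToBase (toSelf 𝒳))).p.IsHomLift (𝟙 T) k :=
  (exists_sec he (T := T) (mkInert hX Z t σ.1 σ.2) rfl).choose_spec

theorem autSec_proj (hX : IsFibGrpd 𝒳.p) (he : IsEquivOver e) {T : Over S} {t : T ⟶ B} (σ : AutT Z t) :
    autSec hX he σ ≫ spMapOfOver (BasedFunctor.comp e (fpFst Z (inertiaToBase (toSelf 𝒳)))) = (AlgSp.yon S).map t := by
  obtain ⟨k, hk⟩ := autSec_spec hX he σ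
  exact (sec_proj e _ (mkInert hX Z t σ.1 σ.2) rfl k hk).trans (congrArg _ (Category.id_comp t))

theorem exists_autSec_eq (hX : IsFibGrpd 𝒳.p) (he : IsEquivOver e) {T : Over S} {t : T ⟶ B}
    (s : (AlgSp.yon S).obj T ⟶ F)
    (hs : s ≫ spMapOfOver (BasedFunctor.comp e (fpFst Z (inertiaToBase (toSelf 𝒳)))) = (AlgSp.yon S).map t) :
    ∃ σ : AutT Z t, autSec hX he σ = s := by
  obtain ⟨h, σ, hσ, k, hk⟩ := exists_mkInert (e := e) hX s
  have ht : h = t := (AlgSp.yon S).map_injective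
    (((sec_proj e s (mkInert hX Z h σ hσ) rfl k hk).trans (congrArg _ (Category.id_comp h))).symm.trans hs)
  subst ht
  refine ⟨⟨σ, hσ⟩, ?_⟩
  obtain ⟨k', hk'⟩ := autSec_spec hX he (⟨σ, hσ⟩ : AutT Z h)
  haveI := fg_isIso_of_lift_id (isFibGrpd_autFp hX Z) k' T
  have := sec_eq he (isFibGrpd_autFp hX Z) (𝟙 T) k hk k' hk' (𝟙 _) (map_eqToHom_lift rfl)
  rwa [CategoryTheory.Functor.map_id, Category.id_comp] at this

/-- Restriction is composition. -/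
theorem autSec_restr (hX : IsFibGrpd 𝒳.p) (he : IsEquivOver e) {T' T : Over S} {l : T' ⟶ T} {t' : T' ⟶ B}
    {t : T ⟶ B} {σ' : AutT Z t'} {σ : AutT Z t} (h : IsRestr l σ' σ) :
    (AlgSp.yon S).map l ≫ autSec hX he σ = autSec hX he σ' := by
  obtain ⟨hl, e'⟩ := h
  obtain ⟨k, hk⟩ := autSec_spec hX he σ
  obtain ⟨k', hk'⟩ := autSec_spec hX he σ'
  let m : mkInert hX Z t' σ'.1 σ'.2 ⟶ mkInert hX Z t σ.1 σ.2 :=
    fpHom (x := mkInert hX Z t' σ'.1 σ'.2) (y := mkInert hX Z t σ.1 σ.2) (Over.homMk l hl)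
      (⟨chMap Z l hl, e'⟩ : (mkInert hX Z t' σ'.1 σ'.2).obj.snd ⟶ (mkInert hX Z t σ.1 σ.2).obj.snd)
      ((Category.comp_id _).trans (Category.id_comp _).symm)
  exact sec_eq he (isFibGrpd_autFp hX Z) l k' hk' k hk m
    (IsHomLift.of_fac' (fp Z (inertiaToBase (toSelf 𝒳))).p l m rfl rfl (by
      show l = _
      simp))

theorem isRestr_of_autSec (hX : IsFibGrpd 𝒳.p) (he : IsEquivOver e) {T' T : Over S} {l : T' ⟶ T} {t' : T' ⟶ B}
    {t : T ⟶ B} {σ' : AutT Z t'} {σ : AutT Z t}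
    (h : (AlgSp.yon S).map l ≫ autSec hX he σ = autSec hX he σ') : IsRestr l σ' σ := by
  obtain ⟨k, hk⟩ := autSec_spec hX he σ
  obtain ⟨k', hk'⟩ := autSec_spec hX he σ'
  exact inert_natural hX (isFibGrpd_autFp hX Z) h k hk k' hk'

theorem autSec_injective (hX : IsFibGrpd 𝒳.p) (he : IsEquivOver e) {T : Over S} {t : T ⟶ B} {a b : AutT Z t}
    (h : autSec hX he a = autSec hX he b) : a = b := by
  have h1 : IsRestr (𝟙 T) a b := isRestr_of_autSec hX he (by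
    rw [CategoryTheory.Functor.map_id, Category.id_comp, h])
  exact IsRestr.unique hX h1 (IsRestr.refl b)

end Space

end Groth.Agent.IsoNat97
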