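import Groth.Agent.IsoNat97.NoAut

/-! Automorphisms of chart objects form a sheaf. -/

set_option autoImplicit false
set_option linter.unusedVariables false
set_option linter.style.haveILetI false
set_option backward.isDefEq.respectTransparency false
set_option backward.isDefEq.respectTransparency.types false
universe u

open CategoryTheory CategoryTheory.Limits AlgebraicGeometry Opposite AlgSt FibCat

namespace Groth.Agent.IsoNat97

open AlgSt88 IsoNat

variable {S : Scheme.{u}} {𝒳 : AlgSt.Cat S}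

/-- The sieve of a covering by open subschemes. -/
theorem sieve_mem_of_openCover {T : Over S} {κ : Type u} {W : κ → Over S} (i : ∀ k, W k ⟶ T)
    (hi : ∀ k, IsOpenImmersion (i k).left) (hcov : ∀ x : T.left, ∃ k y, (i k).left y = x) :
    Sieve.generate (Presieve.ofArrows W i) ∈ AlgSp.J S T := by
  rw [GrothendieckTopology.mem_over_iff, Sieve.overEquiv_generate]
  let 𝒰 : T.left.OpenCover :=
    Scheme.Cover.mkOfCovers (P := @IsOpenImmersion) κ (fun k => (W k).left) (fun k => (i k).left) hcov hi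
  refine GrothendieckTopology.superset_covering _ ?_
    (Precoverage.generate_mem_toGrothendieck (Scheme.zariskiPrecoverage_le_fppfPrecoverage _ 𝒰.mem₀))
  rw [Sieve.generate_le_iff]
  rintro Z g ⟨k⟩
  exact Sieve.le_generate _ _ _ ⟨W k, i k, 𝟙 _, ⟨k⟩, by simp; rfl⟩

/-- Automorphisms agreeing on a covering are equal. -/
theorem autT_ext_open (h𝒳 : Stk.IsStack (AlgSp.J S) 𝒳) {B T : Over S} {Z : overCat B ⥤ᵇ 𝒳} {t : T ⟶ B} {κ : Type u}
    {W : κ → Over S} (i : ∀ k, W k ⟶ T) (hi : ∀ k, IsOpenImmersion (i k).left)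
    (hcov : ∀ x : T.left, ∃ k y, (i k).left y = x) {g g' : AutT Z t}
    (h : ∀ k, ∃ σ : AutT Z (i k ≫ t), IsRestr (i k) σ g ∧ IsRestr (i k) σ g') : g = g' := by
  have hX := h𝒳.1
  let R : Sieve T := Sieve.generate (Presieve.ofArrows W i)
  haveI := g.2
  haveI := g'.2
  refine Subtype.ext (Fib44.hom_ext_of_lifts hX
    ((Fib44.isStack_iff.1 h𝒳).2 R (sieve_mem_of_openCover i hi hcov)).1 (chObj Z t).2 (𝟙 T) g.1 g'.1
    fun V f hf => ?_)
  obtain ⟨Y, q, f', ⟨k⟩, rfl⟩ := hf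
  obtain ⟨σ, ⟨hk, e⟩, _, e'⟩ := h k
  refine ⟨(chObj Z (q ≫ i k ≫ t)).1, chMap Z q rfl ≫ chMap Z (i k) rfl, inferInstance, ?_⟩
  rw [Category.assoc, Category.assoc, ← e, ← e']

/-- Compatible automorphisms on an open covering glue. -/
theorem exists_autT_glue_open (h𝒳 : Stk.IsStack (AlgSp.J S) 𝒳) {B T : Over S} (Z : overCat B ⥤ᵇ 𝒳) (t : T ⟶ B)
    {κ : Type u} {W : κ → Over S} (i : ∀ k, W k ⟶ T) (hi : ∀ k, IsOpenImmersion (i k).left)
    (hcov : ∀ x : T.left, ∃ k y, (i k).left y = x) (σ : ∀ k, AutT Z (i k ≫ t))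
    (hσ : ∀ (k l : κ) (V : Over S) (p : V ⟶ W k) (r : V ⟶ W l), p ≫ i k = r ≫ i l →
      ∀ (v : V ⟶ B) (a b : AutT Z v), IsRestr p a (σ k) → IsRestr r b (σ l) → a = b) :
    ∃ g : AutT Z t, ∀ k, IsRestr (i k) (σ k) g := by
  have hX := h𝒳.1
  let R : Sieve T := Sieve.generate (Presieve.ofArrows W i)
  have hR := sieve_mem_of_openCover i hi hcov
  let Y := BasedFunctor.comp (overMap t) Z
  have hfac : ∀ a : R.arrows.category, ∃ (k : κ) (q : a.obj.left ⟶ W k), q ≫ i k = a.obj.hom := fun a => by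
    obtain ⟨V, q, g, ⟨k⟩, e⟩ := a.property
    exact ⟨k, q, e⟩
  choose sel q hq using hfac
  have hρ : ∀ a : R.arrows.category, ∃ ρ : AutT Z (a.obj.hom ≫ t), IsRestr (q a) ρ (σ (sel a)) := fun a =>
    IsRestr.exists_of hX (by rw [← Category.assoc, hq]) (σ (sel a))
  choose ρ hρ using hρ
  let δ : ∀ a : R.arrows.category, ((Stk.resSieve R 𝒳).obj Y).obj a ⟶ (chObj Z t).1 := fun a =>
    (ρ a).1 ≫ chMap Z a.obj.hom rfl
  have hδ : Fib44.IsGlue ((Stk.resSieve R 𝒳).obj Y) (chObj Z t).1 δ := by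
    refine ⟨(chObj Z t).2, fun a => ?_, fun a b g => ?_⟩
    · haveI := (ρ a).2
      have h : 𝒳.p.IsHomLift (𝟙 a.obj.left ≫ a.obj.hom) (δ a) := inferInstance
      rwa [Category.id_comp] at h
    · have hg : g.hom.left ≫ b.obj.hom ≫ t = a.obj.hom ≫ t := by rw [← Category.assoc, Over.w g.hom]
      obtain ⟨e₁, he₁⟩ := IsRestr.exists_of hX hg (ρ b)
      have hea : e₁ = ρ a := hσ _ _ _ (g.hom.left ≫ q b) (q a)
        (by rw [Category.assoc, hq, hq]; exact Over.w g.hom) _ _ _ (he₁.trans (hρ b) rfl) (hρ a)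
      subst hea
      obtain ⟨_, e⟩ := he₁
      show chMap Z g.hom.left hg ≫ (ρ b).1 ≫ chMap Z b.obj.hom rfl = (ρ a).1 ≫ chMap Z a.obj.hom rfl
      rw [← Category.assoc, ← e, Category.assoc, chMap_comp Z g.hom.left b.obj.hom hg rfl a.obj.hom (Over.w g.hom) rfl]
  obtain ⟨k₀, ⟨hk, hkf⟩, -⟩ :=
    Fib44.existsUnique_glue_hom hX ((Fib44.isStack_iff.1 h𝒳).2 R hR).1 (Fib44.isGlue_res Y) hδ
  haveI := hk
  let j : (chObj Z t).1 ⟶ (chObj Y (𝟙 T)).1 :=
    chMap Z (𝟙 T) ((Category.id_comp _).trans (Category.id_comp _) : 𝟙 T ≫ 𝟙 T ≫ t = t)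
  let g : AutT Z t := ⟨j ≫ k₀, by
    have h : 𝒳.p.IsHomLift (𝟙 T ≫ 𝟙 T) (j ≫ k₀) := inferInstance
    rwa [Category.id_comp] at h⟩
  refine ⟨g, fun k => ?_⟩
  let o : R.arrows.category := ⟨Over.mk (i k), Sieve.le_generate _ _ _ ⟨k⟩⟩
  have h1 : chMap Z (i k) (rfl : i k ≫ t = i k ≫ t) ≫ j = Y.map (Fib44.toId o.obj) := by
    dsimp only [j, chMap, Y]
    rw [← Functor.map_comp]
    refine congrArg Z.map (Over.OverMorphism.ext ?_)
    show i k ≫ 𝟙 T = i k
    exact Category.comp_id _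
  obtain ⟨ek, hek⟩ := IsRestr.exists_of hX (rfl : i k ≫ t = _) g
  have hρo : σ k = ρ o := by
    refine hσ k (sel o) (W k) (𝟙 _) (q o) ((Category.id_comp _).trans (hq o).symm) _ (σ k) (ρ o) (IsRestr.refl _) (hρ o)
  refine ⟨rfl, ?_⟩
  show (σ k).1 ≫ chMap Z (i k) rfl = chMap Z (i k) rfl ≫ j ≫ k₀
  rw [← Category.assoc, h1, hρo]
  exact (hkf o).symm

end Groth.Agent.IsoNat97
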