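import Groth.Agent.IsoNat97.LoopRel
import Groth.Agent.IsoNat97.GlueAut

/-! Abelian automorphism groups are recovered from isomorphism classes. -/

set_option autoImplicit false
set_option linter.unusedVariables false
set_option linter.style.haveILetI false
set_option backward.isDefEq.respectTransparency false
set_option backward.isDefEq.respectTransparency.types false
universe u

open CategoryTheory CategoryTheory.Limits AlgebraicGeometry Opposite AlgSt FibCat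

namespace Groth.Agent.IsoNat97

open AlgSt88 IsoNat

variable {S : Scheme.{u}} {𝒳 𝒴 : AlgSt.Cat S} {T : Over S} {φ : FIso 𝒳 𝒴} {Z : overCat T ⥤ᵇ 𝒳}
  {Y : overCat T ⥤ᵇ 𝒴}

/-- Automorphisms corresponding on every affine. -/
def GRel (φ : FIso 𝒳 𝒴) (g : AutT Z (𝟙 T)) (g' : AutT Y (𝟙 T)) : Prop :=
  ∀ (A : Type u) [CommRing A] (s₀ : Spec (CommRingCat.of A) ⟶ S) (b : Over.mk s₀ ⟶ T) (h : AutT Z b)
    (h' : AutT Y b), IsRestr b h g → IsRestr b h' g' → LoopR φ b h h'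

/-- The affine pieces of an open covering of an object over the base, through open sets. -/
theorem exists_affine_over {V : Over S} {O : TopologicalSpace.Opens V.left} {x : V.left} (hx : x ∈ O) :
    ∃ (A : Type u) (_ : CommRing A) (s₀ : Spec (CommRingCat.of A) ⟶ S) (w : Over.mk s₀ ⟶ V),
      IsOpenImmersion w.left ∧ x ∈ Set.range w.left ∧ Set.range w.left ⊆ (O : Set V.left) := by
  obtain ⟨_, ⟨U, hU, rfl⟩, hxU, hUO⟩ := V.left.isBasis_affineOpens.exists_subset_of_mem_open hx O.isOpen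
  refine ⟨Γ(V.left, U), inferInstance, hU.fromSpec ≫ V.hom, Over.homMk hU.fromSpec rfl, ?_, ?_, ?_⟩
  · show IsOpenImmersion hU.fromSpec
    infer_instance
  · show x ∈ Set.range hU.fromSpec
    rw [hU.range_fromSpec]; exact hxU
  · show Set.range hU.fromSpec ⊆ _
    rw [hU.range_fromSpec]; exact hUO

theorem loopR_restr' (P : AbPair φ Z Y) {A A' : Type u} [CommRing A] [CommRing A']
    {s₀ : Spec (CommRingCat.of A) ⟶ S} {s₁ : Spec (CommRingCat.of A') ⟶ S} (l : Over.mk s₁ ⟶ Over.mk s₀)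
    {b : Over.mk s₀ ⟶ T} {g : AutT Z b} {g' : AutT Y b} (hg : LoopR φ b g g')
    {b₁ : Over.mk s₁ ⟶ T} {g₁ : AutT Z b₁} {g₁' : AutT Y b₁} (h : IsRestr l g₁ g) (h' : IsRestr l g₁' g') :
    LoopR φ b₁ g₁ g₁' :=
  loopR_restr (Spec.preimage l.left).hom l (Spec.map_preimage l.left).symm P hg h h'

theorem gRel_unique (P : AbPair φ Z Y) {g : AutT Z (𝟙 T)} {g' g'' : AutT Y (𝟙 T)} (h' : GRel φ g g')
    (h'' : GRel φ g g'') : g' = g'' := by
  have hX := P.stkX.1
  have hY := P.stkY.1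
  choose A hA s₀ w hw hxw hwO using fun x : T.left => exists_affine_over (O := ⊤) (x := x) trivial
  refine autT_ext_open P.stkY w hw (fun x => ⟨x, hxw x⟩) fun x => ?_
  letI := hA x
  obtain ⟨a, ha⟩ := IsRestr.exists_of hY (rfl : w x ≫ 𝟙 T = _) g'
  obtain ⟨c, hc⟩ := IsRestr.exists_of hY (rfl : w x ≫ 𝟙 T = _) g''
  obtain ⟨a₁, ha₁⟩ := IsRestr.exists_of hY (Category.comp_id (w x)) g'
  obtain ⟨c₁, hc₁⟩ := IsRestr.exists_of hY (Category.comp_id (w x)) g''
  obtain ⟨h, hh⟩ := IsRestr.exists_of hX (Category.comp_id (w x)) g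
  have e : a₁ = c₁ := loopR_unique P (h' (A x) (s₀ x) (w x) h a₁ hh ha₁) (h'' (A x) (s₀ x) (w x) h c₁ hh hc₁)
  subst e
  refine ⟨a, ha, ?_⟩
  obtain ⟨a₂, ha₂⟩ := IsRestr.exists_of hY ((Category.id_comp _).trans (Category.comp_id (w x)).symm :
    𝟙 _ ≫ w x = w x ≫ 𝟙 T) a₁
  obtain rfl := IsRestr.unique hY (ha₂.trans ha₁ (Category.id_comp _)) ha
  obtain rfl := IsRestr.unique hY (ha₂.trans hc₁ (Category.id_comp _)) hc
  exact hc

theorem exists_gRel (P : AbPair φ Z Y) (g : AutT Z (𝟙 T)) : ∃ g' : AutT Y (𝟙 T), GRel φ g g' := by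
  have hX := P.stkX.1
  have hY := P.stkY.1
  choose A hA s₀ w hw hxw hwO using fun x : T.left => exists_affine_over (O := ⊤) (x := x) trivial
  choose h hh using fun x => IsRestr.exists_of hX (rfl : w x ≫ 𝟙 T = _) g
  choose h' hh' using fun x : T.left => (letI := hA x; exists_loopR P (w x ≫ 𝟙 T) (h x))
  obtain ⟨g', hg'⟩ := exists_autT_glue_open P.stkY Y (𝟙 T) w hw (fun x => ⟨x, hxw x⟩) h'
    (fun x y V p r hpr v a c ha hc => by
      choose A' hA' s₁ q hq hxq hqO using fun z : V.left => exists_affine_over (O := ⊤) (x := z) trivial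
      refine autT_ext_open P.stkY q hq (fun z => ⟨z, hxq z⟩) fun z => ?_
      letI := hA' z
      letI := hA x
      letI := hA y
      obtain ⟨a₁, ha₁⟩ := IsRestr.exists_of hY (rfl : q z ≫ v = _) a
      obtain ⟨c₁, hc₁⟩ := IsRestr.exists_of hY (rfl : q z ≫ v = _) c
      have ha' := ha₁.trans ha rfl
      have hc' := hc₁.trans hc rfl
      obtain ⟨k, hk⟩ := IsRestr.exists_of hX ha'.choose (h x)
      obtain ⟨k₂, hk₂⟩ := IsRestr.exists_of hX hc'.choose (h y)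
      obtain rfl := IsRestr.unique hX (hk.trans (hh x) rfl) (hk₂.trans (hh y) (by rw [Category.assoc, Category.assoc, hpr]))
      have e : a₁ = c₁ := loopR_unique P (loopR_restr' P _ (hh' x) hk ha') (loopR_restr' P _ (hh' y) hk₂ hc')
      subst e
      exact ⟨a₁, ha₁, hc₁⟩)
  refine ⟨g', fun A₀ _ t₀ b k k' hk hk' => ?_⟩
  obtain ⟨k'', hk''⟩ := exists_loopR P b k
  have e : k' = k'' := by
    have hpc : ∀ z : (Over.mk t₀).left, ∃ x : T.left, b.left z ∈ Set.range (w x).left := fun z => ⟨b.left z, hxw _⟩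
    choose i hi using hpc
    haveI : ∀ x, IsOpenImmersion (w x).left := hw
    choose A' hA' s₁ q hq hxq hqO using fun z : (Over.mk t₀).left => exists_affine_over
      (O := b.left ⁻¹ᵁ (w (i z)).left.opensRange) (x := z) (hi z)
    refine autT_ext_open P.stkY q hq (fun z => ⟨z, hxq z⟩) fun z => ?_
    letI := hA' z
    letI := hA (i z)
    let p : Over.mk (s₁ z) ⟶ Over.mk (s₀ (i z)) := Over.homMk (IsOpenImmersion.lift (w (i z)).left ((q z).left ≫ b.left)
      (by rintro _ ⟨m, rfl⟩; exact hqO z ⟨m, rfl⟩)) (by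
        show _ ≫ s₀ (i z) = s₁ z
        refine (congrArg _ (Over.w (w (i z))).symm).trans ?_
        rw [← Category.assoc, IsOpenImmersion.lift_fac, Category.assoc]
        exact (congrArg _ (Over.w b)).trans (Over.w (q z)))
    have hp : p ≫ w (i z) = q z ≫ b := Over.OverMorphism.ext (IsOpenImmersion.lift_fac _ _ _)
    obtain ⟨a, ha⟩ := IsRestr.exists_of hY (rfl : q z ≫ b = _) k'
    obtain ⟨c, hc⟩ := IsRestr.exists_of hY (rfl : q z ≫ b = _) k''
    obtain ⟨m, hm⟩ := IsRestr.exists_of hX (rfl : q z ≫ b = _) k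
    have hpt : p ≫ w (i z) ≫ 𝟙 T = q z ≫ b := by rw [Category.comp_id, hp]
    obtain ⟨m₂, hm₂⟩ := IsRestr.exists_of hX hpt (h (i z))
    obtain rfl := IsRestr.unique hX (hm₂.trans (hh (i z)) hp) (hm.trans hk rfl)
    obtain ⟨a₂, ha₂⟩ := IsRestr.exists_of hY hpt (h' (i z))
    obtain rfl := IsRestr.unique hY (ha₂.trans (hg' (i z)) hp) (ha.trans hk' rfl)
    have e : a₂ = c := loopR_unique P (loopR_restr' P _ (hh' (i z)) hm₂ ha₂) (loopR_restr' P _ hk'' hm hc)
    subst e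
    exact ⟨a₂, ha, hc⟩
  rwa [e]

theorem gRel_mul (P : AbPair φ Z Y) {g k : AutT Z (𝟙 T)} {g' k' : AutT Y (𝟙 T)} (hg : GRel φ g g')
    (hk : GRel φ k k') : GRel φ (g.mul k) (g'.mul k') := by
  intro A _ s₀ b h h' hh hh'
  have hX := P.stkX.1
  have hY := P.stkY.1
  obtain ⟨hg₁, e₁⟩ := IsRestr.exists_of hX (Category.comp_id b) g
  obtain ⟨hk₁, e₂⟩ := IsRestr.exists_of hX (Category.comp_id b) k
  obtain ⟨hg₂, e₃⟩ := IsRestr.exists_of hY (Category.comp_id b) g'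
  obtain ⟨hk₂, e₄⟩ := IsRestr.exists_of hY (Category.comp_id b) k'
  obtain rfl := IsRestr.unique hX hh (IsRestr.mul e₁ e₂)
  obtain rfl := IsRestr.unique hY hh' (IsRestr.mul e₃ e₄)
  obtain ⟨l', hl'⟩ := exists_loopR P b (hg₁.mul hk₁)
  rwa [← loopR_mul P (hg A s₀ b _ _ e₁ e₃) (hk A s₀ b _ _ e₂ e₄) hl']

theorem gRel_symm (hX : IsFibGrpd 𝒳.p) (hY : IsFibGrpd 𝒴.p) {g : AutT Z (𝟙 T)} {g' : AutT Y (𝟙 T)}
    (h : GRel φ g g') : GRel (symm hX hY φ) g' g := by
  intro A _ s₀ b k' k hk' hk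
  obtain ⟨D, d, ξ, η, h1, h2, h3⟩ := h A s₀ b k k' hk hk'
  exact ⟨D, d, η, ξ, h2, h1, (Equiv.symm_apply_eq _).2 h3.symm⟩

/-- Automorphisms in the fibre as automorphisms of the chart object. -/
noncomputable def autEquiv (hX : IsFibGrpd 𝒳.p) (Z : overCat T ⥤ᵇ 𝒳) :
    Aut (chObj Z (𝟙 T)) ≃ AutT Z (𝟙 T) where
  toFun A := ⟨A.hom.1, A.hom.2⟩
  invFun a :=
    haveI := a.2
    haveI := fg_isIso_of_lift_id hX a.1 T
    Fib44.fiberIso (asIso a.1) a.2 (chObj Z (𝟙 T)).2 (chObj Z (𝟙 T)).2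
  left_inv A := Aut.ext (Subtype.ext rfl)
  right_inv a := rfl

theorem nonempty_aut_mulEquiv (P : AbPair φ Z Y) : Nonempty (Aut (chObj Z (𝟙 T)) ≃* Aut (chObj Y (𝟙 T))) := by
  have hX := P.stkX.1
  have hY := P.stkY.1
  have P' : AbPair (symm hX hY φ) Y Z :=
    ⟨P.stkY, P.stkX, P.sepY, P.sepX, (Equiv.symm_apply_eq _).2 P.corr.symm, P.abY, P.abX⟩
  choose f hf using exists_gRel P
  choose f' hf' using exists_gRel P'
  have hfmul : ∀ a c, f (a.mul c) = (f a).mul (f c) := fun a c =>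
    gRel_unique P (hf _) (gRel_mul P (hf a) (hf c))
  have h1 : ∀ a, f' (f a) = a := fun a => gRel_unique P' (hf' _) (gRel_symm hX hY (hf a))
  have h2 : ∀ a', f (f' a') = a' := fun a' => by
    refine gRel_unique P (hf _) ?_
    intro A _ s₀ b k k' hk hk'
    obtain ⟨D, d, η, ξ, e1, e2, e3⟩ := hf' a' A s₀ b k' k hk' hk
    exact ⟨D, d, ξ, η, e2, e1, ((Equiv.symm_apply_eq _).1 e3).symm⟩
  let F : AutT Z (𝟙 T) ≃ AutT Y (𝟙 T) := ⟨f, f', h1, h2⟩
  refine ⟨{ toEquiv := ((autEquiv hX Z).trans F).trans (autEquiv hY Y).symm, map_mul' := fun a c => ?_ }⟩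
  apply (autEquiv hY Y).injective
  refine Eq.trans (b := f (autEquiv hX Z (a * c))) (Equiv.apply_symm_apply _ _) ?_
  show f (autEquiv hX Z (a * c)) =
    (autEquiv hY Y ((autEquiv hY Y).symm (f (autEquiv hX Z c)))).mul
      (autEquiv hY Y ((autEquiv hY Y).symm (f (autEquiv hX Z a))))
  simp only [Equiv.apply_symm_apply]
  rw [← hfmul]
  rfl

end Groth.Agent.IsoNat97
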