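import Groth.Agent.IsoNat97.AutNat
import Groth.Agent.IsoNat97.AbelTransfer
import Groth.Agent.Gerb44.BGGerbe

/-! The classifying stack of a commutative group is determined by its presheaf of isomorphism classes. -/

set_option autoImplicit false
set_option linter.unusedVariables false
set_option linter.style.haveILetI false
set_option backward.isDefEq.respectTransparency false
set_option backward.isDefEq.respectTransparency.types false
universe u

open CategoryTheory CategoryTheory.Limits MonoidalCategory CartesianMonoidalCategory MonObj GrpObj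
  AlgebraicGeometry Opposite AlgSt FibCat

namespace Groth.Agent.IsoNat97

open AlgSt88 IsoNat Gerb44

variable {S : Scheme.{u}} (G : Over S) [GrpObj G]

local notation "Bs" => Over.mk (𝟙 S)

/-- The chart of the classifying stack given by the trivial torsor. -/
noncomputable def bgChart : overCat (Over.mk (𝟙 S)) ⥤ᵇ BG Scheme.fppfPrecoverage G :=
  BasedFunctor.comp (ofOverCat (Over.mk (𝟙 S))) (quotMap Scheme.fppfPrecoverage G (trivAction G))

variable {G}

/-- The point of the group attached to an automorphism of the trivial torsor. -/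
noncomputable def autElt {T : Over S} {t : T ⟶ Over.mk (𝟙 S)} (σ : AutT (bgChart G) t) : T ⟶ G :=
  lift (1 : T ⟶ G) (𝟙 T) ≫ (show G ⊗ T ⟶ G ⊗ T from σ.1.top) ≫ fst G T

theorem autBase {T : Over S} (σ : AutT (bgChart G) (toUnit T)) :
    trivBase (show trivT G T ⟶ trivT G T from σ.1) = 𝟙 T := by
  haveI := σ.2
  have h := IsHomLift.fac' (BG Scheme.fppfPrecoverage G).p (𝟙 T) σ.1
  exact h.trans (by simp; rfl)

theorem autElt_mul {T : Over S} {t : T ⟶ Over.mk (𝟙 S)} (σ τ : AutT (bgChart G) t) :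
    autElt (σ.mul τ) = autElt σ * autElt τ := by
  obtain rfl : t = toUnit T := toUnit_unique _ _
  have h := trivElt_comp (show trivT G T ⟶ trivT G T from σ.1) (show trivT G T ⟶ trivT G T from τ.1)
  rw [autBase σ, Category.id_comp] at h
  exact h

theorem autElt_bijective {T : Over S} (t : T ⟶ Over.mk (𝟙 S)) :
    Function.Bijective (autElt (G := G) (t := t)) := by
  obtain rfl : t = toUnit T := toUnit_unique _ _
  refine ⟨fun σ τ h => Subtype.ext ?_, fun g => ?_⟩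
  · exact trivElt_ext ((autBase σ).trans (autBase τ).symm) h
  · obtain ⟨k, hk, hkg⟩ := exists_trivHom (𝟙 T) g
    exact ⟨⟨k, IsHomLift.of_fac' _ _ _ rfl rfl (by
      show trivBase k = _
      rw [hk]; simp; rfl)⟩, hkg⟩

theorem autElt_restr {T' T : Over S} {l : T' ⟶ T} {t' : T' ⟶ Over.mk (𝟙 S)} {t : T ⟶ Over.mk (𝟙 S)}
    {σ' : AutT (bgChart G) t'} {σ : AutT (bgChart G) t} (h : IsRestr l σ' σ) : autElt σ' = l ≫ autElt σ := by
  obtain rfl : t = toUnit T := toUnit_unique _ _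
  obtain rfl : t' = toUnit T' := toUnit_unique _ _
  obtain ⟨hl, e⟩ := h
  let m : trivT G T' ⟶ trivT G T := chMap (bgChart G) l hl
  have hm : trivElt m = 1 := by
    show lift (1 : T' ⟶ G) (𝟙 T') ≫ (G ◁ l) ≫ fst G T = 1
    simp
  have hb : trivBase m = l := rfl
  have h' : trivElt ((show trivT G T' ⟶ trivT G T' from σ'.1) ≫ m) =
      trivElt (m ≫ (show trivT G T ⟶ trivT G T from σ.1)) := congrArg trivElt e
  rw [trivElt_comp, trivElt_comp, autBase σ', hm, hb, MonObj.comp_one, _root_.mul_one, _root_.one_mul] at h'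
  exact h'

theorem abel_bgChart [IsCommMonObj G] : Abel (bgChart G) := by
  intro T t a b
  apply (autElt_bijective t).1
  rw [autElt_mul, autElt_mul, mul_comm]

theorem isAutAbelian_of_abel {𝒳 : AlgSt.Cat S} (hX : IsFibGrpd 𝒳.p) {B : Over S} {X : overCat B ⥤ᵇ 𝒳}
    (hab : Abel X) : IsAutAbelian (chObj X (𝟙 B)) := by
  intro T' x a s t
  let g : T' ⟶ B := eqToHom x.2.symm ≫ 𝒳.p.map a ≫ eqToHom (chObj X (𝟙 B)).2
  haveI ha : 𝒳.p.IsHomLift g a := IsHomLift.of_fac' 𝒳.p g a x.2 (chObj X (𝟙 B)).2 (by simp [g])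
  obtain ⟨c, ⟨hc, -⟩, -⟩ := exists_fac hX (𝟙 T') (Category.id_comp g) (chMap X g (Category.comp_id g))
    (isHomLift_chMap X g _) a ha
  haveI := hc
  haveI := fg_isIso_of_lift_id hX c T'
  haveI := s.hom.2
  haveI := t.hom.2
  let σ : AutT X g := ⟨CategoryTheory.inv c ≫ s.hom.1 ≫ c, inferInstance⟩
  let τ : AutT X g := ⟨CategoryTheory.inv c ≫ t.hom.1 ≫ c, inferInstance⟩
  have h := congrArg Subtype.val (hab g σ τ)
  change (CategoryTheory.inv c ≫ s.hom.1 ≫ c) ≫ CategoryTheory.inv c ≫ t.hom.1 ≫ c =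
    (CategoryTheory.inv c ≫ t.hom.1 ≫ c) ≫ CategoryTheory.inv c ≫ s.hom.1 ≫ c at h
  simp only [Category.assoc, IsIso.hom_inv_id_assoc, cancel_epi] at h
  refine Aut.ext (Subtype.ext ?_)
  show t.hom.1 ≫ s.hom.1 = s.hom.1 ≫ t.hom.1
  rw [← cancel_mono c, Category.assoc, Category.assoc]
  exact h.symm

/-- The automorphism sheaf of a chart corresponding to the trivial torsor. -/
theorem exists_autRep [IsCommMonObj G] {𝒴 : AlgSt.Cat S} (hY : IsFibGrpd 𝒴.p)
    {φ : FIso (BG Scheme.fppfPrecoverage G) 𝒴} {y : overCat (Over.mk (𝟙 S)) ⥤ᵇ 𝒴}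
    (P : AbPair φ (bgChart G) y) : Nonempty (Gerb.AutRep y (Gerb.ptsGrp (Over.mk (𝟙 S)) G)) := by
  obtain ⟨F, hFm, hFr⟩ := exists_autT_natEquiv P
  let cmpS : ∀ T : Over (Over.mk (𝟙 S)), T.left ⟶ Over.mk (show T.left.left ⟶ S from T.hom.left) := fun T =>
    Over.homMk (𝟙 _) (by
      have h := Over.w T.hom
      change T.hom.left ≫ 𝟙 S = T.left.hom at h
      show 𝟙 _ ≫ T.hom.left = T.left.hom
      rw [Category.id_comp]
      exact (Category.comp_id _).symm.trans h)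
  have hcmp : ∀ T, IsIso (cmpS T) := fun T =>
    haveI : IsIso ((Over.forget S).map (cmpS T)) := inferInstanceAs (IsIso (𝟙 T.left.left))
    isIso_of_reflects_iso _ (Over.forget S)
  let a₀ : ∀ (T : Over (Over.mk (𝟙 S))), (T.left ⟶ G) → AutT (bgChart G) T.hom := fun T g =>
    ((autElt_bijective T.hom).2 g).choose
  have ha₀ : ∀ T g, autElt (a₀ T g) = g := fun T g => ((autElt_bijective T.hom).2 g).choose_spec
  have hO : ∀ (T : Over (Over.mk (𝟙 S))) (σ : AutT y T.hom), ∃ α : Gerb.AutO (y.obj T), α.hom.1 = σ.1 := fun T σ => by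
    obtain ⟨α, hα⟩ := Fib44.exists_autO hY (show y.obj T ⟶ y.obj T from σ.1)
      (Fib44.lift_id_of_eq 𝒴.p (y.w_obj T).symm σ.2)
    exact ⟨α, hα⟩
  choose O hOh using hO
  let f : ∀ (T : Over (Over.mk (𝟙 S))), (Over.mk (show T.left.left ⟶ S from T.hom.left) ⟶ G) → Gerb.AutO (y.obj T) :=
    fun T g => O T (F T.left T.hom (a₀ T (cmpS T ≫ g)))
  have hfh : ∀ T g, (f T g).hom.1 = (F T.left T.hom (a₀ T (cmpS T ≫ g))).1 := fun T g => hOh _ _
  have hfm : ∀ T g h, f T (g * h) = f T g * f T h := fun T g h => by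
    refine Fib44.autO_ext ?_
    show (f T (g * h)).hom.1 = (f T h).hom.1 ≫ (f T g).hom.1
    rw [hfh, hfh, hfh]
    have e : a₀ T (cmpS T ≫ (g * h)) = (a₀ T (cmpS T ≫ h)).mul (a₀ T (cmpS T ≫ g)) := by
      apply (autElt_bijective T.hom).1
      rw [autElt_mul, ha₀, ha₀, ha₀, MonObj.comp_mul, mul_comm]
    rw [e, hFm]
    rfl
  have hfb : ∀ T, Function.Bijective (f T) := fun T => by
    refine ⟨fun g h e => ?_, fun α => ?_⟩
    · have e' : F T.left T.hom (a₀ T (cmpS T ≫ g)) = F T.left T.hom (a₀ T (cmpS T ≫ h)) := by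
        apply Subtype.ext
        rw [← hfh, ← hfh, e]
      have e'' := congrArg autElt ((F T.left T.hom).injective e')
      rw [ha₀, ha₀] at e''
      haveI := hcmp T
      exact (cancel_epi (cmpS T)).1 e''
    · obtain ⟨a, ha⟩ := (F T.left T.hom).surjective
        (⟨α.hom.1, Fib44.lift_id_of_eq 𝒴.p (y.w_obj T) α.hom.2⟩ : AutT y T.hom)
      haveI := hcmp T
      refine ⟨CategoryTheory.inv (cmpS T) ≫ autElt a, Fib44.autO_ext ?_⟩
      show (f T _).hom.1 = α.hom.1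
      rw [hfh]
      have e : a₀ T (cmpS T ≫ CategoryTheory.inv (cmpS T) ≫ autElt a) = a := by
        apply (autElt_bijective T.hom).1
        rw [ha₀, IsIso.hom_inv_id_assoc]
      rw [e, ha]
  refine ⟨{ iso := fun T => MulEquiv.ofBijective (MonoidHom.mk' (f T) (hfm T)) (hfb T), natural := ?_ }⟩
  intro T' T h a
  let g : Over.mk (show T.left.left ⟶ S from T.hom.left) ⟶ G := a
  let g' : Over.mk (show T'.left.left ⟶ S from T'.hom.left) ⟶ G := (Over.iteratedSliceForward (Over.mk (𝟙 S))).map h ≫ g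
  show (f T' g').hom.1 ≫ y.map h = y.map h ≫ (f T g).hom.1
  rw [hfh, hfh]
  have hres : IsRestr h.left (a₀ T' (cmpS T' ≫ g')) (a₀ T (cmpS T ≫ g)) := by
    obtain ⟨r, hr⟩ := IsRestr.exists_of (Gerb44.isFibGrpd_BG G) (Over.w h) (a₀ T (cmpS T ≫ g))
    have e : a₀ T' (cmpS T' ≫ g') = r := by
      apply (autElt_bijective T'.hom).1
      rw [ha₀, autElt_restr hr, ha₀]
      show cmpS T' ≫ _ ≫ g = h.left ≫ cmpS T ≫ g
      rw [← Category.assoc, ← Category.assoc]
      refine congrArg (· ≫ g) (Over.OverMorphism.ext ?_)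
      show 𝟙 _ ≫ h.left.left = h.left.left ≫ 𝟙 _
      rw [Category.id_comp, Category.comp_id]
    rw [e]; exact hr
  obtain ⟨hl, e⟩ := hFr h.left T'.hom T.hom _ _ hres
  exact e

/-- An algebraic stack with the isomorphism classes of a classifying stack is a gerbe. -/
theorem isGerbe_of_fIso {𝒴 : AlgSt.Cat S} (h𝒴 : Stk.IsStack (AlgSp.J S) 𝒴) (φ : FIso (BG Scheme.fppfPrecoverage G) 𝒴)
    {y : overCat (Over.mk (𝟙 S)) ⥤ᵇ 𝒴} (hy : φ.toEquiv (Over.mk (𝟙 S)) (objCls (bgChart G)) = objCls y) :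
    Gerb.IsGerbe (QuotSh.J Scheme.fppfPrecoverage S) 𝒴 := by
  refine ⟨h𝒴, Fib44.locSurjObj_toSelf_iff.2 fun U => ⟨⊤, (QuotSh.J Scheme.fppfPrecoverage S).top_mem _, fun V f _ =>
    ⟨(chObj y (toUnit V)).1, (chObj y (toUnit V)).2⟩⟩, Fib44.locSurjHom_toSelf_iff.2 fun x x' hx => ?_⟩
  have hY := h𝒴.1
  let X : 𝒴.p.Fiber (𝒴.p.obj x) := ⟨x, rfl⟩
  let X' : 𝒴.p.Fiber (𝒴.p.obj x) := ⟨x', hx⟩
  let A := rep ((φ.toEquiv _).symm (cls X))
  let A' := rep ((φ.toEquiv _).symm (cls X'))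
  have hA : φ.toEquiv _ (cls A) = cls X := by rw [cls_rep, Equiv.apply_symm_apply]
  have hA' : φ.toEquiv _ (cls A') = cls X' := by rw [cls_rep, Equiv.apply_symm_apply]
  obtain ⟨R, hR, h⟩ := Gerb44.exists_triv_cover A.1
  obtain ⟨R', hR', h'⟩ := Gerb44.exists_triv_cover A'.1
  refine ⟨R.pullback (eqToHom A.2.symm) ⊓ R'.pullback (eqToHom A'.2.symm),
    (QuotSh.J Scheme.fppfPrecoverage S).intersection_covering
      ((QuotSh.J Scheme.fppfPrecoverage S).pullback_stable _ hR)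
      ((QuotSh.J Scheme.fppfPrecoverage S).pullback_stable _ hR'), fun V g hg => ?_⟩
  obtain ⟨T₁, m, hm⟩ := h _ hg.1
  obtain ⟨T₂, m', hm'⟩ := h' _ hg.2
  have hT₁ : (show Over S from T₁) = V :=
    IsHomLift.domain_eq (BG Scheme.fppfPrecoverage G).p (g ≫ eqToHom A.2.symm) m
  have hT₂ : (show Over S from T₂) = V :=
    IsHomLift.domain_eq (BG Scheme.fppfPrecoverage G).p (g ≫ eqToHom A'.2.symm) m'
  subst hT₁
  subst hT₂
  have hm₁ : (BG Scheme.fppfPrecoverage G).p.IsHomLift g m := by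
    have e := IsHomLift.fac' (BG Scheme.fppfPrecoverage G).p (g ≫ eqToHom A.2.symm) m
    exact IsHomLift.of_fac' _ _ _ rfl A.2 (by simpa using e)
  have hm₂ : (BG Scheme.fppfPrecoverage G).p.IsHomLift g m' := by
    have e := IsHomLift.fac' (BG Scheme.fppfPrecoverage G).p (g ≫ eqToHom A'.2.symm) m'
    exact IsHomLift.of_fac' _ _ _ rfl A'.2 (by simpa using e)
  obtain ⟨b, hb⟩ := natural' φ g (x' := chObj (bgChart G) (toUnit _)) (x := A) m hm₁ (corr_chObj hY φ hy _) hA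
  obtain ⟨b', hb'⟩ := natural' φ g (x' := chObj (bgChart G) (toUnit _)) (x := A') m' hm₂ (corr_chObj hY φ hy _) hA'
  exact ⟨_, b, b', hb, hb'⟩

/-- The classifying stack of a commutative group is determined by its isomorphism classes. -/
theorem exists_equiv_BG_of_fIso [IsCommMonObj G] (hG : IsAffineHom G.hom)
    (hB : IsAlgStack Scheme.fppfPrecoverage (BG Scheme.fppfPrecoverage G))
    (hBd : RepByAlgSpWith (AlgSp.IsSeparatedMor ⊓ AlgSp.IsQuasiCompactMor)
      (FibCat.diag (FibCat.toSelf (BG Scheme.fppfPrecoverage G))))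
    {𝒴 : AlgSt.Cat S} (h𝒴 : IsAlgStack Scheme.fppfPrecoverage 𝒴)
    (h𝒴d : RepByAlgSpWith (AlgSp.IsSeparatedMor ⊓ AlgSp.IsQuasiCompactMor) (FibCat.diag (FibCat.toSelf 𝒴)))
    (φ : FIso (BG Scheme.fppfPrecoverage G) 𝒴) :
    ∃ e : BG Scheme.fppfPrecoverage G ⥤ᵇ 𝒴, IsEquivOver e := by
  have hX := hB.isStack.1
  have hY := h𝒴.isStack.1
  obtain ⟨y, hy⟩ := exists_corr hY φ (bgChart G)
  have hXs := inertia_sep hX hBd
  have hYs := inertia_sep hY h𝒴d
  have hab : IsAutAbelian (chObj y (𝟙 (Over.mk (𝟙 S)))) :=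
    isAutAbelian_transfer hB.isStack h𝒴.isStack hXs hYs φ (corr_chObj hY φ hy (𝟙 _))
      (isAutAbelian_of_abel hX abel_bgChart)
  have P : AbPair φ (bgChart G) y :=
    ⟨hB.isStack, h𝒴.isStack, hXs, hYs, hy, abel_bgChart, abel_of_isAutAbelian hY hab y (𝟙 _)⟩
  obtain ⟨r⟩ := exists_autRep hY P
  exact Gerb44.isQuotientOf_of_section hG r (isGerbe_of_fIso h𝒴.isStack φ hy)

end Groth.Agent.IsoNat97
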