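import Groth.Agent.IsoNat97.BaldHom

/-! The canonical correspondence between isomorphisms of pullbacks of corresponding charts of bald stacks. -/

set_option autoImplicit false
set_option linter.unusedVariables false
set_option linter.style.haveILetI false
set_option backward.isDefEq.respectTransparency false
set_option backward.isDefEq.respectTransparency.types false
universe u

open CategoryTheory CategoryTheory.Limits AlgebraicGeometry Opposite AlgSt FibCat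

namespace Groth.Agent.IsoNat97

open AlgSt88 IsoNat

variable {S : Scheme.{u}} {𝒳 𝒴 : AlgSt.Cat S} {U : Over S}

theorem ResH.transfer {x : overCat U ⥤ᵇ 𝒳} (hX : IsFibGrpd 𝒳.p) {V T T' : Over S} {l : V ⟶ T} {r : V ⟶ T'}
    {a' b' a'' b'' : V ⟶ U} {a b : T ⟶ U} {c d : T' ⟶ U} {p : HomT x a' b'} {q : HomT x a'' b''} {σ : HomT x a b}
    {τ : HomT x c d} (hp : ResH l p σ) (hq : ResH l q σ) (hr : ResH r q τ) : ResH r p τ := by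
  obtain ⟨ha, hb, -⟩ := _root_.id hp
  obtain ⟨ha', hb', -⟩ := _root_.id hq
  obtain rfl := ha.symm.trans ha'
  obtain rfl := hb.symm.trans hb'
  obtain rfl := ResH.unique hX hp hq
  exact hr

/-- A universal isomorphism between pullbacks of a chart, on a scheme smooth over the chart. -/
structure Univ (x : overCat U ⥤ᵇ 𝒳) where
  P : Over S
  a₀ : P ⟶ U
  b₀ : P ⟶ U
  β₀ : HomT x a₀ b₀
  smooth : Smooth a₀.left
  lift : ∀ {W : Over S} {a b : W ⟶ U} (σ : HomT x a b), ∃ R ∈ AlgSp.J S W, ∀ ⦃V : Over S⦄ (g : V ⟶ W), R g →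
    ∃ (r : V ⟶ P) (σ' : HomT x (g ≫ a) (g ≫ b)), ResH g σ' σ ∧ ResH r σ' β₀
  Q : Over S
  q₁ : Q ⟶ P
  q₂ : Q ⟶ P
  smoothQ : Smooth (q₁ ≫ a₀).left
  eqa : q₁ ≫ a₀ = q₂ ≫ a₀
  eqb : q₁ ≫ b₀ = q₂ ≫ b₀
  overlap : ∀ {V : Over S} (r₁ r₂ : V ⟶ P) {a' b' : V ⟶ U} (σ' : HomT x a' b'), ResH r₁ σ' β₀ → ResH r₂ σ' β₀ →
    ∃ k : V ⟶ Q, k ≫ q₁ = r₁ ∧ k ≫ q₂ = r₂

variable {x : overCat U ⥤ᵇ 𝒳} {y : overCat U ⥤ᵇ 𝒴}

/-- The image of an isomorphism is determined by that of the universal one. -/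
def Tr (u : Univ x) (γ₀ : HomT y u.a₀ u.b₀) {T : Over S} {a b : T ⟶ U} (σ : HomT x a b) (γ : HomT y a b) : Prop :=
  ∀ ⦃V : Over S⦄ (g : V ⟶ T) (r : V ⟶ u.P) ⦃a' b' : V ⟶ U⦄ (σ' : HomT x a' b') (γ' : HomT y a' b'),
    ResH g σ' σ → ResH r σ' u.β₀ → ResH g γ' γ → ResH r γ' γ₀

/-- Restrictions of the image of the universal isomorphism do not depend on the lift. -/
theorem wd (hY : IsFibGrpd 𝒴.p) (u : Univ x) (γ₀ : HomT y u.a₀ u.b₀)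
    (hr : ∀ {T : Over S} (a : T ⟶ U) [Smooth a.left], Rig y a) {V : Over S} (r₁ r₂ : V ⟶ u.P) {a' b' : V ⟶ U}
    {σ' : HomT x a' b'} (h₁ : ResH r₁ σ' u.β₀) (h₂ : ResH r₂ σ' u.β₀) {γ₁ γ₂ : HomT y a' b'}
    (g₁ : ResH r₁ γ₁ γ₀) (g₂ : ResH r₂ γ₂ γ₀) : γ₁ = γ₂ := by
  obtain ⟨k, hk₁, hk₂⟩ := u.overlap r₁ r₂ σ' h₁ h₂
  obtain ⟨γQ, hQ₁⟩ := ResH.exists_of hY (l := u.q₁) rfl rfl γ₀
  obtain ⟨γQ', hQ₂⟩ := ResH.exists_of hY (l := u.q₂) u.eqa.symm u.eqb.symm γ₀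
  haveI := u.smoothQ
  obtain rfl : γQ = γQ' := (hr (u.q₁ ≫ u.a₀)).eq hY _ _
  exact ResH.unique hY (ResH.of_trans hY hQ₁ hk₁ g₁) (ResH.of_trans hY hQ₂ hk₂ g₂)

theorem exists_tr (hX : IsFibGrpd 𝒳.p) (h𝒴 : Stk.IsStack (AlgSp.J S) 𝒴) (u : Univ x) (γ₀ : HomT y u.a₀ u.b₀)
    (hr : ∀ {T : Over S} (a : T ⟶ U) [Smooth a.left], Rig y a) {T : Over S} {a b : T ⟶ U} (σ : HomT x a b) :
    ∃! γ : HomT y a b, Tr u γ₀ σ γ := by
  have hY := h𝒴.1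
  obtain ⟨R, hR, hl⟩ := u.lift σ
  have hex : ∀ ⦃V : Over S⦄ (g : V ⟶ T), R g → ∃ (ρ : HomT y (g ≫ a) (g ≫ b)) (r : V ⟶ u.P)
      (σ' : HomT x (g ≫ a) (g ≫ b)), ResH g σ' σ ∧ ResH r σ' u.β₀ ∧ ResH r ρ γ₀ := fun V g hg => by
    obtain ⟨r, σ', h1, h2⟩ := hl g hg
    obtain ⟨ha, hb, -⟩ := id h2
    obtain ⟨ρ, hρ⟩ := ResH.exists_of hY ha hb γ₀
    exact ⟨ρ, r, σ', h1, h2, hρ⟩
  choose θ rr σσ hσσ hrr hθ using hex
  have hcompat : ∀ ⦃V' V : Over S⦄ (h : V' ⟶ V) (g : V ⟶ T) (hg : R g) (hg' : R (h ≫ g)),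
      ResH h (θ (h ≫ g) hg') (θ g hg) := fun V' V h g hg hg' => by
    obtain ⟨τ, hτ⟩ := ResH.exists_of hY (l := h) (Category.assoc h g a).symm (Category.assoc h g b).symm (θ g hg)
    obtain ⟨σ'', hσ''⟩ := ResH.exists_of hX (l := h) (Category.assoc h g a).symm (Category.assoc h g b).symm (σσ g hg)
    obtain rfl := ResH.unique hX (hσ''.trans (hσσ g hg) rfl) (hσσ (h ≫ g) hg')
    obtain rfl := wd hY u γ₀ hr (h ≫ rr g hg) (rr (h ≫ g) hg') (hσ''.trans (hrr g hg) rfl) (hrr (h ≫ g) hg')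
      (hτ.trans (hθ g hg) rfl) (hθ (h ≫ g) hg')
    exact hτ
  obtain ⟨γ, hγ⟩ := exists_homT_glue h𝒴 y R hR θ hcompat
  refine ⟨γ, fun V g r a' b' σ' γ' h1 h2 h3 => ?_, fun γ₁ h₁ => ?_⟩
  · obtain ⟨ha, hb, -⟩ := id h2
    obtain ⟨δ, hδ⟩ := ResH.exists_of hY ha hb γ₀
    have : γ' = δ := homT_ext h𝒴 (R.pullback g) ((AlgSp.J S).pullback_stable g hR) fun V' h hh => by
      obtain ⟨ρ, hρ⟩ := ResH.exists_of hY (l := h) rfl rfl γ'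
      obtain ⟨δ', hδ'⟩ := ResH.exists_of hY (l := h) rfl rfl δ
      obtain ⟨σ'', hσ''⟩ := ResH.exists_of hX (l := h) rfl rfl σ'
      have e1 := ResH.transfer hY (hρ.trans h3 rfl) (hγ (h ≫ g) hh) (hθ (h ≫ g) hh)
      have e2 := ResH.transfer hX (hσ''.trans h1 rfl) (hσσ (h ≫ g) hh) (hrr (h ≫ g) hh)
      obtain rfl := wd hY u γ₀ hr (h ≫ r) (rr (h ≫ g) hh) (hσ''.trans h2 rfl) e2 (hδ'.trans hδ rfl) e1
      exact ⟨δ', hρ, hδ'⟩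
    rw [this]; exact hδ
  · refine homT_ext h𝒴 R hR fun V g hg => ⟨θ g hg, ?_, hγ g hg⟩
    obtain ⟨ρ, hρ⟩ := ResH.exists_of hY (l := g) rfl rfl γ₁
    obtain rfl := ResH.unique hY (h₁ g (rr g hg) (σσ g hg) ρ (hσσ g hg) (hrr g hg) hρ) (hθ g hg)
    exact hρ

/-- A natural family of maps between isomorphisms of pullbacks. -/
structure HomMap (x : overCat U ⥤ᵇ 𝒳) (y : overCat U ⥤ᵇ 𝒴) where
  app : ∀ {T : Over S} {a b : T ⟶ U}, HomT x a b → HomT y a b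
  res : ∀ {T' T : Over S} {l : T' ⟶ T} {a' b' : T' ⟶ U} {a b : T ⟶ U} {σ' : HomT x a' b'} {σ : HomT x a b},
    ResH l σ' σ → ResH l (app σ') (app σ)

theorem exists_homMap (hX : IsFibGrpd 𝒳.p) (h𝒴 : Stk.IsStack (AlgSp.J S) 𝒴) (u : Univ x)
    (hr : ∀ {T : Over S} (a : T ⟶ U) [Smooth a.left], Rig y a)
    (hne : ∀ {T : Over S} {a b : T ⟶ U}, HomT x a b → Nonempty (HomT y a b)) : Nonempty (HomMap x y) := by
  have hY := h𝒴.1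
  obtain ⟨γ₀⟩ := hne u.β₀
  refine ⟨⟨fun σ => (exists_tr hX h𝒴 u γ₀ hr σ).exists.choose, fun {T' T l a' b' a b σ' σ} h => ?_⟩⟩
  have h0 := (exists_tr hX h𝒴 u γ₀ hr σ).exists.choose_spec
  obtain ⟨ha, hb, -⟩ := id h
  obtain ⟨γ', hγ'⟩ := ResH.exists_of hY ha hb (exists_tr hX h𝒴 u γ₀ hr σ).exists.choose
  have h1 : Tr u γ₀ σ' γ' := fun V g r a'' b'' σ'' γ'' e1 e2 e3 =>
    h0 (g ≫ l) r σ'' γ'' (e1.trans h rfl) e2 (e3.trans hγ' rfl)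
  show ResH l (exists_tr hX h𝒴 u γ₀ hr σ').exists.choose _
  rw [(exists_tr hX h𝒴 u γ₀ hr σ').unique (exists_tr hX h𝒴 u γ₀ hr σ').exists.choose_spec h1]
  exact hγ'

/-- A natural family respects composition. -/
theorem HomMap.map_comp (Φ : HomMap x y) (hX : IsFibGrpd 𝒳.p) (h𝒴 : Stk.IsStack (AlgSp.J S) 𝒴) (u : Univ x)
    (hr : ∀ {T : Over S} (a : T ⟶ U) [Smooth a.left], Rig y a) {T : Over S} {a b c : T ⟶ U} (σ₁ : HomT x a b)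
    (σ₂ : HomT x b c) : Φ.app (σ₁.comp σ₂) = (Φ.app σ₁).comp (Φ.app σ₂) := by
  have hY := h𝒴.1
  obtain ⟨R₁, hR₁, hl₁⟩ := u.lift σ₁
  obtain ⟨R₂, hR₂, hl₂⟩ := u.lift σ₂
  refine homT_ext h𝒴 (R₁ ⊓ R₂) ((AlgSp.J S).intersection_covering hR₁ hR₂) fun V g hg => ?_
  obtain ⟨r₁, τ₁, h1, h1'⟩ := hl₁ g hg.1
  obtain ⟨r₂, τ₂, h2, h2'⟩ := hl₂ g hg.2
  haveI := u.smooth
  let M : Over S := Over.mk (pullback.fst u.b₀.left u.a₀.left ≫ u.P.hom)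
  let m₁ : M ⟶ u.P := Over.homMk (pullback.fst u.b₀.left u.a₀.left) rfl
  let m₂ : M ⟶ u.P := Over.homMk (pullback.snd u.b₀.left u.a₀.left) (by
    show _ = pullback.fst u.b₀.left u.a₀.left ≫ u.P.hom
    exact (congrArg (pullback.snd u.b₀.left u.a₀.left ≫ ·) (Over.w u.a₀).symm).trans
      ((pullback.condition_assoc _).symm.trans (congrArg (pullback.fst u.b₀.left u.a₀.left ≫ ·) (Over.w u.b₀))))
  have hm : m₂ ≫ u.a₀ = m₁ ≫ u.b₀ := Over.OverMorphism.ext pullback.condition.symm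
  have hr12 : r₁ ≫ u.b₀ = r₂ ≫ u.a₀ := by
    obtain ⟨-, hb, -⟩ := h1'
    obtain ⟨ha, -, -⟩ := h2'
    rw [ha, hb]
  let k : V ⟶ M := Over.homMk (pullback.lift r₁.left r₂.left (congrArg CommaMorphism.left hr12)) (by
    show _ ≫ pullback.fst u.b₀.left u.a₀.left ≫ u.P.hom = _
    rw [pullback.lift_fst_assoc, Over.w r₁])
  have hk₁ : k ≫ m₁ = r₁ := Over.OverMorphism.ext (pullback.lift_fst _ _ _)
  have hk₂ : k ≫ m₂ = r₂ := Over.OverMorphism.ext (pullback.lift_snd _ _ _)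
  obtain ⟨β₁, hβ₁⟩ := ResH.exists_of hX (l := m₁) rfl rfl u.β₀
  obtain ⟨β₂, hβ₂⟩ := ResH.exists_of hX (l := m₂) hm rfl u.β₀
  have e₁ := ResH.of_trans hX hβ₁ hk₁ h1'
  have e₂ := ResH.of_trans hX hβ₂ hk₂ h2'
  haveI : Smooth (m₁ ≫ u.a₀).left := inferInstanceAs (Smooth (pullback.fst u.b₀.left u.a₀.left ≫ u.a₀.left))
  have hM : Φ.app (β₁.comp β₂) = (Φ.app β₁).comp (Φ.app β₂) := (hr (m₁ ≫ u.a₀)).eq hY _ _
  have e₃ : Φ.app (τ₁.comp τ₂) = (Φ.app τ₁).comp (Φ.app τ₂) :=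
    ResH.unique hY (hM ▸ Φ.res (e₁.comp e₂)) ((Φ.res e₁).comp (Φ.res e₂))
  exact ⟨Φ.app (τ₁.comp τ₂), Φ.res (h1.comp h2), e₃ ▸ (Φ.res h1).comp (Φ.res h2)⟩

/-- Two natural families between rigid charts are inverse to each other. -/
theorem HomMap.app_app (Φ : HomMap x y) (Ψ : HomMap y x) (h𝒳 : Stk.IsStack (AlgSp.J S) 𝒳) (u : Univ x)
    (hr : ∀ {T : Over S} (a : T ⟶ U) [Smooth a.left], Rig x a) {T : Over S} {a b : T ⟶ U} (σ : HomT x a b) :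
    Ψ.app (Φ.app σ) = σ := by
  haveI := u.smooth
  have h0 : Ψ.app (Φ.app u.β₀) = u.β₀ := (hr u.a₀).eq h𝒳.1 _ _
  obtain ⟨R, hR, hl⟩ := u.lift σ
  refine homT_ext h𝒳 R hR fun V g hg => ?_
  obtain ⟨r, τ, h1, h2⟩ := hl g hg
  have e : Ψ.app (Φ.app τ) = τ := ResH.unique h𝒳.1 (h0 ▸ Ψ.res (Φ.res h2)) h2
  exact ⟨τ, e ▸ Ψ.res (Φ.res h1), h1⟩

end Groth.Agent.IsoNat97
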