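import Groth.Agent.IsoNat97.BaldUniv
import Groth.Agent.Fib44.DenseEquiv
import Groth.Agent.SpPts86.Basic

/-! Bald stacks with isomorphic presheaves of isomorphism classes are equivalent. -/

set_option autoImplicit false
set_option linter.unusedVariables false
set_option linter.style.haveILetI false
set_option backward.isDefEq.respectTransparency false
set_option backward.isDefEq.respectTransparency.types false
universe u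

open CategoryTheory CategoryTheory.Limits AlgebraicGeometry Opposite AlgSt FibCat

namespace Groth.Agent.IsoNat97

open AlgSt88 IsoNat

variable {S : Scheme.{u}} {𝒳 𝒴 : AlgSt.Cat S} {U : Over S} {x : overCat U ⥤ᵇ 𝒳} {y : overCat U ⥤ᵇ 𝒴}

/-- The full subcategory of the values of a chart. -/
abbrev chartCat (x : overCat U ⥤ᵇ 𝒳) : AlgSt.Cat S :=
  @BasedCategory.ofFunctor (Over S) _ (InducedCategory 𝒳.obj (fun a : Over U => (chObj x a.hom).1)) _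
    (inducedFunctor (fun a : Over U => (chObj x a.hom).1) ⋙ 𝒳.p)

def chartInc (x : overCat U ⥤ᵇ 𝒳) : chartCat x ⥤ᵇ 𝒳 where
  toFunctor := inducedFunctor (fun a : Over U => (chObj x a.hom).1)
  w := rfl

/-- A morphism and its image under a correspondence of isomorphisms of pullbacks. -/
def Img (Φ : HomMap x y) (a' a : Over U) (f : (chObj x a'.hom).1 ⟶ (chObj x a.hom).1)
    (k : (chObj y a'.hom).1 ⟶ (chObj y a.hom).1) : Prop :=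
  ∃ (g : a'.left ⟶ a.left) (c : a'.left ⟶ U) (e : g ≫ a.hom = c) (σ : HomT x a'.hom c),
    σ.1 ≫ chMap x g e = f ∧ (Φ.app σ).1 ≫ chMap y g e = k

theorem exists_homT_fac (hX : IsFibGrpd 𝒳.p) {a' a : Over U} (f : (chObj x a'.hom).1 ⟶ (chObj x a.hom).1) :
    ∃ (g : a'.left ⟶ a.left) (c : a'.left ⟶ U) (e : g ≫ a.hom = c) (σ : HomT x a'.hom c),
      σ.1 ≫ chMap x g e = f := by
  let g : a'.left ⟶ a.left := eqToHom (chObj x a'.hom).2.symm ≫ 𝒳.p.map f ≫ eqToHom (chObj x a.hom).2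
  obtain ⟨χ, ⟨hχ, hχe⟩, -⟩ := exists_fac hX (𝟙 _) (Category.id_comp g) (chMap x g (rfl : g ≫ a.hom = g ≫ a.hom))
    (isHomLift_chMap x g rfl) f (IsHomLift.of_fac' 𝒳.p g f (chObj x a'.hom).2 (chObj x a.hom).2 (by simp [g]))
  exact ⟨g, _, rfl, ⟨χ, hχ⟩, hχe⟩

theorem fac_inj (hX : IsFibGrpd 𝒳.p) {a' a : Over U} {g₁ g₂ : a'.left ⟶ a.left} {c₁ c₂ : a'.left ⟶ U}
    {e₁ : g₁ ≫ a.hom = c₁} {e₂ : g₂ ≫ a.hom = c₂} {σ₁ : HomT x a'.hom c₁} {σ₂ : HomT x a'.hom c₂}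
    (h : σ₁.1 ≫ chMap x g₁ e₁ = σ₂.1 ≫ chMap x g₂ e₂) :
    ∃ (hg : g₁ = g₂) (hc : c₁ = c₂), hc ▸ σ₁ = σ₂ := by
  haveI := σ₁.2
  haveI := σ₂.2
  haveI l₁ : 𝒳.p.IsHomLift g₁ (σ₁.1 ≫ chMap x g₁ e₁) := by
    have h' : 𝒳.p.IsHomLift (𝟙 _ ≫ g₁) (σ₁.1 ≫ chMap x g₁ e₁) := inferInstance
    rwa [Category.id_comp] at h'
  haveI l₂ : 𝒳.p.IsHomLift g₂ (σ₁.1 ≫ chMap x g₁ e₁) := by
    have h' : 𝒳.p.IsHomLift (𝟙 _ ≫ g₂) (σ₂.1 ≫ chMap x g₂ e₂) := inferInstance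
    rwa [Category.id_comp, ← h] at h'
  obtain rfl : g₁ = g₂ := by
    have i₁ := IsHomLift.fac' 𝒳.p g₁ (σ₁.1 ≫ chMap x g₁ e₁)
    have i₂ := IsHomLift.fac' 𝒳.p g₂ (σ₁.1 ≫ chMap x g₁ e₁)
    exact (cancel_mono (eqToHom (chObj x a.hom).2.symm)).1
      ((cancel_epi (eqToHom (chObj x a'.hom).2)).1 (i₁.symm.trans i₂))
  obtain rfl : c₁ = c₂ := e₁.symm.trans e₂
  obtain ⟨χ, -, hu⟩ := exists_fac hX (𝟙 _) (Category.id_comp g₁) (chMap x g₁ e₁) (isHomLift_chMap x g₁ e₁)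
    (σ₁.1 ≫ chMap x g₁ e₁) l₁
  exact ⟨rfl, rfl, Subtype.ext ((hu _ σ₁.2 rfl).trans (hu _ σ₂.2 h.symm).symm)⟩

theorem Img.unique (hX : IsFibGrpd 𝒳.p) {Φ : HomMap x y} {a' a : Over U}
    {f : (chObj x a'.hom).1 ⟶ (chObj x a.hom).1} {k₁ k₂ : (chObj y a'.hom).1 ⟶ (chObj y a.hom).1}
    (h₁ : Img Φ a' a f k₁) (h₂ : Img Φ a' a f k₂) : k₁ = k₂ := by
  obtain ⟨g₁, c₁, e₁, σ₁, hf₁, rfl⟩ := h₁
  obtain ⟨g₂, c₂, e₂, σ₂, hf₂, rfl⟩ := h₂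
  obtain ⟨rfl, rfl, rfl⟩ := fac_inj hX (hf₁.trans hf₂.symm)
  rfl

theorem Img.exists_right (hX : IsFibGrpd 𝒳.p) (Φ : HomMap x y) {a' a : Over U}
    (f : (chObj x a'.hom).1 ⟶ (chObj x a.hom).1) : ∃ k, Img Φ a' a f k := by
  obtain ⟨g, c, e, σ, h⟩ := exists_homT_fac hX f
  exact ⟨_, g, c, e, σ, h, rfl⟩

theorem Img.map_eq {Φ : HomMap x y} {a' a : Over U} {f : (chObj x a'.hom).1 ⟶ (chObj x a.hom).1}
    {k : (chObj y a'.hom).1 ⟶ (chObj y a.hom).1} (h : Img Φ a' a f k) :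
    𝒴.p.map k = eqToHom ((chObj y a'.hom).2.trans (chObj x a'.hom).2.symm) ≫ 𝒳.p.map f ≫
      eqToHom ((chObj x a.hom).2.trans (chObj y a.hom).2.symm) := by
  obtain ⟨g, c, e, σ, rfl, rfl⟩ := h
  haveI := σ.2
  haveI := (Φ.app σ).2
  rw [IsHomLift.fac' 𝒴.p (𝟙 _ ≫ g) ((Φ.app σ).1 ≫ chMap y g e), IsHomLift.fac' 𝒳.p (𝟙 _ ≫ g) (σ.1 ≫ chMap x g e)]
  simp

theorem HomMap.app_id (Φ : HomMap x y) (hY : IsFibGrpd 𝒴.p)
    (hc : ∀ {T : Over S} {a b c : T ⟶ U} (σ₁ : HomT x a b) (σ₂ : HomT x b c),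
      Φ.app (σ₁.comp σ₂) = (Φ.app σ₁).comp (Φ.app σ₂)) {T : Over S} (a : T ⟶ U) :
    Φ.app (HomT.id x a) = HomT.id y a := by
  have h := congrArg Subtype.val (hc (HomT.id x a) (HomT.id x a))
  rw [show (HomT.id x a).comp (HomT.id x a) = HomT.id x a from Subtype.ext (Category.id_comp _)] at h
  haveI := (Φ.app (HomT.id x a)).2
  haveI := fg_isIso_of_lift_id hY (Φ.app (HomT.id x a)).1 T
  exact Subtype.ext ((cancel_epi (Φ.app (HomT.id x a)).1).1 (h.symm.trans (Category.comp_id _).symm))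

theorem Img.id (hY : IsFibGrpd 𝒴.p) {Φ : HomMap x y}
    (hc : ∀ {T : Over S} {a b c : T ⟶ U} (σ₁ : HomT x a b) (σ₂ : HomT x b c),
      Φ.app (σ₁.comp σ₂) = (Φ.app σ₁).comp (Φ.app σ₂)) (a : Over U) : Img Φ a a (𝟙 _) (𝟙 _) := by
  refine ⟨𝟙 _, a.hom, Category.id_comp _, HomT.id x a.hom, ?_, ?_⟩
  · exact (Category.id_comp _).trans ((congrArg x.map (Over.OverMorphism.ext rfl)).trans (x.map_id _))
  · rw [Φ.app_id hY hc]
    exact (Category.id_comp _).trans ((congrArg y.map (Over.OverMorphism.ext rfl)).trans (y.map_id _))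

theorem Img.comp (hX : IsFibGrpd 𝒳.p) {Φ : HomMap x y}
    (hc : ∀ {T : Over S} {a b c : T ⟶ U} (σ₁ : HomT x a b) (σ₂ : HomT x b c),
      Φ.app (σ₁.comp σ₂) = (Φ.app σ₁).comp (Φ.app σ₂))
    {a₁ a₂ a₃ : Over U} {f₁ : (chObj x a₁.hom).1 ⟶ (chObj x a₂.hom).1}
    {k₁ : (chObj y a₁.hom).1 ⟶ (chObj y a₂.hom).1} {f₂ : (chObj x a₂.hom).1 ⟶ (chObj x a₃.hom).1}
    {k₂ : (chObj y a₂.hom).1 ⟶ (chObj y a₃.hom).1} (h₁ : Img Φ a₁ a₂ f₁ k₁) (h₂ : Img Φ a₂ a₃ f₂ k₂) :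
    Img Φ a₁ a₃ (f₁ ≫ f₂) (k₁ ≫ k₂) := by
  obtain ⟨g₁, c₁, e₁, σ₁, rfl, rfl⟩ := h₁
  obtain ⟨g₂, c₂, e₂, σ₂, rfl, rfl⟩ := h₂
  obtain ⟨σ₂', hσ⟩ := ResH.exists_of hX (l := g₁) e₁ (rfl : g₁ ≫ c₂ = g₁ ≫ c₂) σ₂
  obtain ⟨ha, hb, e⟩ := _root_.id hσ
  obtain ⟨_, _, e'⟩ := Φ.res hσ
  refine ⟨g₁ ≫ g₂, g₁ ≫ c₂, by rw [Category.assoc, e₂], σ₁.comp σ₂', ?_, ?_⟩
  · show (σ₁.1 ≫ σ₂'.1) ≫ _ = _
    rw [← chMap_comp x g₁ g₂ hb e₂ (g₁ ≫ g₂) rfl, Category.assoc, ← Category.assoc σ₂'.1, e]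
    simp only [Category.assoc]
  · rw [hc]
    show ((Φ.app σ₁).1 ≫ (Φ.app σ₂').1) ≫ _ = _
    rw [← chMap_comp y g₁ g₂ hb e₂ (g₁ ≫ g₂) rfl, Category.assoc, ← Category.assoc (Φ.app σ₂').1, e']
    simp only [Category.assoc]

/-- The functor from the values of a chart to the values of the corresponding one. -/
theorem exists_chartFun (hX : IsFibGrpd 𝒳.p) (hY : IsFibGrpd 𝒴.p) (Φ : HomMap x y) (Ψ : HomMap y x)
    (hΦΨ : ∀ {T : Over S} {a b : T ⟶ U} (σ : HomT x a b), Ψ.app (Φ.app σ) = σ)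
    (hΨΦ : ∀ {T : Over S} {a b : T ⟶ U} (σ : HomT y a b), Φ.app (Ψ.app σ) = σ)
    (hc : ∀ {T : Over S} {a b c : T ⟶ U} (σ₁ : HomT x a b) (σ₂ : HomT x b c),
      Φ.app (σ₁.comp σ₂) = (Φ.app σ₁).comp (Φ.app σ₂)) :
    ∃ F : chartCat x ⥤ᵇ 𝒴, F.toFunctor.Full ∧ F.toFunctor.Faithful ∧
      ∀ a : Over U, F.obj a = (chObj y a.hom).1 := by
  let m : ∀ (a' a : Over U), ((chObj x a'.hom).1 ⟶ (chObj x a.hom).1) → ((chObj y a'.hom).1 ⟶ (chObj y a.hom).1) :=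
    fun a' a f => (Img.exists_right hX Φ f).choose
  have hm : ∀ (a' a : Over U) (f : (chObj x a'.hom).1 ⟶ (chObj x a.hom).1), Img Φ a' a f (m a' a f) :=
    fun a' a f => (Img.exists_right hX Φ f).choose_spec
  let F : chartCat x ⥤ᵇ 𝒴 :=
    { toFunctor :=
        { obj := fun a => (chObj y (show Over U from a).hom).1
          map := fun {a' a} f => m a' a f.hom
          map_id := fun a => Img.unique hX (hm a a _) (Img.id hY hc a)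
          map_comp := fun {a₁ a₂ a₃} f₁ f₂ =>
            Img.unique hX (hm a₁ a₃ _) (Img.comp hX hc (hm a₁ a₂ f₁.hom) (hm a₂ a₃ f₂.hom)) }
      w := CategoryTheory.Functor.ext (fun a => (chObj y (show Over U from a).hom).2.trans
          (chObj x (show Over U from a).hom).2.symm) (fun a' a f => (hm a' a f.hom).map_eq) }
  refine ⟨F, ⟨fun {a' a} k => ?_⟩, ⟨fun {a' a f₁ f₂} h => ?_⟩, fun a => rfl⟩
  · obtain ⟨g, c, e, η, hη⟩ := exists_homT_fac hY (show (chObj y _).1 ⟶ (chObj y _).1 from k)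
    refine ⟨InducedCategory.homMk ((Ψ.app η).1 ≫ chMap x g e), Img.unique hX (hm _ _ _) ⟨g, c, e, Ψ.app η, rfl, ?_⟩⟩
    rw [hΨΦ]; exact hη
  · obtain ⟨g₁, c₁, e₁, σ₁, hf₁, hk₁⟩ := hm a' a f₁.hom
    obtain ⟨g₂, c₂, e₂, σ₂, hf₂, hk₂⟩ := hm a' a f₂.hom
    obtain ⟨rfl, rfl, h'⟩ := fac_inj hY (hk₁.trans (h.trans hk₂.symm))
    obtain rfl : σ₁ = σ₂ := by rw [← hΦΨ σ₁, ← hΦΨ σ₂, ← h']
    exact InducedCategory.hom_ext (hf₁.symm.trans hf₂)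

/-- Every object of a stack lifts locally to a surjective smooth chart. -/
theorem exists_local_lift (h𝒳 : Stk.IsStack (AlgSp.J S) 𝒳) (hx : Sm x) (hxs : Sj x) (b : 𝒳.obj) :
    ∃ R ∈ AlgSp.J S (𝒳.p.obj b), ∀ ⦃V : Over S⦄ (g : V ⟶ 𝒳.p.obj b), R g →
      ∃ (a : Over U) (m : (chObj x a.hom).1 ⟶ b), 𝒳.p.IsHomLift g m := by
  have hX := h𝒳.1
  let T := 𝒳.p.obj b
  obtain ⟨k, hk⟩ := classify_mk_id hX b (rfl : 𝒳.p.obj b = T)
  let z : overCat T ⥤ᵇ 𝒳 := classify hX b rfl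
  haveI : (AlgSp.LocP (S := S) @Smooth).RespectsIso := respectsIso_locP _
  obtain ⟨F, e, he, hsm, hsj⟩ := repByAlgSpWith_inf hx hxs T z
  obtain ⟨P, p, hp, hps⟩ := F.property.atlas
  obtain ⟨n, hn⟩ := (AlgSp.yon S).map_surjective (p ≫ spMapOfOver (BasedFunctor.comp e (fpFst z x)))
  haveI : Smooth n.left := hsm p (𝟙 _) n hp (AlgSp.repWith_id _ _) (by rw [Category.comp_id]; exact hn.symm)
  haveI : Surjective n.left := ⟨fun t => by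
    obtain ⟨f, hf⟩ := hsj (AlgSp.Points.schemeHomeo T t)
    obtain ⟨q, hq⟩ := SpPts86.isSurjectiveMor_of_repWith hps f
    obtain ⟨v, rfl⟩ := (AlgSp.Points.schemeHomeo P).surjective q
    refine ⟨v, (AlgSp.Points.schemeHomeo T).injective ?_⟩
    rw [← AlgSp.Points.map_yon_map_apply, hn, AlgSp.Points.map_comp, hq, hf]⟩
  refine ⟨Sieve.generate (Presieve.singleton n), SpFP87.generate_singleton_mem n
    ((SpFP87.fppfSurj_iff _).2 ⟨inferInstance, inferInstance, inferInstance⟩), ?_⟩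
  rintro V g ⟨Y, h, f, ⟨⟩, rfl⟩
  have key : ∀ (ob : (fp z x).obj) (ho : ob.obj.fst.left = P), eqToHom ho.symm ≫ ob.obj.fst.hom = n →
      ∃ (c : P ⟶ U) (i : (chObj x c).1 ⟶ (chObj z n).1), 𝒳.p.IsHomLift (𝟙 P) i := by
    rintro ⟨⟨A, B, i⟩, hi⟩ ho hh
    obtain ⟨T₀, ⟨⟨⟩⟩, a₀⟩ := A
    obtain ⟨T₁, ⟨⟨⟩⟩, b₀⟩ := B
    change T₀ = P at ho
    subst ho
    obtain rfl : a₀ = n := (Category.id_comp a₀).symm.trans hh
    obtain rfl : T₁ = T₀ := (fpSnd z x).w_obj ⟨⟨Over.mk a₀, Over.mk b₀, i⟩, hi⟩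
    haveI : 𝒳.p.IsHomLift (𝟙 T₁) i.hom := hi
    exact ⟨b₀, i.inv, IsHomLift.lift_id_inv _ _ _⟩
  obtain ⟨c, i, hi⟩ := key _ (e.w_obj (secObj p)) ((AlgSp.yon S).map_injective
    ((sec_proj e p _ (e.w_obj (secObj p)) (𝟙 _) (IsHomLift.id (e.w_obj (secObj p)))).symm.trans hn.symm))
  haveI := hi
  haveI := hk
  refine ⟨Over.mk (h ≫ c), chMap x h rfl ≫ i ≫ chMap z n (Category.comp_id _) ≫ k.hom, ?_⟩
  have h' : 𝒳.p.IsHomLift (h ≫ (𝟙 P ≫ (n ≫ 𝟙 T))) (chMap x h rfl ≫ i ≫ chMap z n (Category.comp_id _) ≫ k.hom) :=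
    inferInstance
  simpa using h'

/-- Bald stacks are determined by their presheaves of isomorphism classes. -/
theorem exists_equiv_of_bald (h𝒳 : IsAlgStack Scheme.fppfPrecoverage 𝒳) (h𝒴 : IsAlgStack Scheme.fppfPrecoverage 𝒴)
    (h𝒳d : RepByAlgSpWith (AlgSp.IsSeparatedMor ⊓ AlgSp.IsQuasiCompactMor) (FibCat.diag (FibCat.toSelf 𝒳)))
    (h𝒴d : RepByAlgSpWith (AlgSp.IsSeparatedMor ⊓ AlgSp.IsQuasiCompactMor) (FibCat.diag (FibCat.toSelf 𝒴)))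
    (h𝒴i : RepByAlgSpWith (AlgSp.LocP @LocallyOfFinitePresentation) (inertiaToBase (toSelf 𝒴)))
    (h𝒳b : ∀ (U : Over S) (x : FibCat.overCat U ⥤ᵇ 𝒳), AlgSt.RepByAlgSpWith (AlgSp.LocP @Smooth) x →
      ∃ V : U.left.Opens,
        (∀ (T : Over S) (g : T ⟶ U), (∃ g' : T.left ⟶ ↑V, g' ≫ V.ι = g.left) ↔ IsoNat.IsClean (x.obj (Over.mk g))) ∧
        CInt.IsSchematicallyDense V)
    (h𝒴b : ∀ (U : Over S) (x : FibCat.overCat U ⥤ᵇ 𝒴), AlgSt.RepByAlgSpWith (AlgSp.LocP @Smooth) x →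
      ∃ V : U.left.Opens,
        (∀ (T : Over S) (g : T ⟶ U), (∃ g' : T.left ⟶ ↑V, g' ≫ V.ι = g.left) ↔ IsoNat.IsClean (x.obj (Over.mk g))) ∧
        CInt.IsSchematicallyDense V)
    (φ : FIso 𝒳 𝒴) : ∃ e : 𝒳 ⥤ᵇ 𝒴, IsEquivOver e := by
  have hX := h𝒳.isStack.1
  have hY := h𝒴.isStack.1
  obtain ⟨U, x, hx, hxs⟩ := h𝒳.atlas
  obtain ⟨y, hxy⟩ := exists_corr hY φ x
  have hy : Sm y := sm_detect h𝒳 h𝒴 h𝒴i φ hxy hx
  have hys : Sj y := sj_detect h𝒳 h𝒴 φ hxy (repByAlgSp1_of_with hy) hxs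
  have rX : ∀ {T : Over S} (a : T ⟶ U) [Smooth a.left], Rig x a := fun a => rig_of_bald hX h𝒳d h𝒳b hx a
  have rY : ∀ {T : Over S} (a : T ⟶ U) [Smooth a.left], Rig y a := fun a => rig_of_bald hY h𝒴d h𝒴b hy a
  have nXY : ∀ {T : Over S} {a b : T ⟶ U}, HomT x a b → Nonempty (HomT y a b) := fun {T a b} σ => by
    apply HomT.nonempty_of_cls
    rw [← corr_chObj hY φ hxy a, ← corr_chObj hY φ hxy b, σ.cls_eq hX]
  have nYX : ∀ {T : Over S} {a b : T ⟶ U}, HomT y a b → Nonempty (HomT x a b) := fun {T a b} σ => by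
    apply HomT.nonempty_of_cls
    apply (φ.toEquiv T).injective
    rw [corr_chObj hY φ hxy a, corr_chObj hY φ hxy b, σ.cls_eq hY]
  obtain ⟨ux⟩ := exists_univ hX hx
  obtain ⟨uy⟩ := exists_univ hY hy
  obtain ⟨Φ⟩ := exists_homMap hX h𝒴.isStack ux rY nXY
  obtain ⟨Ψ⟩ := exists_homMap hY h𝒳.isStack uy rX nYX
  obtain ⟨F, hF, hF', hFobj⟩ := exists_chartFun hX hY Φ Ψ (Φ.app_app Ψ h𝒳.isStack ux rX)
    (Ψ.app_app Φ h𝒴.isStack uy rY) (Φ.map_comp hX h𝒴.isStack ux rY)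
  haveI : (chartInc x).toFunctor.Full := inferInstanceAs (inducedFunctor _).Full
  haveI : (chartInc x).toFunctor.Faithful := inferInstanceAs (inducedFunctor _).Faithful
  haveI := hF
  haveI := hF'
  obtain ⟨e, he, -⟩ := Fib44.exists_equiv_of_dense h𝒴.isStack h𝒳.isStack
    (fun {a V} g => by
      let a₀ : Over U := a
      let g' : V ⟶ a₀.left := g ≫ eqToHom (chObj x a₀.hom).2
      refine ⟨Over.mk (g' ≫ a₀.hom), InducedCategory.homMk (chMap x g' rfl), ?_⟩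
      refine IsHomLift.of_fac' (chartCat x).p g _ (chObj x _).2 rfl ?_
      show 𝒳.p.map (chMap x g' rfl) = _
      rw [IsHomLift.fac' 𝒳.p g' (chMap x g' rfl)]
      simp [g'])
    (chartInc x) F (exists_local_lift h𝒳.isStack hx hxs) (fun b => by
      obtain ⟨R, hR, h⟩ := exists_local_lift h𝒴.isStack hy hys b
      refine ⟨R, hR, fun V g hg => ?_⟩
      obtain ⟨a, m, hm⟩ := h g hg
      refine ⟨a, eqToHom (hFobj a) ≫ m, ?_⟩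
      haveI := hm
      infer_instance)
  exact ⟨e, he⟩

end Groth.Agent.IsoNat97
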