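import Groth.Agent.IsoNat97.Lift
import Groth.Agent.AlgSt88.UnivInjDiag
import Groth.Agent.AlgSt88.SpHom

/-! Sections of a space representing a category over the base, and objects of that category. -/

set_option autoImplicit false
set_option linter.unusedVariables false
set_option linter.style.haveILetI false
set_option backward.isDefEq.respectTransparency false
set_option backward.isDefEq.respectTransparency.types false
universe u

open CategoryTheory CategoryTheory.Limits AlgebraicGeometry Opposite AlgSt FibCat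

namespace Groth.Agent.IsoNat97

open AlgSt88

variable {S : Scheme.{u}} {F : AlgSp.Sp S} {P : AlgSt.Cat S}

/-- The section of a map out of a representable sheaf. -/
abbrev secVal {T : Over S} (s : (AlgSp.yon S).obj T ⟶ F) : F.obj.obj (op T) := s.hom.app (op T) ⟨𝟙 T⟩

theorem secVal_comp {T' T : Over S} (g : T' ⟶ T) (s : (AlgSp.yon S).obj T ⟶ F) :
    secVal ((AlgSp.yon S).map g ≫ s) = F.obj.map g.op (secVal s) := by
  refine Eq.trans ?_ (NatTrans.naturality_apply s.hom g.op ⟨𝟙 T⟩)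
  exact congrArg (fun t => s.hom.app (op T') ⟨t⟩) ((Category.id_comp g).trans (Category.comp_id g).symm)

theorem secVal_inj {T : Over S} {s t : (AlgSp.yon S).obj T ⟶ F} (h : secVal s = secVal t) : s = t :=
  (AlgSp.J S).uliftYonedaEquiv.{u + 1}.injective h

theorem secVal_surj {T : Over S} (z : F.obj.obj (op T)) : ∃ s : (AlgSp.yon S).obj T ⟶ F, secVal s = z :=
  ⟨(AlgSp.J S).uliftYonedaEquiv.{u + 1}.symm z, (AlgSp.J S).uliftYonedaEquiv.{u + 1}.apply_symm_apply z⟩

/-- The object with a given section. -/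
abbrev secObj {T : Over S} (s : (AlgSp.yon S).obj T ⟶ F) : (ofSp F).obj := ⟨T, secVal s⟩

variable {e : ofSp F ⥤ᵇ P}

/-- Every object is given by a section. -/
theorem exists_sec (he : IsEquivOver e) {T : Over S} (o : P.obj) (ho : P.p.obj o = T) :
    ∃ (s : (AlgSp.yon S).obj T ⟶ F) (k : e.obj (secObj s) ⟶ o), P.p.IsHomLift (𝟙 T) k := by
  obtain ⟨z, κ, hκ⟩ := (isEquivData_of_isEquivOver he).essSurj o
  subst ho
  have hz : z.base = P.p.obj o := (e.w_obj z).symm.trans (IsHomLift.domain_eq P.p (𝟙 (P.p.obj o)) κ.hom)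
  obtain ⟨s, hs⟩ := secVal_surj (F.obj.map (eqToHom hz.symm).op z.sec)
  let f : secObj s ⟶ z := ⟨eqToHom hz.symm, hs.symm⟩
  refine ⟨s, e.map f ≫ κ.hom, IsHomLift.of_fac' P.p _ _ (e.w_obj _) rfl ?_⟩
  rw [Functor.map_comp, p_map_eq, IsHomLift.fac' P.p (𝟙 (P.p.obj o)) κ.hom,
    show (ofSp F).p.map f = eqToHom hz.symm from rfl]
  simp

/-- Restriction of sections is realised by a morphism. -/
theorem exists_res {T' T : Over S} (g : T' ⟶ T) (s : (AlgSp.yon S).obj T ⟶ F) :
    ∃ k : e.obj (secObj ((AlgSp.yon S).map g ≫ s)) ⟶ e.obj (secObj s), P.p.IsHomLift g k := by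
  let f : secObj ((AlgSp.yon S).map g ≫ s) ⟶ secObj s := ⟨g, (secVal_comp g s).symm⟩
  exact ⟨e.map f, IsHomLift.of_fac' P.p g _ (e.w_obj _) (e.w_obj _) (p_map_eq e f)⟩

/-- Sections are determined by their objects, functorially. -/
theorem sec_eq (he : IsEquivOver e) (hP : IsFibGrpd P.p) {T' T : Over S} (g : T' ⟶ T)
    {s' : (AlgSp.yon S).obj T' ⟶ F} {s : (AlgSp.yon S).obj T ⟶ F} {o' o : P.obj} (k' : e.obj (secObj s') ⟶ o')
    (hk' : P.p.IsHomLift (𝟙 T') k') (k : e.obj (secObj s) ⟶ o) (hk : P.p.IsHomLift (𝟙 T) k) (m : o' ⟶ o)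
    (hm : P.p.IsHomLift g m) : (AlgSp.yon S).map g ≫ s = s' := by
  haveI := hk
  haveI := hk'
  haveI := hm
  haveI := fg_isIso_of_lift_id hP k T
  let M : e.obj (secObj s') ⟶ e.obj (secObj s) := k' ≫ m ≫ inv k
  haveI hM : P.p.IsHomLift g M := by dsimp only [M]; infer_instance
  obtain ⟨f, hf⟩ := (isEquivData_of_isEquivOver he).full M
  haveI : P.p.IsHomLift g (e.map f) := hf ▸ hM
  have h1 := IsHomLift.fac' P.p g (e.map f)
  rw [p_map_eq] at h1
  have h2 : f.hom = g := (cancel_mono (eqToHom (e.w_obj (secObj s)).symm)).1 ((cancel_epi (eqToHom (e.w_obj (secObj s')))).1 h1)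
  apply secVal_inj
  rw [secVal_comp, ← h2]
  exact f.map_sec

/-- The structure map of a section into a slice. -/
theorem sec_proj {T₁ : Over S} {𝒳 𝒴 : AlgSt.Cat S} {c : overCat T₁ ⥤ᵇ 𝒳} {x : 𝒴 ⥤ᵇ 𝒳} (e : ofSp F ⥤ᵇ fp c x) {T : Over S}
    (s : (AlgSp.yon S).obj T ⟶ F) (o : (fp c x).obj) (ho : o.obj.fst.left = T) (k : e.obj (secObj s) ⟶ o)
    (hk : (fp c x).p.IsHomLift (𝟙 T) k) :
    s ≫ spMapOfOver (BasedFunctor.comp e (fpFst c x)) = (AlgSp.yon S).map (eqToHom ho.symm ≫ o.obj.fst.hom) := by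
  apply secVal_inj
  show (spMapOfOver (BasedFunctor.comp e (fpFst c x))).hom.app (op T) (secVal s) = _
  rw [spMapOfOver_app]
  apply ULift.ext
  refine Eq.trans ?_ (Category.id_comp _).symm
  have h1 : k.hom.fst.left = _ := IsHomLift.fac' (fp c x).p (𝟙 T) k
  have h2 := Over.w k.hom.fst
  show eqToHom _ ≫ (e.obj (secObj s)).obj.fst.hom = _
  rw [← h2, h1]
  simp

end Groth.Agent.IsoNat97
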