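import Groth.Agent.IsoNat97.Transfer
import Groth.Agent.IsoNat97.AutSep
import Groth.Agent.IsoNat97.Sec
import Groth.Agent.Fib44.Glue
import Groth.Agent.SGA3a.SchemDense
import Groth.Agent.SpFP87.Cover
import Groth.Agent.AlgSt88.QC

/-! Isomorphisms between the pullbacks of a chart along two morphisms, and their rigidity over the clean locus. -/

set_option autoImplicit false
set_option linter.unusedVariables false
set_option linter.style.haveILetI false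
set_option backward.isDefEq.respectTransparency false
set_option backward.isDefEq.respectTransparency.types false
universe u

open CategoryTheory CategoryTheory.Limits AlgebraicGeometry Opposite AlgSt FibCat

namespace Groth.Agent.IsoNat97

open AlgSt88 IsoNat

variable {S : Scheme.{u}} {𝒳 : AlgSt.Cat S} {U : Over S}

/-- Morphisms over the identity between two pullbacks of a chart. -/
abbrev HomT (x : overCat U ⥤ᵇ 𝒳) {T : Over S} (a b : T ⟶ U) :=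
  {σ : (chObj x a).1 ⟶ (chObj x b).1 // 𝒳.p.IsHomLift (𝟙 T) σ}

namespace HomT

variable {x : overCat U ⥤ᵇ 𝒳} {T : Over S} {a b c : T ⟶ U}

def id (x : overCat U ⥤ᵇ 𝒳) {T : Over S} (a : T ⟶ U) : HomT x a a := ⟨𝟙 _, map_eqToHom_lift (chObj x a).2⟩

def comp (σ : HomT x a b) (τ : HomT x b c) : HomT x a c :=
  ⟨σ.1 ≫ τ.1, haveI := σ.2; haveI := τ.2; inferInstance⟩

noncomputable def inv (hX : IsFibGrpd 𝒳.p) (σ : HomT x a b) : HomT x b a :=
  haveI := σ.2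
  haveI := fg_isIso_of_lift_id hX σ.1 T
  ⟨CategoryTheory.inv σ.1, inferInstance⟩

theorem comp_inv (hX : IsFibGrpd 𝒳.p) (σ : HomT x a b) : σ.comp (σ.inv hX) = HomT.id x a := by
  haveI := σ.2
  haveI := fg_isIso_of_lift_id hX σ.1 T
  exact Subtype.ext (IsIso.hom_inv_id σ.1)

/-- The isomorphism classes of the two pullbacks agree. -/
theorem cls_eq (hX : IsFibGrpd 𝒳.p) (σ : HomT x a b) : cls (chObj x a) = cls (chObj x b) := by
  haveI := σ.2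
  haveI := fg_isIso_of_lift_id hX σ.1 T
  exact cls_eq_iff.2 ⟨Fib44.fiberIso (asIso σ.1) σ.2 (chObj x a).2 (chObj x b).2⟩

theorem nonempty_of_cls (h : cls (chObj x a) = cls (chObj x b)) : Nonempty (HomT x a b) := by
  obtain ⟨e⟩ := cls_eq_iff.1 h
  exact ⟨⟨e.hom.1, e.hom.2⟩⟩

end HomT

/-- Restriction of morphisms between pullbacks. -/
def ResH {x : overCat U ⥤ᵇ 𝒳} {T' T : Over S} (l : T' ⟶ T) {a' b' : T' ⟶ U} {a b : T ⟶ U} (σ' : HomT x a' b')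
    (σ : HomT x a b) : Prop :=
  ∃ (ha : l ≫ a = a') (hb : l ≫ b = b'), σ'.1 ≫ chMap x l hb = chMap x l ha ≫ σ.1

namespace ResH

variable {x : overCat U ⥤ᵇ 𝒳} {T'' T' T : Over S} {l : T' ⟶ T} {a'' b'' c'' : T'' ⟶ U} {a' b' c' : T' ⟶ U}
  {a b c : T ⟶ U}

theorem exists_of (hX : IsFibGrpd 𝒳.p) (ha : l ≫ a = a') (hb : l ≫ b = b') (σ : HomT x a b) :
    ∃ σ' : HomT x a' b', ResH l σ' σ := by
  haveI := σ.2
  obtain ⟨χ, ⟨hχ, hχe⟩, -⟩ := exists_fac hX (𝟙 T') (Category.id_comp l) (chMap x l hb) (isHomLift_chMap x l hb)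
    (chMap x l ha ≫ σ.1) inferInstance
  exact ⟨⟨χ, hχ⟩, ha, hb, hχe⟩

theorem unique (hX : IsFibGrpd 𝒳.p) {σ : HomT x a b} {p q : HomT x a' b'} (hp : ResH l p σ) (hq : ResH l q σ) :
    p = q := by
  obtain ⟨ha, hb, ep⟩ := hp
  obtain ⟨_, _, eq⟩ := hq
  obtain ⟨χ, -, huniq⟩ := exists_fac hX (𝟙 T') (Category.id_comp l) (chMap x l hb) (isHomLift_chMap x l hb)
    (chMap x l ha ≫ σ.1) (haveI := σ.2; inferInstance)
  exact Subtype.ext ((huniq _ p.2 ep).trans (huniq _ q.2 eq).symm)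

theorem comp {σ : HomT x a b} {τ : HomT x b c} {σ' : HomT x a' b'} {τ' : HomT x b' c'} (hσ : ResH l σ' σ)
    (hτ : ResH l τ' τ) : ResH l (σ'.comp τ') (σ.comp τ) := by
  obtain ⟨ha, hb, e₁⟩ := hσ
  obtain ⟨_, hc, e₂⟩ := hτ
  refine ⟨ha, hc, ?_⟩
  show (σ'.1 ≫ τ'.1) ≫ _ = _ ≫ σ.1 ≫ τ.1
  rw [Category.assoc, e₂, ← Category.assoc, e₁, Category.assoc]

theorem id (ha : l ≫ a = a') : ResH l (HomT.id x a') (HomT.id x a) :=
  ⟨ha, ha, (Category.id_comp _).trans (Category.comp_id _).symm⟩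

theorem trans {m : T'' ⟶ T'} {σ : HomT x a b} {σ' : HomT x a' b'} {σ'' : HomT x a'' b''} (h₁ : ResH m σ'' σ')
    (h₂ : ResH l σ' σ) {n : T'' ⟶ T} (hn : m ≫ l = n) : ResH n σ'' σ := by
  obtain ⟨a₁, b₁, e₁⟩ := h₁
  obtain ⟨a₂, b₂, e₂⟩ := h₂
  have hna : n ≫ a = a'' := by rw [← hn, Category.assoc, a₂, a₁]
  have hnb : n ≫ b = b'' := by rw [← hn, Category.assoc, b₂, b₁]
  refine ⟨hna, hnb, ?_⟩
  rw [← chMap_comp x m l b₁ b₂ n hn hnb, ← chMap_comp x m l a₁ a₂ n hn hna, ← Category.assoc, e₁, Category.assoc,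
    e₂, Category.assoc]

theorem refl (σ : HomT x a b) : ResH (𝟙 T) σ σ := by
  refine ⟨Category.id_comp a, Category.id_comp b, ?_⟩
  rw [show chMap x (𝟙 T) (Category.id_comp b) = 𝟙 _ from (congrArg x.map (Over.OverMorphism.ext rfl)).trans (x.map_id _),
    show chMap x (𝟙 T) (Category.id_comp a) = 𝟙 _ from (congrArg x.map (Over.OverMorphism.ext rfl)).trans (x.map_id _)]
  exact (Category.comp_id _).trans (Category.id_comp _).symm

/-- Cutting a restriction through an intermediate one. -/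
theorem of_trans (hX : IsFibGrpd 𝒳.p) {m : T'' ⟶ T'} {σ : HomT x a b} {σ' : HomT x a' b'} {σ'' : HomT x a'' b''}
    (h₂ : ResH l σ' σ) {n : T'' ⟶ T} (hn : m ≫ l = n) (h : ResH n σ'' σ) : ResH m σ'' σ' := by
  obtain ⟨a₂, b₂, -⟩ := _root_.id h₂
  obtain ⟨a₃, b₃, -⟩ := _root_.id h
  obtain ⟨τ, hτ⟩ := exists_of hX (l := m) (a' := a'') (b' := b'')
    (by rw [← a₂, ← Category.assoc, hn, a₃]) (by rw [← b₂, ← Category.assoc, hn, b₃]) σ'
  obtain rfl := unique hX (hτ.trans h₂ hn) h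
  exact hτ

end ResH

/-- Morphisms between pullbacks agreeing on a covering sieve are equal. -/
theorem homT_ext (h𝒳 : Stk.IsStack (AlgSp.J S) 𝒳) {x : overCat U ⥤ᵇ 𝒳} {T : Over S} {a b : T ⟶ U}
    {σ τ : HomT x a b} (R : Sieve T) (hR : R ∈ AlgSp.J S T)
    (h : ∀ ⦃V : Over S⦄ (g : V ⟶ T), R g → ∃ ρ : HomT x (g ≫ a) (g ≫ b), ResH g ρ σ ∧ ResH g ρ τ) : σ = τ := by
  haveI := σ.2
  haveI := τ.2
  refine Subtype.ext (Fib44.hom_ext_of_lifts h𝒳.1 ((Fib44.isStack_iff.1 h𝒳).2 R hR).1 (chObj x a).2 (𝟙 T) σ.1 τ.1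
    fun V g hg => ?_)
  obtain ⟨ρ, ⟨ha, hb, e₁⟩, ⟨_, _, e₂⟩⟩ := h g hg
  exact ⟨_, chMap x g ha, inferInstance, e₁.symm.trans e₂⟩

/-- Compatible morphisms between pullbacks on a covering sieve glue. -/
theorem exists_homT_glue (h𝒳 : Stk.IsStack (AlgSp.J S) 𝒳) (x : overCat U ⥤ᵇ 𝒳) {T : Over S} {a b : T ⟶ U}
    (R : Sieve T) (hR : R ∈ AlgSp.J S T)
    (θ : ∀ ⦃V : Over S⦄ (g : V ⟶ T), R g → HomT x (g ≫ a) (g ≫ b))
    (hθ : ∀ ⦃V' V : Over S⦄ (h : V' ⟶ V) (g : V ⟶ T) (hg : R g) (hg' : R (h ≫ g)),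
      ResH h (θ (h ≫ g) hg') (θ g hg)) :
    ∃ σ : HomT x a b, ∀ ⦃V : Over S⦄ (g : V ⟶ T) (hg : R g), ResH g (θ g hg) σ := by
  have hX := h𝒳.1
  have hex : ∀ ⦃z : 𝒳.obj⦄ (φ : z ⟶ (chObj x a).1), R (𝒳.p.map φ ≫ eqToHom (chObj x a).2) →
      ∃ χ : z ⟶ (chObj x ((𝒳.p.map φ ≫ eqToHom (chObj x a).2) ≫ a)).1,
        𝒳.p.IsHomLift (𝟙 (𝒳.p.obj z)) χ ∧ χ ≫ chMap x (𝒳.p.map φ ≫ eqToHom (chObj x a).2) rfl = φ := by
    intro z φ h
    obtain ⟨χ, hχ, -⟩ := exists_fac hX (𝟙 _) (Category.id_comp _)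
      (chMap x (𝒳.p.map φ ≫ eqToHom (chObj x a).2) rfl) (isHomLift_chMap x _ _) φ
      (IsHomLift.of_fac' 𝒳.p _ φ rfl (chObj x a).2 (by simp))
    exact ⟨χ, hχ⟩
  choose χ hχl hχe using hex
  let Θ : ∀ ⦃z : 𝒳.obj⦄ (φ : z ⟶ (chObj x a).1), R (𝒳.p.map φ ≫ eqToHom (chObj x a).2) → (z ⟶ (chObj x b).1) :=
    fun z φ h => χ φ h ≫ (θ _ h).1 ≫ chMap x (𝒳.p.map φ ≫ eqToHom (chObj x a).2) rfl
  have hΘl : ∀ ⦃z : 𝒳.obj⦄ (φ : z ⟶ (chObj x a).1) (h : R (𝒳.p.map φ ≫ eqToHom (chObj x a).2)),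
      𝒳.p.IsHomLift (𝒳.p.map φ ≫ eqToHom (chObj x a).2) (Θ φ h) := fun z φ h => by
    haveI := hχl φ h
    haveI := (θ _ h).2
    exact inferInstanceAs (𝒳.p.IsHomLift _ (χ φ h ≫ (θ _ h).1 ≫ chMap x _ rfl))
  -- the value of the glued morphism on a lift
  have hval : ∀ ⦃z : 𝒳.obj⦄ (φ : z ⟶ (chObj x a).1) (h : R (𝒳.p.map φ ≫ eqToHom (chObj x a).2)) ⦃V : Over S⦄
      (g : V ⟶ T) (hg : R g) (l : 𝒳.p.obj z ⟶ V) (ψ : z ⟶ (chObj x (g ≫ a)).1),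
      l ≫ g = 𝒳.p.map φ ≫ eqToHom (chObj x a).2 → 𝒳.p.IsHomLift l ψ → ψ ≫ chMap x g rfl = φ →
      Θ φ h = ψ ≫ (θ g hg).1 ≫ chMap x g rfl := by
    intro z φ h V g hg l ψ hl hψ hψe
    obtain ⟨ha, hb, e⟩ : ResH l (θ (l ≫ g) (hl ▸ h)) (θ g hg) := hθ l g hg (hl ▸ h)
    have key : ∀ (q : 𝒳.p.obj z ⟶ T) (hq : R q) (c : z ⟶ (chObj x (q ≫ a)).1), q = l ≫ g →
        𝒳.p.IsHomLift (𝟙 (𝒳.p.obj z)) c → c ≫ chMap x q rfl = φ →
        c ≫ (θ q hq).1 ≫ chMap x q rfl = ψ ≫ (θ g hg).1 ≫ chMap x g rfl := by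
      intro q hq c hq' hc hce
      subst hq'
      haveI := hc
      haveI := hψ
      obtain ⟨w, -, huniq⟩ := exists_fac hX l rfl (chMap x g (rfl : g ≫ a = g ≫ a)) inferInstance φ (by
        rw [hl]; exact IsHomLift.of_fac' 𝒳.p _ φ rfl (chObj x a).2 (by simp))
      have hcψ : c ≫ chMap x l ha = ψ := (huniq _ inferInstance (by
        rw [Category.assoc, chMap_comp x l g ha rfl (l ≫ g) rfl rfl, hce])).trans (huniq ψ hψ hψe).symm
      refine Eq.trans ?_ (congrArg (fun t => t ≫ (θ g hg).1 ≫ chMap x g rfl) hcψ)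
      refine Eq.trans ?_ (Category.assoc c (chMap x l ha) _).symm
      refine congrArg (c ≫ ·) ?_
      refine Eq.trans ?_ (Category.assoc (chMap x l ha) _ _)
      refine Eq.trans ?_ (congrArg (· ≫ chMap x g rfl) e)
      refine Eq.trans ?_ (Category.assoc _ _ _).symm
      exact congrArg ((θ (l ≫ g) hq).1 ≫ ·) (chMap_comp x l g hb rfl (l ≫ g) rfl rfl).symm
    exact key _ h (χ φ h) hl.symm (hχl φ h) (hχe φ h)
  obtain ⟨k, ⟨hk, hkθ⟩, -⟩ := ((Fib44.isStack_iff.1 h𝒳).2 R hR).1 (x := (chObj x a).1) (y := (chObj x b).1)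
    (chObj x a).2 (chObj x b).2 Θ hΘl (fun z' z u φ h h' => by
      haveI := hχl φ h
      haveI : 𝒳.p.IsHomLift (𝒳.p.map u) u := inferInstance
      show Θ (u ≫ φ) h' = u ≫ χ φ h ≫ (θ _ h).1 ≫ chMap x _ rfl
      rw [← Category.assoc u]
      exact hval (u ≫ φ) h' _ h (𝒳.p.map u) (u ≫ χ φ h) (by simp) inferInstance (by rw [Category.assoc, hχe]))
  refine ⟨⟨k, hk⟩, fun V g hg => ⟨rfl, rfl, ?_⟩⟩
  have hd : 𝒳.p.map (chMap x g (rfl : g ≫ a = g ≫ a)) ≫ eqToHom (chObj x a).2 = eqToHom (chObj x (g ≫ a)).2 ≫ g := by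
    rw [IsHomLift.fac' 𝒳.p g (chMap x g (rfl : g ≫ a = g ≫ a))]; simp
  have hR' : R (𝒳.p.map (chMap x g (rfl : g ≫ a = g ≫ a)) ≫ eqToHom (chObj x a).2) := by
    rw [hd]; exact R.downward_closed hg _
  show _ = chMap x g _ ≫ k
  rw [hkθ _ hR', hval _ hR' g hg (eqToHom (chObj x (g ≫ a)).2) (𝟙 _) hd.symm
    (IsHomLift.of_fac' 𝒳.p _ (𝟙 _) rfl (chObj x (g ≫ a)).2 (by simp)) (Category.id_comp _), Category.id_comp]

/-- Objects whose clean locus is schematically dense have no automorphisms. -/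
def Rig (x : overCat U ⥤ᵇ 𝒳) {T : Over S} (a : T ⟶ U) : Prop := ∀ σ : HomT x a a, σ = HomT.id x a

theorem Rig.eq (hX : IsFibGrpd 𝒳.p) {x : overCat U ⥤ᵇ 𝒳} {T : Over S} {a b : T ⟶ U} (h : Rig x a)
    (σ τ : HomT x a b) : σ = τ := by
  have e := congrArg Subtype.val (h (σ.comp (τ.inv hX)))
  haveI := τ.2
  haveI := fg_isIso_of_lift_id hX τ.1 T
  refine Subtype.ext ?_
  change σ.1 ≫ CategoryTheory.inv τ.1 = 𝟙 _ at e
  rwa [IsIso.comp_inv_eq, Category.id_comp] at e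

/-- For a bald stack, pullbacks along smooth morphisms to a smooth chart are rigid. -/
theorem rig_of_bald (hX : IsFibGrpd 𝒳.p)
    (hd : RepByAlgSpWith (AlgSp.IsSeparatedMor ⊓ AlgSp.IsQuasiCompactMor) (FibCat.diag (FibCat.toSelf 𝒳)))
    (hb : ∀ (U : Over S) (x : FibCat.overCat U ⥤ᵇ 𝒳), AlgSt.RepByAlgSpWith (AlgSp.LocP @Smooth) x →
      ∃ V : U.left.Opens,
        (∀ (T : Over S) (g : T ⟶ U), (∃ g' : T.left ⟶ ↑V, g' ≫ V.ι = g.left) ↔ IsoNat.IsClean (x.obj (Over.mk g))) ∧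
        CInt.IsSchematicallyDense V)
    {x : overCat U ⥤ᵇ 𝒳} (hx : Sm x) {T : Over S} (a : T ⟶ U) [Smooth a.left] : Rig x a := by
  obtain ⟨V, hV, hdense⟩ := hb T (BasedFunctor.comp (overMap a) x)
    (sm_comp (isFibGrpd_overCat T) (isFibGrpd_overCat U) (sm_overMap a inferInstance) hx)
  let T₀ : Over S := Over.mk (V.ι ≫ T.hom)
  let j : T₀ ⟶ T := Over.homMk V.ι rfl
  have hcl : IsClean (chObj x (j ≫ a)).1 := (hV T₀ j).1 ⟨𝟙 _, Category.id_comp _⟩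
  intro σ
  obtain ⟨σ₀, hσ₀⟩ := ResH.exists_of hX (rfl : j ≫ a = j ≫ a) rfl σ
  have h₀ : σ₀ = HomT.id x (j ≫ a) := by
    refine Subtype.ext (hcl _ (𝟙 _) σ₀.1 ?_)
    haveI := σ₀.2
    rw [IsHomLift.fac' 𝒳.p (𝟙 T₀) σ₀.1]
    simp
  rw [h₀] at hσ₀
  let r : AutT x (j ≫ a) := AutT.one
  obtain ⟨ha, _, e⟩ := hσ₀
  have hr : IsRestr j r σ := ⟨ha, e⟩
  have hr' : IsRestr j r (AutT.one : AutT x a) := IsRestr.one rfl
  obtain ⟨F, ε, he, hπ⟩ := repByAlgSpWith_inertiaToBase hX (toSelf 𝒳) (repByAlgSpWith_mono inf_le_left hd) U x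
  let π := spMapOfOver (BasedFunctor.comp ε (fpFst x (inertiaToBase (toSelf 𝒳))))
  let s₁ := autSec hX he σ
  let s₂ := autSec hX he (AutT.one : AutT x a)
  let g : (AlgSp.yon S).obj T ⟶ pullback π π :=
    pullback.lift s₁ s₂ ((autSec_proj hX he σ).trans (autSec_proj hX he (AutT.one : AutT x a)).symm)
  have hrep : AlgSp.RepWith @IsClosedImmersion (pullback.diagonal π) := hπ
  haveI hcli : IsClosedImmersion (hrep.rep.snd g).left := hrep.property_snd g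
  have hsq := hrep.rep.isPullback g
  have hc : (AlgSp.yon S).map j ≫ g = ((AlgSp.yon S).map j ≫ s₁) ≫ pullback.diagonal π := by
    apply pullback.hom_ext
    · simp [g]
    · simp only [g, Category.assoc, pullback.lift_snd, pullback.diagonal_snd, Category.comp_id, s₁, s₂]
      rw [autSec_restr hX he hr, autSec_restr hX he hr']
  obtain ⟨r', hr''⟩ := (AlgSp.yon S).map_surjective (hsq.lift ((AlgSp.yon S).map j ≫ s₁) ((AlgSp.yon S).map j) hc.symm)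
  have hfac : r' ≫ hrep.rep.snd g = j := (AlgSp.yon S).map_injective (by
    rw [Functor.map_comp, hr'', hsq.lift_snd])
  haveI : IsIso (hrep.rep.snd g).left :=
    SGA3a.isIso_of_schemDense _ V hdense r'.left (congrArg CommaMorphism.left hfac)
  haveI : IsIso (hrep.rep.snd g) :=
    have : IsIso ((Over.forget S).map (hrep.rep.snd g)) := inferInstanceAs (IsIso (hrep.rep.snd g).left)
    isIso_of_reflects_iso _ (Over.forget S)
  have hg : g = (CategoryTheory.inv ((AlgSp.yon S).map (hrep.rep.snd g)) ≫ hrep.rep.fst g) ≫ pullback.diagonal π := by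
    rw [Category.assoc, hsq.w, IsIso.inv_hom_id_assoc]
  have e₁ : g ≫ pullback.fst π π = s₁ := pullback.lift_fst _ _ _
  have e₂ : g ≫ pullback.snd π π = s₂ := pullback.lift_snd _ _ _
  have h₁ : s₁ = s₂ := by rw [← e₁, ← e₂, hg]; simp
  exact autSec_injective hX he h₁

end Groth.Agent.IsoNat97
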