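import Groth.Agent.IsoNat97.BaldCorr
import Groth.Agent.AlgSt88.SpHom
import Groth.Agent.SpFP87.EtLocInst
import Mathlib.AlgebraicGeometry.Morphisms.Etale

/-! The universal isomorphism between pullbacks of a smooth chart. -/

set_option autoImplicit false
set_option linter.unusedVariables false
set_option linter.style.haveILetI false
set_option backward.isDefEq.respectTransparency false
set_option backward.isDefEq.respectTransparency.types false
universe u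

open CategoryTheory CategoryTheory.Limits AlgebraicGeometry Opposite AlgSt FibCat

namespace Groth.Agent.IsoNat97

open AlgSt88 IsoNat

variable {S : Scheme.{u}} {𝒳 : AlgSt.Cat S} {U : Over S} {x : overCat U ⥤ᵇ 𝒳} {T : Over S} {a b : T ⟶ U}

/-- The point of the self product of a chart given by an isomorphism of pullbacks. -/
noncomputable def homPt (hX : IsFibGrpd 𝒳.p) (σ : HomT x a b) : (fp x x).obj :=
  haveI := σ.2
  haveI := fg_isIso_of_lift_id hX σ.1 T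
  ⟨{ fst := Over.mk a, snd := Over.mk b, iso := asIso σ.1 }, σ.2⟩

variable {F : AlgSp.Sp S} {e : ofSp F ⥤ᵇ fp x x}

theorem exists_homSec (hX : IsFibGrpd 𝒳.p) (he : IsEquivOver e) (σ : HomT x a b) :
    ∃ (s : (AlgSp.yon S).obj T ⟶ F) (k : e.obj (secObj s) ⟶ homPt hX σ),
      (fp x x).p.IsHomLift (𝟙 T) k ∧
        s ≫ spMapOfOver (BasedFunctor.comp e (fpFst x x)) = (AlgSp.yon S).map a := by
  obtain ⟨s, k, hk⟩ := exists_sec (P := fp x x) he (homPt hX σ) rfl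
  exact ⟨s, k, hk, (sec_proj e s _ rfl k hk).trans (congrArg _ (Category.id_comp a))⟩

theorem exists_homPt (hX : IsFibGrpd 𝒳.p) (s : (AlgSp.yon S).obj T ⟶ F)
    (ha : s ≫ spMapOfOver (BasedFunctor.comp e (fpFst x x)) = (AlgSp.yon S).map a) :
    ∃ (b : T ⟶ U) (σ : HomT x a b) (k : e.obj (secObj s) ⟶ homPt hX σ), (fp x x).p.IsHomLift (𝟙 T) k := by
  have key : ∀ (ob : (fp x x).obj) (ho : ob.obj.fst.left = T), eqToHom ho.symm ≫ ob.obj.fst.hom = a →
      ∃ (b : T ⟶ U) (σ : HomT x a b) (k : ob ⟶ homPt hX σ), (fp x x).p.IsHomLift (𝟙 T) k := by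
    rintro ⟨⟨A, B, i⟩, hi⟩ ho hh
    obtain ⟨T₀, ⟨⟨⟩⟩, a₀⟩ := A
    obtain ⟨T₁, ⟨⟨⟩⟩, b₀⟩ := B
    change T₀ = T at ho
    subst ho
    obtain rfl : a₀ = a := (Category.id_comp a₀).symm.trans hh
    obtain rfl : T₁ = T₀ := (fpSnd x x).w_obj ⟨⟨Over.mk a₀, Over.mk b₀, i⟩, hi⟩
    refine ⟨b₀, ⟨i.hom, hi⟩, (fpObjIso (F := x) (G := x) (x := ⟨⟨Over.mk a₀, Over.mk b₀, i⟩, hi⟩)
      (y := homPt hX ⟨i.hom, hi⟩) (Iso.refl (Over.mk a₀)) (Iso.refl (Over.mk b₀)) ?_).hom,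
      fp_isHomLift _ (IsHomLift.id rfl)⟩
    show x.map (𝟙 _) ≫ i.hom = i.hom ≫ x.map (𝟙 _)
    rw [AlgSt88.map_id' x, AlgSt88.map_id' x, Category.id_comp, Category.comp_id]
  refine key _ (e.w_obj (secObj s)) ?_
  exact (AlgSp.yon S).map_injective
    ((sec_proj e s _ (e.w_obj (secObj s)) (𝟙 _) (IsHomLift.id (e.w_obj (secObj s)))).symm.trans ha)

theorem homSec_eq_of_res (hX : IsFibGrpd 𝒳.p) (he : IsEquivOver e) {T' : Over S} {l : T' ⟶ T} {a' b' : T' ⟶ U}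
    {σ' : HomT x a' b'} {σ : HomT x a b} {s' : (AlgSp.yon S).obj T' ⟶ F} {k' : e.obj (secObj s') ⟶ homPt hX σ'}
    (hk' : (fp x x).p.IsHomLift (𝟙 T') k') {s : (AlgSp.yon S).obj T ⟶ F} {k : e.obj (secObj s) ⟶ homPt hX σ}
    (hk : (fp x x).p.IsHomLift (𝟙 T) k) (h : ResH l σ' σ) : (AlgSp.yon S).map l ≫ s = s' := by
  obtain ⟨ha, hb, e₁⟩ := h
  refine sec_eq he (isFibGrpd_fp (isFibGrpd_overCat U) (isFibGrpd_overCat U) hX x x) l k' hk' k hk
    (ObjectProperty.homMk { fst := Over.homMk l ha, snd := Over.homMk l hb, w := e₁.symm }) (fp_isHomLift _ ?_)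
  exact Fib44.isHomLift_map_left (BasedFunctor.id (overCat U)) (Over.homMk l ha : Over.mk a' ⟶ Over.mk a)

theorem res_of_homSec (hX : IsFibGrpd 𝒳.p) {T' : Over S} {l : T' ⟶ T} {a' b' : T' ⟶ U}
    {σ' : HomT x a' b'} {σ : HomT x a b} {s' : (AlgSp.yon S).obj T' ⟶ F} {k' : e.obj (secObj s') ⟶ homPt hX σ'}
    (hk' : (fp x x).p.IsHomLift (𝟙 T') k') {s : (AlgSp.yon S).obj T ⟶ F} {k : e.obj (secObj s) ⟶ homPt hX σ}
    (hk : (fp x x).p.IsHomLift (𝟙 T) k) (h : (AlgSp.yon S).map l ≫ s = s') : ResH l σ' σ := by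
  subst h
  have hP := isFibGrpd_fp (isFibGrpd_overCat U) (isFibGrpd_overCat U) hX x x
  obtain ⟨r, hr⟩ := exists_res (e := e) l s
  haveI := hk
  haveI := hk'
  haveI := hr
  haveI := fg_isIso_of_lift_id hP k' T'
  let M : homPt hX σ' ⟶ homPt hX σ := CategoryTheory.inv k' ≫ r ≫ k
  haveI hM : (fp x x).p.IsHomLift l M := inferInstanceAs ((fp x x).p.IsHomLift l (CategoryTheory.inv k' ≫ r ≫ k))
  haveI : (overCat U).p.IsHomLift l M.hom.fst := (Fib44.fp_isHomLift_iff l M).1 hM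
  haveI : (overCat U).p.IsHomLift l M.hom.snd := Fib44.fp_isHomLift_snd l M
  have h1 : M.hom.fst.left = l := (IsHomLift.fac' (overCat U).p l M.hom.fst).trans (by simp)
  have h2 : M.hom.snd.left = l := (IsHomLift.fac' (overCat U).p l M.hom.snd).trans (by simp)
  have ha : l ≫ a = a' := h1 ▸ Over.w M.hom.fst
  have hb : l ≫ b = b' := h2 ▸ Over.w M.hom.snd
  have hw : x.map M.hom.fst ≫ σ.1 = σ'.1 ≫ x.map M.hom.snd := M.hom.w
  refine ⟨ha, hb, ?_⟩
  rw [show chMap x l hb = x.map M.hom.snd from congrArg x.map (Over.OverMorphism.ext h2.symm),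
    show chMap x l ha = x.map M.hom.fst from congrArg x.map (Over.OverMorphism.ext h1.symm)]
  exact hw.symm

/-- A smooth chart has a universal isomorphism between its pullbacks. -/
theorem exists_univ (hX : IsFibGrpd 𝒳.p) (hx : Sm x) : Nonempty (Univ x) := by
  obtain ⟨F, e, he, hsm⟩ := hx U x
  obtain ⟨P, p, hp, hps⟩ := F.property.atlas
  obtain ⟨a₀, ha₀⟩ := (AlgSp.yon S).map_surjective (p ≫ spMapOfOver (BasedFunctor.comp e (fpFst x x)))
  haveI hs : Smooth a₀.left := hsm p (𝟙 _) a₀ hp (AlgSp.repWith_id _ _) (by rw [Category.comp_id]; exact ha₀.symm)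
  obtain ⟨b₀, β₀, kP, hkP⟩ := exists_homPt hX p ha₀.symm
  let Q : Over S := hp.rep.pullback p
  obtain ⟨q₁, hq₁⟩ := (AlgSp.yon S).map_surjective (hp.rep.fst p)
  let q₂ : Q ⟶ P := hp.rep.snd p
  have hsq := hp.rep.isPullback p
  haveI : Etale q₂.left := hp.property_snd p
  have hw : (AlgSp.yon S).map q₁ ≫ p = (AlgSp.yon S).map q₂ ≫ p := by rw [hq₁]; exact hsq.w
  have heqa : q₁ ≫ a₀ = q₂ ≫ a₀ := (AlgSp.yon S).map_injective (by
    rw [Functor.map_comp, Functor.map_comp, ha₀, ← Category.assoc, hw, Category.assoc])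
  obtain ⟨σQ, hσQ⟩ := ResH.exists_of hX (l := q₁) rfl rfl β₀
  obtain ⟨sQ, kQ, hkQ, -⟩ := exists_homSec hX he σQ
  have hres : ResH q₂ σQ β₀ := res_of_homSec hX hkQ hkP (hw.symm.trans (homSec_eq_of_res hX he hkQ hkP hσQ))
  obtain ⟨-, hbQ, -⟩ := id hres
  refine ⟨{ P := P, a₀ := a₀, b₀ := b₀, β₀ := β₀, smooth := hs, Q := Q, q₁ := q₁, q₂ := q₂, eqa := heqa,
            eqb := hbQ.symm, smoothQ := ?_, lift := ?_, overlap := ?_ }⟩
  · intro W a b σ
    obtain ⟨s, k, hk, hsa⟩ := exists_homSec hX he σ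
    let W' : Over S := hp.rep.pullback s
    let w : W' ⟶ W := hp.rep.snd s
    obtain ⟨t, ht⟩ := (AlgSp.yon S).map_surjective (hp.rep.fst s)
    have hsq' := hp.rep.isPullback s
    haveI : Etale w.left := hp.property_snd s
    haveI : Surjective w.left := hps.property _ _ _ hsq'
    refine ⟨Sieve.generate (Presieve.singleton w), SpFP87.generate_singleton_mem w
      ((SpFP87.fppfSurj_iff _).2 ⟨inferInstance, inferInstance, inferInstance⟩), ?_⟩
    rintro V g ⟨Y, h, f, ⟨⟩, rfl⟩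
    obtain ⟨σ', hσ'⟩ := ResH.exists_of hX (l := h ≫ w) rfl rfl σ
    obtain ⟨s', k', hk', -⟩ := exists_homSec hX he σ'
    refine ⟨h ≫ t, σ', hσ', res_of_homSec hX hk' hkP ?_⟩
    rw [← homSec_eq_of_res hX he hk' hk hσ', Functor.map_comp, Functor.map_comp, Category.assoc, Category.assoc, ht]
    exact congrArg (_ ≫ ·) hsq'.w
  · rw [heqa]
    exact inferInstanceAs (Smooth (q₂.left ≫ a₀.left))
  · intro V r₁ r₂ a' b' σ' h₁ h₂
    obtain ⟨s', k', hk', -⟩ := exists_homSec hX he σ'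
    have e₁ := homSec_eq_of_res hX he hk' hkP h₁
    have e₂ := homSec_eq_of_res hX he hk' hkP h₂
    obtain ⟨k, hk⟩ := (AlgSp.yon S).map_surjective
      (hsq.lift ((AlgSp.yon S).map r₁) ((AlgSp.yon S).map r₂) (e₁.trans e₂.symm))
    refine ⟨k, (AlgSp.yon S).map_injective ?_, (AlgSp.yon S).map_injective ?_⟩
    · rw [Functor.map_comp, hk, hq₁, hsq.lift_fst]
    · rw [Functor.map_comp, hk]; exact hsq.lift_snd _ _ _

end Groth.Agent.IsoNat97
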