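import Groth.Prelude.Def_W4c2isonaturalstkIso
import Groth.Agent.AlgSt88.QCMorSt
import Groth.Agent.Fib44.Yoneda

/-! The presheaf of isomorphism classes and the space of points. -/

set_option autoImplicit false
set_option linter.unusedVariables false
set_option backward.isDefEq.respectTransparency false
set_option backward.isDefEq.respectTransparency.types false
universe u

open CategoryTheory CategoryTheory.Limits AlgebraicGeometry Opposite AlgSt FibCat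

namespace Groth.Agent.IsoNat97

open IsoNat AlgSt88

variable {S : Scheme.{u}} {𝒳 𝒴 𝒳' 𝒴' : AlgSt.Cat S}

theorem cls_eq_iff {T : Over S} {x y : 𝒳.p.Fiber T} : cls x = cls y ↔ Nonempty (x ≅ y) := Quotient.eq

noncomputable def rep {T : Over S} (c : IsoCl 𝒳 T) : 𝒳.p.Fiber T := Quotient.out c

theorem cls_rep {T : Over S} (c : IsoCl 𝒳 T) : cls (rep c) = c := Quotient.out_eq c

theorem cls_surjective (𝒳 : AlgSt.Cat S) (T : Over S) : Function.Surjective (cls : 𝒳.p.Fiber T → IsoCl 𝒳 T) :=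
  fun c => ⟨rep c, cls_rep c⟩

/-- Morphisms over a morphism of the base only depend on the classes of their ends. -/
theorem exists_hom_congr {T' T : Over S} {g : T' ⟶ T} {x' z' : 𝒳.p.Fiber T'} {x z : 𝒳.p.Fiber T}
    (a : x'.1 ⟶ x.1) (ha : 𝒳.p.IsHomLift g a) (h' : cls z' = cls x') (h : cls x = cls z) :
    ∃ b : z'.1 ⟶ z.1, 𝒳.p.IsHomLift g b := by
  obtain ⟨e'⟩ := cls_eq_iff.1 h'
  obtain ⟨e⟩ := cls_eq_iff.1 h
  haveI := ha
  haveI := e'.hom.2
  haveI := e.hom.2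
  haveI : 𝒳.p.IsHomLift g (e'.hom.1 ≫ a) := inferInstance
  exact ⟨(e'.hom.1 ≫ a) ≫ e.hom.1, inferInstance⟩

/-- In a category fibred in groupoids two pullbacks along the same morphism are isomorphic. -/
theorem cls_eq_of_hom (hX : IsFibGrpd 𝒳.p) {T' T : Over S} {g : T' ⟶ T} {x₁ x₂ : 𝒳.p.Fiber T'} {x : 𝒳.p.Fiber T}
    (a₁ : x₁.1 ⟶ x.1) (h₁ : 𝒳.p.IsHomLift g a₁) (a₂ : x₂.1 ⟶ x.1) (h₂ : 𝒳.p.IsHomLift g a₂) :
    cls x₁ = cls x₂ := by
  haveI := h₁
  haveI := h₂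
  obtain ⟨k, hk, -⟩ := fg_exists_fac hX a₂ a₁ (eqToHom (x₁.2.trans x₂.2.symm)) (by
    rw [IsHomLift.fac' 𝒳.p g a₁, IsHomLift.fac' 𝒳.p g a₂]
    simp)
  haveI hl : 𝒳.p.IsHomLift (𝟙 T') k := IsHomLift.of_fac' 𝒳.p _ _ x₁.2 x₂.2 (by rw [hk]; simp)
  haveI := fg_isIso_of_lift_id hX k T'
  exact cls_eq_iff.2 ⟨Fib44.fiberIso (asIso k) hl x₁.2 x₂.2⟩

theorem exists_lift_fiber (hX : IsFibGrpd 𝒳.p) {T' T : Over S} (g : T' ⟶ T) (x : 𝒳.p.Fiber T) :
    ∃ (x' : 𝒳.p.Fiber T') (a : x'.1 ⟶ x.1), 𝒳.p.IsHomLift g a := by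
  obtain ⟨y, hy, φ, hφ⟩ := fg_exists_lift hX (g ≫ eqToHom x.2.symm)
  exact ⟨⟨y, hy⟩, φ, IsHomLift.of_fac' 𝒳.p g φ hy x.2 hφ⟩

theorem natural' (φ : FIso 𝒳 𝒴) {T' T : Over S} (g : T' ⟶ T) {x' : 𝒳.p.Fiber T'} {x : 𝒳.p.Fiber T} (a : x'.1 ⟶ x.1)
    (ha : 𝒳.p.IsHomLift g a) {y' : 𝒴.p.Fiber T'} {y : 𝒴.p.Fiber T} (h' : φ.toEquiv T' (cls x') = cls y')
    (h : φ.toEquiv T (cls x) = cls y) : ∃ b : y'.1 ⟶ y.1, 𝒴.p.IsHomLift g b := by
  obtain ⟨z', z, b, hb, e', e⟩ := φ.natural g x' x a ha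
  exact exists_hom_congr b hb (h'.symm.trans e') (e.symm.trans h)

/-- The inverse of an isomorphism of presheaves of isomorphism classes. -/
noncomputable def symm (hX : IsFibGrpd 𝒳.p) (hY : IsFibGrpd 𝒴.p) (φ : FIso 𝒳 𝒴) : FIso 𝒴 𝒳 where
  toEquiv T := (φ.toEquiv T).symm
  natural {T' T} g y' y b hb := by
    let x := rep ((φ.toEquiv T).symm (cls y))
    obtain ⟨x', a, ha⟩ := exists_lift_fiber hX g x
    have hx : φ.toEquiv T (cls x) = cls y := by rw [cls_rep, Equiv.apply_symm_apply]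
    obtain ⟨b', hb'⟩ := natural' φ g a ha (cls_rep _).symm hx
    have he := cls_eq_of_hom hY b' hb' b hb
    rw [cls_rep] at he
    exact ⟨x', x, a, ha, (Equiv.symm_apply_eq _).2 he.symm, (cls_rep _).symm⟩

/-- The object of a chart at an object of the slice. -/
abbrev objAt {U : Over S} (x : overCat U ⥤ᵇ 𝒳) {T : Over S} (a : Over U) (h : a.left = T) : 𝒳.p.Fiber T :=
  ⟨x.obj a, (x.w_obj a).trans h⟩

/-- Corresponding charts correspond at every object of the slice. -/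
theorem corr_objAt (hY : IsFibGrpd 𝒴.p) (φ : FIso 𝒳 𝒴) {U : Over S} {x : overCat U ⥤ᵇ 𝒳} {y : overCat U ⥤ᵇ 𝒴}
    (hxy : φ.toEquiv U (objCls x) = objCls y) {T : Over S} (a : Over U) (h : a.left = T) :
    φ.toEquiv T (cls (objAt x a h)) = cls (objAt y a h) := by
  subst h
  obtain ⟨b, hb⟩ := natural' φ a.hom (x' := objAt x a rfl) (x := objAt x (Fib44.idObj U) rfl)
    (x.map (Fib44.toId a)) (Fib44.isHomLift_toId x a) (cls_rep (φ.toEquiv a.left (cls (objAt x a rfl)))).symm hxy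
  exact (cls_rep _).symm.trans (cls_eq_of_hom hY b hb (x₂ := objAt y a rfl) (x := objAt y (Fib44.idObj U) rfl)
    (y.map (Fib44.toId a)) (Fib44.isHomLift_toId y a))

/-- Every chart has a corresponding one. -/
theorem exists_corr (hY : IsFibGrpd 𝒴.p) (φ : FIso 𝒳 𝒴) {U : Over S} (x : overCat U ⥤ᵇ 𝒳) :
    ∃ y : overCat U ⥤ᵇ 𝒴, φ.toEquiv U (objCls x) = objCls y := by
  let z := rep (φ.toEquiv U (objCls x))
  obtain ⟨e, he⟩ := classify_mk_id hY z.1 z.2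
  exact ⟨classify hY z.1 z.2, (cls_rep _).symm.trans (cls_eq_iff.2 ⟨(Fib44.fiberIso e he _ z.2).symm⟩)⟩

section Points

variable (φ : FIso 𝒳 𝒴)

/-- The object of a field-valued point in its fibre category. -/
abbrev fib (p : FPt 𝒳) : 𝒳.p.Fiber (Over.mk p.str) := ⟨p.obj, p.lies⟩

/-- The image of a field-valued point. -/
noncomputable def fptMap (p : FPt 𝒳) : FPt 𝒴 :=
  { K := p.K
    str := p.str
    obj := (rep (φ.toEquiv _ (cls (fib p)))).1
    lies := (rep (φ.toEquiv _ (cls (fib p)))).2 }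

theorem fptMap_hom {p q : FPt 𝒳} (a : p.obj ⟶ q.obj) : Nonempty ((fptMap φ p).obj ⟶ (fptMap φ q).obj) := by
  have ha : 𝒳.p.IsHomLift (fptBase a) a := IsHomLift.of_fac' 𝒳.p _ _ p.lies q.lies (map_fptBase a)
  obtain ⟨b, -⟩ := natural' φ (fptBase a) (x' := fib p) (x := fib q) a ha
    (cls_rep (φ.toEquiv _ (cls (fib p)))).symm (cls_rep (φ.toEquiv _ (cls (fib q)))).symm
  exact ⟨b⟩

/-- The map on points induced by an isomorphism of presheaves of isomorphism classes. -/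
noncomputable def ptMap : Points 𝒳 → Points 𝒴 :=
  Quot.lift (fun p => Points.mk (fptMap φ p)) (fun p q ⟨r, a, b, _⟩ =>
    Points.sound ⟨fptMap φ r, (fptMap_hom φ a).some, (fptMap_hom φ b).some, trivial⟩)

theorem ptMap_mk_eq (p : FPt 𝒳) (y : 𝒴.p.Fiber (Over.mk p.str)) (h : φ.toEquiv _ (cls (fib p)) = cls y) :
    ptMap φ (Points.mk p) = Points.mk { K := p.K, str := p.str, obj := y.1, lies := y.2 } := by
  obtain ⟨e⟩ := cls_eq_iff.1 ((cls_rep _).trans h)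
  exact Points.sound ⟨fptMap φ p, 𝟙 _, e.hom.1, trivial⟩

theorem ptMap_ptMap (hX : IsFibGrpd 𝒳.p) (hY : IsFibGrpd 𝒴.p) (z : Points 𝒳) :
    ptMap (symm hX hY φ) (ptMap φ z) = z := by
  obtain ⟨p, rfl⟩ := Points.mk_surjective z
  refine (ptMap_mk_eq (symm hX hY φ) (fptMap φ p) (fib p) ?_).trans rfl
  exact (congrArg (φ.toEquiv _).symm (cls_rep _)).trans (Equiv.symm_apply_apply _ _)

theorem ptMap_ptMap' (hX : IsFibGrpd 𝒳.p) (hY : IsFibGrpd 𝒴.p) (z : Points 𝒴) :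
    ptMap φ (ptMap (symm hX hY φ) z) = z := by
  obtain ⟨p, rfl⟩ := Points.mk_surjective z
  refine (ptMap_mk_eq φ (fptMap (symm hX hY φ) p) (fib p) ?_).trans rfl
  exact (congrArg (φ.toEquiv _) (cls_rep _)).trans (Equiv.apply_symm_apply _ _)

theorem ptMap_map (hY : IsFibGrpd 𝒴.p) {U : Over S} {x : overCat U ⥤ᵇ 𝒳} {y : overCat U ⥤ᵇ 𝒴}
    (hxy : φ.toEquiv U (objCls x) = objCls y) (z : Points (overCat U)) :
    ptMap φ (Points.map x z) = Points.map y z := by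
  obtain ⟨p, rfl⟩ := Points.mk_surjective z
  exact ptMap_mk_eq φ (p.map x) (objAt y p.obj p.lies) (corr_objAt hY φ hxy p.obj p.lies)

theorem ptMap_ofChart (hY : IsFibGrpd 𝒴.p) {U : Over S} {x : overCat U ⥤ᵇ 𝒳} {y : overCat U ⥤ᵇ 𝒴}
    (hxy : φ.toEquiv U (objCls x) = objCls y) (t : ↥U.left) :
    ptMap φ (Points.ofChart x t) = Points.ofChart y t := by
  unfold Points.ofChart
  let a : Over U := Over.mk (Over.homMk (U.left.fromSpecResidueField t) rfl :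
    Over.mk (U.left.fromSpecResidueField t ≫ U.hom) ⟶ U)
  exact ptMap_mk_eq φ _ (objAt y a rfl) (corr_objAt hY φ hxy a rfl)

theorem continuous_ptMap (hY : IsAlgStack Scheme.fppfPrecoverage 𝒴) : Continuous (ptMap φ) := by
  refine ⟨fun W hW => Points.isOpen_iff.2 fun U x hx => ?_⟩
  obtain ⟨y, hy⟩ := exists_corr hY.isStack.1 φ x
  have h : Points.ofChart x ⁻¹' (ptMap φ ⁻¹' W) = Points.ofChart y ⁻¹' W := by
    ext t
    simp only [Set.mem_preimage, ptMap_ofChart φ hY.isStack.1 hy t]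
  rw [h]
  exact hW.preimage (continuous_ofChart hY y)

/-- The presheaf of isomorphism classes determines the space of points. -/
noncomputable def ptHomeo (hX : IsAlgStack Scheme.fppfPrecoverage 𝒳) (hY : IsAlgStack Scheme.fppfPrecoverage 𝒴) :
    Points 𝒳 ≃ₜ Points 𝒴 where
  toFun := ptMap φ
  invFun := ptMap (symm hX.isStack.1 hY.isStack.1 φ)
  left_inv := ptMap_ptMap φ hX.isStack.1 hY.isStack.1
  right_inv := ptMap_ptMap' φ hX.isStack.1 hY.isStack.1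
  continuous_toFun := continuous_ptMap φ hY
  continuous_invFun := continuous_ptMap _ hX

end Points

/-- The square on points. -/
theorem ptMap_square {f : 𝒳 ⥤ᵇ 𝒴} {f' : 𝒳' ⥤ᵇ 𝒴'} (φ : FIsoSq f f') (z : Points 𝒳) :
    ptMap φ.tgt (Points.map f z) = Points.map f' (ptMap φ.src z) := by
  obtain ⟨p, rfl⟩ := Points.mk_surjective z
  refine (ptMap_mk_eq φ.tgt (p.map f) (fib ((fptMap φ.src p).map f')) ?_).trans rfl
  exact (φ.comm _ (cls (fib p))).trans (congrArg (mapCls f' _) (cls_rep _).symm)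

theorem isSurjective_of_sq {f : 𝒳 ⥤ᵇ 𝒴} {f' : 𝒳' ⥤ᵇ 𝒴'} (hY : IsFibGrpd 𝒴.p) (hY' : IsFibGrpd 𝒴'.p)
    (φ : FIsoSq f f') (hf : AlgSt.IsSurjective f) : AlgSt.IsSurjective f' := fun w => by
  obtain ⟨z, hz⟩ := hf (ptMap (symm hY hY' φ.tgt) w)
  refine ⟨ptMap φ.src z, ?_⟩
  rw [← ptMap_square, hz, ptMap_ptMap' φ.tgt hY hY']

end Groth.Agent.IsoNat97
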