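import Groth.Agent.AlgSt88.Substack

/-! Properties of the inclusion of an open substack read on charts. -/

set_option autoImplicit false
set_option maxHeartbeats 1000000
set_option linter.style.haveILetI false
set_option backward.isDefEq.respectTransparency false
set_option backward.isDefEq.respectTransparency.types false
universe u

open CategoryTheory CategoryTheory.Limits AlgebraicGeometry Opposite AlgSt FibCat

namespace Groth.Agent.IsoNat97

open AlgSt88

variable {S : Scheme.{u}} {𝒳 : AlgSt.Cat S}

theorem rep_inPts_with (h𝒳 : IsAlgStack Scheme.fppfPrecoverage 𝒳) {W : Set (Points 𝒳)} (hW : IsOpen W)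
    {P : MorphismProperty Scheme.{u}} [P.IsStableUnderBaseChange]
    (hP : ∀ (U : Over S) (x : overCat U ⥤ᵇ 𝒳) (V : U.left.Opens), (V : Set U.left) = Points.ofChart x ⁻¹' W → P V.ι) :
    RepByAlgSpWith (AlgSp.RepWith P) (subIncl 𝒳 (InPts W)) := by
  intro U x
  have hX := h𝒳.isStack.1
  let V : U.left.Opens := ⟨Points.ofChart x ⁻¹' W, hW.preimage (continuous_ofChart h𝒳 x)⟩
  let V' : Over S := Over.mk (V.ι ≫ U.hom)
  let j : V' ⟶ U := Over.homMk V.ι rfl
  haveI : Mono j := (Over.forget S).mono_of_mono_map (inferInstanceAs (Mono V.ι))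
  have hb : ∀ b : Over V', InPts W (x.obj ((overMap j).obj b)) := fun b p g => by
    rw [mk_eq_ofChart hX x ((overMap j).obj b) p g]
    exact ((eqToHom p.lies.symm ≫ 𝒳.p.map g ≫ eqToHom (x.w_obj ((overMap j).obj b))) ≫ b.hom).left
      (IsLocalRing.closedPoint p.K) |>.property
  let Ψ : overCat V' ⥤ᵇ fullSub 𝒳 (InPts W) :=
    { toFunctor :=
        { obj := fun b => ⟨x.obj ((overMap j).obj b), hb b⟩
          map := fun k => ObjectProperty.homMk (x.map ((overMap j).map k))
          map_id := fun b => ObjectProperty.hom_ext _ ((congrArg x.map ((overMap j).map_id b)).trans (x.map_id _))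
          map_comp := fun k k' => ObjectProperty.hom_ext _
            ((congrArg x.map ((overMap j).map_comp k k')).trans (x.map_comp _ _)) }
      w := (BasedFunctor.comp (overMap j) x).w }
  let Φ : overCat V' ⥤ᵇ fp x (subIncl 𝒳 (InPts W)) := fpLift (overMap j) Ψ (Iso.refl _)
  have hΦ : IsEquivOver Φ := by
    refine IsEquivData.isEquivOver ⟨?_, ?_, ?_⟩
    · intro b b' k k' h
      have h' : (overMap j).map k = (overMap j).map k' := congrArg (fun t => t.hom.fst) h
      exact Over.OverMorphism.ext (show k.left = k'.left from congrArg (fun t => t.left) h')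
    · intro b b' k
      have hk : k.hom.fst.left ≫ b'.hom = b.hom := by
        rw [← cancel_mono j, Category.assoc]
        exact Over.w k.hom.fst
      refine ⟨Over.homMk k.hom.fst.left hk, fpHom_ext (Over.OverMorphism.ext rfl) (ObjectProperty.hom_ext _ ?_)⟩
      have hw : x.map k.hom.fst ≫ 𝟙 _ = 𝟙 _ ≫ k.hom.snd.hom := k.hom.w
      rw [Category.comp_id, Category.id_comp] at hw
      refine Eq.trans ?_ hw
      exact congrArg x.map (Over.OverMorphism.ext rfl)
    · intro z
      let a : Over U := z.obj.fst
      have ha : InPts W (x.obj a) := inPts_of_hom z.obj.iso.hom z.obj.snd.property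
      have hr : Set.range a.hom.left ⊆ Set.range V.ι := by
        rintro _ ⟨t, rfl⟩
        rw [Scheme.Opens.range_ι]
        let m : Over.mk (a.left.left.fromSpecResidueField t ≫ a.left.hom) ⟶ a.left :=
          Over.homMk (a.left.left.fromSpecResidueField t) rfl
        let b : Over U := Over.mk (m ≫ a.hom)
        let p : FPt 𝒳 := { K := ↥(a.left.left.residueField t)
                           str := a.left.left.fromSpecResidueField t ≫ a.left.hom
                           obj := x.obj b
                           lies := x.w_obj b }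
        let g : p.obj ⟶ x.obj a := x.map (Over.homMk m rfl : b ⟶ a)
        have h1 := ha p g
        rw [mk_eq_ofChart hX x a p g] at h1
        have e : eqToHom p.lies.symm ≫ 𝒳.p.map g ≫ eqToHom (x.w_obj a) = m := by
          simp only [g, p_map_eq]
          change eqToHom _ ≫ (eqToHom _ ≫ m ≫ eqToHom _) ≫ eqToHom _ = m
          simp
        rw [e] at h1
        have e2 : (m ≫ a.hom).left (IsLocalRing.closedPoint p.K) = a.hom.left t :=
          congrArg a.hom.left (Scheme.fromSpecResidueField_apply _ _)
        rw [e2] at h1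
        exact h1
      let l : a.left.left ⟶ V.toScheme := IsOpenImmersion.lift V.ι a.hom.left hr
      have hl : l ≫ V.ι = a.hom.left := IsOpenImmersion.lift_fac _ _ hr
      let l' : a.left ⟶ V' := Over.homMk l (by
        change l ≫ V.ι ≫ U.hom = a.left.hom
        rw [← Category.assoc, hl]
        exact Over.w a.hom)
      let e₁ : (overMap j).obj (Over.mk l') ≅ a := Over.isoMk (Iso.refl _) ((Category.id_comp _).trans
        (Over.OverMorphism.ext hl).symm)
      let e₂ : (Ψ.obj (Over.mk l')) ≅ z.obj.snd :=
        (ObjectProperty.fullyFaithfulι _).preimageIso (x.toFunctor.mapIso e₁ ≪≫ z.obj.iso)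
      have he₂ : e₂.hom.hom = x.map e₁.hom ≫ z.obj.iso.hom :=
        (ObjectProperty.fullyFaithfulι (InPts W)).map_preimage (X := Ψ.obj (Over.mk l')) (Y := z.obj.snd)
          (x.map e₁.hom ≫ z.obj.iso.hom)
      refine ⟨Over.mk l', fpObjIso e₁ e₂ ?_, fp_isHomLift _ ?_⟩
      · change x.map e₁.hom ≫ z.obj.iso.hom = 𝟙 _ ≫ e₂.hom.hom
        rw [he₂]
        exact (Category.id_comp _).symm
      · exact IsHomLift.of_fac' (overCat U).p _ _ rfl rfl
          (show 𝟙 a.left = 𝟙 _ ≫ 𝟙 _ ≫ 𝟙 _ by simp)
  refine ⟨⟨_, AlgSp.IsAlgSpace.yon_obj V'⟩, BasedFunctor.comp (toOverCat V') Φ,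
    isEquivOver_comp (isEquivOver_toOverCat V') hΦ, ?_⟩
  obtain ⟨ι⟩ := toOver_overMap j
  have h : spMapOfOver (BasedFunctor.comp (BasedFunctor.comp (toOverCat V') Φ) (fpFst x (subIncl 𝒳 (InPts W)))) =
      spMapOfOver (BasedFunctor.comp (ofSpMap ((AlgSp.yon S).map j)) (toOverCat U)) := spMapOfOver_congr ι
  rw [h, spMapOfOver_comp, spMapOfOver_toOverCat, homOfBased_ofSpMap, Category.comp_id]
  exact (AlgSp.repWith_yon_map_iff _ _).2 (hP U x V rfl)

end Groth.Agent.IsoNat97
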