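import Groth.Agent.IsoNat97.CleanSpace
import Groth.Agent.IsoNat97.InPtsRep
import Groth.Agent.IsoNat97.AutSep
import Groth.Agent.AlgSt88.LocPSt
import Groth.Agent.AlgSt88.SepQs
import Groth.Agent.AlgSt88.PointsRel
import Groth.Agent.AlgSt88.QC
import Groth.Agent.Fib44.Glue

/-! The clean locus of a stack with proper inertia. -/

set_option autoImplicit false
set_option linter.unusedVariables false
set_option linter.style.haveILetI false
set_option backward.isDefEq.respectTransparency false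
set_option backward.isDefEq.respectTransparency.types false
universe u

open CategoryTheory CategoryTheory.Limits AlgebraicGeometry Opposite AlgSt FibCat

namespace Groth.Agent.IsoNat97

open AlgSt88 IsoNat

variable {S : Scheme.{u}} {𝒳 : AlgSt.Cat S}

theorem isClean_of_hom {x y : 𝒳.obj} (g : y ⟶ x) (h : IsClean x) : IsClean y :=
  fun z k s hs => h z (k ≫ g) s hs

/-- The clean points. -/
def cleanPts (𝒳 : AlgSt.Cat S) : Set (Points 𝒳) := {z | ∃ p : FPt 𝒳, Points.mk p = z ∧ IsClean p.obj}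

/-- An object is clean as soon as the automorphisms of its pullbacks are trivial. -/
theorem isClean_chObj (hX : IsFibGrpd 𝒳.p) {U : Over S} (x : overCat U ⥤ᵇ 𝒳) {V : Over S} (a : V ⟶ U)
    (h : ∀ {T : Over S} (g : T ⟶ V) (σ : AutT x (g ≫ a)), σ = AutT.one) : IsClean (chObj x a).1 := by
  intro y m s hs
  let T := 𝒳.p.obj y
  let g : T ⟶ V := 𝒳.p.map m ≫ eqToHom (chObj x a).2
  haveI hm : 𝒳.p.IsHomLift g m := IsHomLift.of_fac 𝒳.p g m rfl (chObj x a).2 (by simp [g])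
  haveI hsl : 𝒳.p.IsHomLift (𝟙 T) s := IsHomLift.of_fac' 𝒳.p (𝟙 T) s rfl rfl (by simpa using hs)
  obtain ⟨i, ⟨hi, hie⟩, -⟩ := exists_fac hX (𝟙 T) (Category.id_comp g) m hm (chMap x g (rfl : g ≫ a = _)) inferInstance
  haveI := hi
  haveI := fg_isIso_of_lift_id hX i T
  have h1 := h g ⟨i ≫ s ≫ inv i, inferInstance⟩
  have h2 : i ≫ s ≫ inv i = 𝟙 _ := congrArg Subtype.val h1
  exact (cancel_epi i).1 ((cancel_mono (inv i)).1 (((Category.assoc _ _ _).trans h2).trans (by simp)))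

/-- The clean points of an affine chart form a quasi-compact open. -/
theorem exists_cleanOpen (hX : IsFibGrpd 𝒳.p)
    (h𝒳i : RepByAlgSpWith (AlgSp.LocP @LocallyOfFinitePresentation) (inertiaToBase (toSelf 𝒳)))
    (hpr : RepByAlgSpWith AlgSp.IsProperMor (inertiaToBase (toSelf 𝒳)))
    (U : Over S) [IsAffine U.left] (x : overCat U ⥤ᵇ 𝒳) :
    ∃ O : U.left.Opens, IsCompact (O : Set U.left) ∧
      (∀ {V : Over S} (a : V ⟶ U), Set.range a.left ⊆ (O : Set U.left) → IsClean (chObj x a).1) ∧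
      ∀ t : U.left, Points.ofChart x t ∈ cleanPts 𝒳 ↔ t ∈ O := by
  haveI : (AlgSp.LocP (S := S) @LocallyOfFinitePresentation).RespectsIso := respectsIso_locP _
  obtain ⟨F, e, he, hlfp, hπ⟩ := repByAlgSpWith_inf h𝒳i hpr U x
  let ε := autSec hX he (AutT.one : AutT x (𝟙 U))
  have hε : ε ≫ spMapOfOver (BasedFunctor.comp e (fpFst x (inertiaToBase (toSelf 𝒳)))) = 𝟙 _ :=
    (autSec_proj hX he _).trans ((AlgSp.yon S).map_id U)
  obtain ⟨O, hOc, htriv, hpt⟩ := exists_trivialLocus F.property _ hπ.1 hπ.2.1.2 hπ.2.2 hlfp ε hε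
  have hone : ∀ {T : Over S} (a : T ⟶ U),
      (AlgSp.yon S).map a ≫ ε = autSec hX he (AutT.one : AutT x a) := fun {T} a =>
    autSec_restr hX he (IsRestr.one (Category.comp_id a))
  have hclean : ∀ {V : Over S} (a : V ⟶ U), Set.range a.left ⊆ (O : Set U.left) → IsClean (chObj x a).1 := by
    intro V a ha
    refine isClean_chObj hX x a fun {T} g σ => ?_
    refine autSec_injective hX he ?_
    rw [← hone]
    exact htriv T (g ≫ a) _ (by rintro _ ⟨y, rfl⟩; exact ha ⟨g.left y, rfl⟩) (autSec_proj hX he σ)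
  refine ⟨O, hOc, hclean, fun t => ⟨?_, fun ht => ?_⟩⟩
  · rintro ⟨p, hp, hc⟩
    obtain ⟨r, α, β, -⟩ := rel_of_mk_eq hX hp
    have hr := isClean_of_hom α hc
    let m : Over.mk (U.left.fromSpecResidueField t ≫ U.hom) ⟶ U := Over.homMk (U.left.fromSpecResidueField t) rfl
    let l : Over.mk r.str ⟶ Over.mk (U.left.fromSpecResidueField t ≫ U.hom) :=
      eqToHom r.lies.symm ≫ 𝒳.p.map β ≫ eqToHom (x.w_obj (Over.mk m))
    haveI hβ : 𝒳.p.IsHomLift l β := IsHomLift.of_fac 𝒳.p l β r.lies (x.w_obj (Over.mk m)) rfl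
    obtain ⟨i, ⟨hi, -⟩, -⟩ := exists_fac hX (𝟙 (Over.mk r.str)) (Category.id_comp l) (x := (chObj x m).1)
      β hβ (chMap x l (rfl : l ≫ m = _)) inferInstance
    haveI := hi
    have hmem : ∀ y, (l ≫ m).left y ∈ (O : Set U.left) := fun y => by
      refine hpt r.K r.str (l ≫ m) (fun V v s hs => ?_) ⟨y, rfl⟩
      obtain ⟨σ, hσ⟩ := exists_autSec_eq hX he s hs
      haveI := σ.2
      have h1 : σ.1 = 𝟙 _ := hr (chObj x (v ≫ l ≫ m)).1 (chMap x v rfl ≫ i) σ.1 (by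
        rw [IsHomLift.fac' 𝒳.p (𝟙 V) σ.1]; simp)
      rw [hone, ← hσ, show σ = AutT.one from Subtype.ext h1]
    have e1 : (l ≫ m).left (IsLocalRing.closedPoint r.K) = t := by
      show (U.left.fromSpecResidueField t) _ = t
      exact Scheme.fromSpecResidueField_apply _ _
    exact e1 ▸ hmem (IsLocalRing.closedPoint r.K)
  · refine ⟨_, rfl, hclean (V := Over.mk (U.left.fromSpecResidueField t ≫ U.hom)) (Over.homMk (U.left.fromSpecResidueField t) rfl) ?_⟩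
    rintro _ ⟨y, rfl⟩
    show U.left.fromSpecResidueField t y ∈ _
    rw [Scheme.fromSpecResidueField_apply]
    exact ht

variable (h𝒳 : IsAlgStack Scheme.fppfPrecoverage 𝒳)
  (h𝒳i : RepByAlgSpWith (AlgSp.LocP @LocallyOfFinitePresentation) (inertiaToBase (toSelf 𝒳)))
  (hpr : RepByAlgSpWith AlgSp.IsProperMor (inertiaToBase (toSelf 𝒳)))

include h𝒳 h𝒳i hpr

theorem preimage_cleanPts (U : Over S) (x : overCat U ⥤ᵇ 𝒳) {W : U.left.Opens} (hW : IsAffineOpen W) :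
    ∃ O : U.left.Opens, IsCompact (O : Set U.left) ∧ (O : Set U.left) = Points.ofChart x ⁻¹' cleanPts 𝒳 ∩ W := by
  let V : Over S := Over.mk (W.ι ≫ U.hom)
  let j : V ⟶ U := Over.homMk W.ι rfl
  haveI : IsAffine V.left := hW
  obtain ⟨O, hOc, -, hO⟩ := exists_cleanOpen h𝒳.isStack.1 h𝒳i hpr V (BasedFunctor.comp (overMap j) x)
  refine ⟨W.ι ''ᵁ O, hOc.image W.ι.continuous, ?_⟩
  ext u
  constructor
  · rintro ⟨t, ht, rfl⟩
    have := (hO t).2 ht
    rw [AlgSt88.ofChart_overMap j x t] at this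
    exact ⟨this, t.2⟩
  · rintro ⟨hu, huW⟩
    refine ⟨⟨u, huW⟩, (hO _).1 ?_, rfl⟩
    rw [AlgSt88.ofChart_overMap j x]
    exact hu

theorem isOpen_cleanPts : IsOpen (cleanPts 𝒳) := by
  intro U x _
  rw [isOpen_iff_forall_mem_open]
  intro u hu
  obtain ⟨W, hW, huW, -⟩ := exists_isAffineOpen_mem_and_subset (X := U.left) (x := u) (U := ⊤) trivial
  obtain ⟨O, -, hO⟩ := preimage_cleanPts h𝒳 h𝒳i hpr U x hW
  exact ⟨O, hO ▸ Set.inter_subset_left, O.isOpen, hO ▸ ⟨hu, huW⟩⟩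

theorem quasiCompact_clean (U : Over S) (x : overCat U ⥤ᵇ 𝒳) (V : U.left.Opens)
    (hV : (V : Set U.left) = Points.ofChart x ⁻¹' cleanPts 𝒳) : QuasiCompact V.ι := by
  rw [quasiCompact_iff_forall_isAffineOpen]
  intro W hW
  obtain ⟨O, hOc, hO⟩ := preimage_cleanPts h𝒳 h𝒳i hpr U x hW
  rw [V.ι.isOpenEmbedding.isInducing.isCompact_iff]
  convert hOc
  rw [hO, ← hV, Set.inter_comm]
  ext u
  constructor
  · rintro ⟨v, hv, rfl⟩; exact ⟨hv, v.2⟩
  · rintro ⟨h1, h2⟩; exact ⟨⟨u, h2⟩, h1, rfl⟩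

theorem isClean_eq_inPts : (fun η => IsClean η) = InPts (cleanPts 𝒳) := by
  funext η
  refine propext ⟨fun h p g => ⟨p, rfl, isClean_of_hom g h⟩, fun h => ?_⟩
  have hX := h𝒳.isStack.1
  intro y k s hs
  let T := 𝒳.p.obj y
  haveI hsl : 𝒳.p.IsHomLift (𝟙 T) s := IsHomLift.of_fac' 𝒳.p (𝟙 T) s rfl rfl (by simpa using hs)
  let 𝒰 := T.left.affineOpenCover
  let W : 𝒰.I₀ → Over S := fun i => Over.mk (𝒰.f i ≫ T.hom)
  let c : ∀ i, W i ⟶ T := fun i => Over.homMk (𝒰.f i) rfl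
  let R : Sieve T := Sieve.generate (Presieve.ofArrows W c)
  have hR : R ∈ AlgSp.J S T := by
    rw [GrothendieckTopology.mem_over_iff, Sieve.overEquiv_generate]
    refine GrothendieckTopology.superset_covering _ ?_
      (Precoverage.generate_mem_toGrothendieck
        (Scheme.zariskiPrecoverage_le_fppfPrecoverage _ 𝒰.openCover.mem₀))
    rw [Sieve.generate_le_iff]
    rintro Z g ⟨i⟩
    exact Sieve.le_generate _ _ _ ⟨W i, c i, 𝟙 _, ⟨i⟩, by simp; rfl⟩
  refine Fib44.hom_ext_of_lifts hX ((Fib44.isStack_iff.1 h𝒳.isStack).2 R hR).1 rfl (𝟙 T) s (𝟙 y) fun V g hg => ?_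
  obtain ⟨Y, q, g', ⟨i⟩, rfl⟩ := hg
  obtain ⟨z, a, ha⟩ := exists_lift_fiber hX (c i) ⟨y, rfl⟩
  obtain ⟨z', b, hb⟩ := exists_lift_fiber hX q z
  haveI := ha
  haveI := hb
  refine ⟨z'.1, b ≫ a, inferInstance, ?_⟩
  rw [Category.comp_id, Category.assoc]
  congr 1
  obtain ⟨χ, ⟨hχ, hχe⟩, -⟩ :=
    exists_fac hX (𝟙 (W i)) (Category.id_comp (c i)) a ha (a ≫ s) inferInstance
  haveI := hχ
  let Z := classify hX z.1 z.2
  obtain ⟨e, he⟩ := classify_mk_id hX z.1 z.2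
  haveI := he
  haveI : IsAffine (W i).left := inferInstanceAs (IsAffine (Spec (𝒰.X i)))
  obtain ⟨O, -, hcl, hO⟩ := exists_cleanOpen hX h𝒳i hpr (W i) Z
  have htop : ∀ t, t ∈ O := fun t => (hO t).1 (h _
    (chMap Z (Over.homMk ((W i).left.fromSpecResidueField t) rfl :
      Over.mk ((W i).left.fromSpecResidueField t ≫ (W i).hom) ⟶ W i) (Category.comp_id _) ≫ e.hom ≫ a ≫ k))
  have hzc : IsClean z.1 := isClean_of_hom e.inv (hcl (𝟙 (W i)) fun t _ => htop t)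
  have h1 : χ = 𝟙 z.1 := hzc z.1 (𝟙 _) χ (by rw [IsHomLift.fac' 𝒳.p (𝟙 (W i)) χ]; simp)
  rw [← hχe, h1, Category.id_comp]

omit h𝒳 h𝒳i hpr

end Groth.Agent.IsoNat97
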