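import Groth.Agent.IsoNat97.UnrLocus
import Groth.Agent.SpPts86.Compact
import Groth.Agent.SpPts86.QCMor
import Groth.Agent.SpPts86.EtaleMor
import Groth.Agent.SpFP87.Cover
import Groth.Agent.SpPts86.LocPMore
import Groth.Agent.ConstrTop58.Basic
import Mathlib.AlgebraicGeometry.Morphisms.FlatMono

/-! The locus over which a proper space with a section is trivial. -/

set_option autoImplicit false
set_option linter.unusedVariables false
set_option linter.style.haveILetI false
set_option backward.isDefEq.respectTransparency false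
set_option backward.isDefEq.respectTransparency.types false
universe u

open CategoryTheory CategoryTheory.Limits AlgebraicGeometry Opposite TopologicalSpace Topology AlgSp

namespace Groth.Agent.IsoNat97

variable {S : Scheme.{u}}

/-- Over an affine scheme, the locus where a proper finitely presented space with a section is trivial
is a quasi-compact open, detected at field-valued points. -/
theorem exists_trivialLocus {T : Over S} [IsAffine T.left] {F : Sp S} (hF : IsAlgSpace F) (π : F ⟶ (yon S).obj T)
    (hsep : IsSeparatedMor π) (hqc : AlgSp.IsQuasiCompactMor π) (huc : IsUnivClosedMor π)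
    (hlfp : LocP @LocallyOfFinitePresentation π) (e : (yon S).obj T ⟶ F) (he : e ≫ π = 𝟙 _) :
    ∃ U : T.left.Opens, IsCompact (U : Set T.left) ∧
      (∀ (V : Over S) (a : V ⟶ T) (s : (yon S).obj V ⟶ F), Set.range a.left ⊆ (U : Set T.left) →
        s ≫ π = (yon S).map a → s = (yon S).map a ≫ e) ∧
      (∀ (K : Type u) [Field K] (str : Spec (CommRingCat.of K) ⟶ S) (a : Over.mk str ⟶ T),
        (∀ (V : Over S) (v : V ⟶ Over.mk str) (s : (yon S).obj V ⟶ F), s ≫ π = (yon S).map (v ≫ a) →
          s = (yon S).map (v ≫ a) ≫ e) → Set.range a.left ⊆ (U : Set T.left)) := by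
  -- an affine chart
  have hFqc : IsQuasiCompactSp F :=
    hqc (IsAlgSpace.yon_obj T) (SpPts86.isQuasiCompactSp_yon T) (𝟙 _) (𝟙 F) π (IsPullback.of_id_fst (f := π))
  haveI := SpPts86.compactSpace_points_of_isQuasiCompactSp hFqc
  obtain ⟨W, p, hW, hp, hps⟩ := SpPts86.exists_affine_chart_of_compactSpace hF
  haveI := hW
  obtain ⟨n, hn⟩ := (yon S).map_surjective (p ≫ π)
  haveI hnlfp : LocallyOfFinitePresentation n.left :=
    hlfp p (𝟙 _) n hp (AlgSp.repWith_id _ _) (by rw [Category.comp_id]; exact hn.symm)
  -- the locus where the chart is the section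
  have hdrep : RepWith @IsClosedImmersion (pullback.diagonal π) := hsep
  let g : (yon S).obj W ⟶ pullback π π := pullback.lift p ((yon S).map n ≫ e)
    (by rw [Category.assoc, he, Category.comp_id, hn])
  let Z : Over S := hdrep.rep.pullback g
  let z : Z ⟶ W := hdrep.rep.snd g
  haveI hzcl : IsClosedImmersion z.left := hdrep.property_snd g
  have hzsq := hdrep.rep.isPullback g
  have hz : (yon S).map z ≫ p = ((yon S).map z ≫ (yon S).map n) ≫ e := by
    have h1 := congrArg (fun f => f ≫ pullback.fst π π) hzsq.w
    have h2 := congrArg (fun f => f ≫ pullback.snd π π) hzsq.w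
    simp only [g, Category.assoc, pullback.diagonal_fst, pullback.diagonal_snd, pullback.lift_fst, pullback.lift_snd,
      Category.comp_id] at h1 h2
    rw [Category.assoc]
    exact h1.symm.trans h2
  haveI : Mono ((yon S).map z) := by
    haveI : Mono z := Over.mono_of_mono_left _
    infer_instance
  have hfac : ∀ {X : Sp S} (a : X ⟶ (yon S).obj W), a ≫ p = (a ≫ (yon S).map n) ≫ e →
      ∃ r : X ⟶ (yon S).obj Z, r ≫ (yon S).map z = a := fun {X} a h =>
    ⟨hzsq.lift (a ≫ p) a (by
      apply pullback.hom_ext
      · simp [g]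
      · simp only [g, Category.assoc, pullback.lift_snd, pullback.diagonal_snd, Category.comp_id]
        rw [← Category.assoc]; exact h), hzsq.lift_snd _ _ _⟩
  have hmapzn : (yon S).map (z ≫ n) = (yon S).map z ≫ (yon S).map n := Functor.map_comp _ _ _
  have sqZ : IsPullback ((yon S).map z) ((yon S).map (z ≫ n)) p e := by
    have hc : ∀ c : PullbackCone p e, c.snd = c.fst ≫ (yon S).map n ∧ c.fst ≫ p = (c.fst ≫ (yon S).map n) ≫ e := fun c => by
      have := congrArg (fun f => f ≫ π) c.condition
      simp only [Category.assoc, he, Category.comp_id, ← hn] at this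
      exact ⟨this.symm, by rw [c.condition, this]⟩
    refine IsPullback.of_isLimit (PullbackCone.IsLimit.mk (hz.trans (congrArg (· ≫ e) hmapzn.symm))
      (fun c => (hfac c.fst (hc c).2).choose) (fun c => (hfac c.fst (hc c).2).choose_spec) (fun c => ?_)
      (fun c m h1 h2 => (cancel_mono ((yon S).map z)).1 (h1.trans (hfac c.fst (hc c).2).choose_spec.symm)))
    refine (congrArg (fun f => _ ≫ f) hmapzn).trans ?_
    rw [← Category.assoc, (hfac c.fst (hc c).2).choose_spec]
    exact (hc c).1.symm
  haveI hZet : Etale (z ≫ n).left := hp.property _ _ _ sqZ.flip.flip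
  haveI : Etale (z.left ≫ n.left) := hZet
  haveI hzlfp : LocallyOfFinitePresentation z.left :=
    SpPts86.lfp_of_comp z.left n.left
  obtain ⟨U₀, hU₀c, hU₀u, hU₀pt⟩ := unrLocus_affine n.left
  -- the good open of the chart
  let Z₀ : Z.left.Opens := z.left ⁻¹ᵁ U₀
  let k : Z₀.toScheme ⟶ W.left := Z₀.ι ≫ z.left
  haveI hk : IsOpenImmersion k := by
    have e1 : k = (z.left ∣_ U₀) ≫ U₀.ι := (morphismRestrict_ι z.left U₀).symm
    haveI := hU₀u
    haveI : Etale ((z.left ∣_ U₀) ≫ (U₀.ι ≫ n.left)) := by
      rw [← Category.assoc, morphismRestrict_ι, Category.assoc]; infer_instance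
    haveI : Etale (z.left ∣_ U₀) := Etale.of_comp _ (U₀.ι ≫ n.left)
    haveI : IsOpenImmersion (z.left ∣_ U₀) := IsOpenImmersion.of_flat_of_mono _
    rw [e1]; infer_instance
  let V₀ : Over S := Over.mk (k ≫ W.hom)
  let m : V₀ ⟶ W := Over.homMk k rfl
  haveI : Etale m.left := inferInstanceAs (Etale k)
  have hmp : RepWith @Etale ((yon S).map m ≫ p) := SpPts86.repWith_etale_comp m hp
  have hmz : (yon S).map m ≫ p = ((yon S).map m ≫ (yon S).map n) ≫ e := by
    let r : V₀ ⟶ Z := Over.homMk Z₀.ι (by show Z₀.ι ≫ Z.hom = (Z₀.ι ≫ z.left) ≫ W.hom; rw [Category.assoc, Over.w z])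
    have hr : m = r ≫ z := Over.OverMorphism.ext rfl
    rw [hr, Functor.map_comp, Category.assoc, hz]
    simp only [Category.assoc]
  let O : Set (Points F) := Set.range (Points.ofPt ((yon S).map m ≫ p))
  have hO : IsOpen O := (SpPts86.isOpenMap_ofPt hmp).isOpen_range
  let C : Set T.left := (Points.schemeHomeo T).symm '' (Points.map π '' Oᶜ)
  have hC : IsClosed C := by
    refine (Points.schemeHomeo T).symm.isClosedMap _ (?_ : IsClosed _)
    exact huc (IsAlgSpace.yon_obj T) (𝟙 _) (𝟙 F) π (IsPullback.of_id_fst (f := π)) _ hO.isClosed_compl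
  let U : T.left.Opens := ⟨Cᶜ, hC.isOpen_compl⟩
  have hCmem : ∀ t : T.left, t ∈ C ↔ ∃ x ∉ O, Points.map π x = Points.ofScheme T t := fun t => by
    constructor
    · rintro ⟨_, ⟨x, hx, rfl⟩, rfl⟩
      exact ⟨x, hx, ((Points.schemeHomeo T).apply_symm_apply _).symm⟩
    · rintro ⟨x, hx, h⟩
      exact ⟨_, ⟨x, hx, h⟩, (Points.schemeHomeo T).symm_apply_apply t⟩
  -- trivial over the open
  have triv : ∀ (V : Over S) (a : V ⟶ T) (s : (yon S).obj V ⟶ F), Set.range a.left ⊆ (U : Set T.left) →
      s ≫ π = (yon S).map a → s = (yon S).map a ≫ e := by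
    intro V a s ha hs
    let R : Over S := hmp.rep.pullback s
    let c : R ⟶ V := hmp.rep.snd s
    haveI : Etale c.left := hmp.property_snd s
    obtain ⟨q, hq⟩ := (yon S).map_surjective (hmp.rep.fst s)
    have hsur : Surjective c.left := ⟨fun v => by
      have hv : Points.ofPt s v ∈ O := by
        by_contra hx
        refine ha ⟨v, rfl⟩ ((hCmem _).2 ⟨_, hx, ?_⟩)
        rw [Points.map_ofPt, hs, SpPts86.ofPt_yon_map]
      obtain ⟨w, hw⟩ := hv
      obtain ⟨r, -, hr⟩ := SpPts86.exists_pt_of_isPullback (hmp.rep.isPullback s) (Points.ofScheme V₀ w) v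
        (by rw [← hw, ← Points.ofPt_eq_map_ofScheme])
      exact ⟨r, hr⟩⟩
    refine SpFP87.cover_hom_ext c (SpFP87.etale_surjective_le_fppfSurj _ ⟨inferInstance, hsur⟩) ?_
    have h1 : ((yon S).map q ≫ (yon S).map m) ≫ p = (yon S).map c ≫ s := by
      rw [Category.assoc, hq]; exact (hmp.rep.isPullback s).w
    have h2 := congrArg (fun f => f ≫ π) h1
    simp only [Category.assoc, ← hn, hs] at h2
    refine h1.symm.trans (((Category.assoc _ _ _).trans (congrArg ((yon S).map q ≫ ·) hmz)).trans ?_)
    rw [← Category.assoc ((yon S).map q), h2, Category.assoc]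
  have bad : ∀ (K : Type u) [Field K] (str : Spec (CommRingCat.of K) ⟶ S) (a : Over.mk str ⟶ T),
      (∀ (V : Over S) (v : V ⟶ Over.mk str) (s : (yon S).obj V ⟶ F), s ≫ π = (yon S).map (v ≫ a) →
        s = (yon S).map (v ≫ a) ≫ e) → ∀ w : W.left, n.left w ∈ Set.range a.left → w ∈ Set.range k := by
    intro K _ str a h w hw
    obtain ⟨y₀, hy₀⟩ := hw
    let P : Scheme.{u} := pullback n.left a.left
    let V : Over S := Over.mk (pullback.snd n.left a.left ≫ str)
    let v : V ⟶ Over.mk str := Over.homMk (pullback.snd _ _) rfl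
    let q : V ⟶ W := Over.homMk (pullback.fst n.left a.left) (by
      show _ ≫ W.hom = pullback.snd n.left a.left ≫ str
      rw [← show n.left ≫ T.hom = W.hom from Over.w n, pullback.condition_assoc]
      exact congrArg _ (Over.w a))
    have hqn : q ≫ n = v ≫ a := Over.OverMorphism.ext pullback.condition
    have hs := h V v ((yon S).map q ≫ p) (by rw [Category.assoc, ← hn, ← Functor.map_comp, hqn])
    obtain ⟨r', hr'⟩ := hfac ((yon S).map q) (by rw [← Functor.map_comp, hqn]; exact hs)
    obtain ⟨r, rfl⟩ := (yon S).map_surjective r'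
    have hrz : r ≫ z = q := (yon S).map_injective (by rw [Functor.map_comp, hr'])
    have hrz' : r.left ≫ z.left = pullback.fst n.left a.left := congrArg CommaMorphism.left hrz
    obtain ⟨y, hy, -⟩ := Scheme.Pullback.exists_preimage_pullback w y₀ hy₀.symm
    have hwz : w = z.left (r.left y) := by rw [← hy, ← hrz']; rfl
    have hwU : w ∈ U₀ := by
      refine hU₀pt (CommRingCat.of K) a.left P (pullback.fst _ _) (pullback.snd _ _) (IsPullback.of_hasPullback _ _) ?_
        ⟨y, hy⟩
      let σ : P ⟶ pullback (z.left ≫ n.left) a.left := pullback.lift r.left (pullback.snd _ _)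
        (by rw [← Category.assoc, hrz', pullback.condition])
      let zK : pullback (z.left ≫ n.left) a.left ⟶ P := pullback.lift (pullback.fst _ _ ≫ z.left) (pullback.snd _ _)
        (by rw [Category.assoc]; exact pullback.condition)
      have hσz : σ ≫ zK = 𝟙 _ := by
        apply pullback.hom_ext <;> simp [σ, zK, hrz']
      haveI : Mono zK := ⟨fun {X} f g hfg => by
        have h1 := congrArg (fun t => t ≫ pullback.fst n.left a.left) hfg
        have h2 := congrArg (fun t => t ≫ pullback.snd n.left a.left) hfg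
        simp only [zK, Category.assoc, pullback.lift_fst, pullback.lift_snd] at h1 h2
        refine pullback.hom_ext ((cancel_mono z.left).1 ?_) h2
        simpa using h1⟩
      haveI : IsIso σ := ⟨zK, hσz, by rw [← cancel_mono zK, Category.assoc, hσz, Category.comp_id, Category.id_comp]⟩
      have e1 : σ ≫ pullback.snd (z.left ≫ n.left) a.left = pullback.snd n.left a.left := pullback.lift_snd _ _ _
      rw [← e1]
      haveI : Etale (pullback.snd (z.left ≫ n.left) a.left) := inferInstance
      infer_instance
    exact ⟨⟨r.left y, show z.left (r.left y) ∈ U₀ from hwz ▸ hwU⟩, hwz.symm⟩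
  -- the open is the complement of the image of the bad part of the chart
  have hUeq : (U : Set T.left) = (n.left '' (Set.range k)ᶜ)ᶜ := by
    apply Set.Subset.antisymm
    · intro t ht
      rintro ⟨w, hw, hwt⟩
      refine hw (bad (T.left.residueField t) (T.left.fromSpecResidueField t ≫ T.hom)
        (Over.homMk (T.left.fromSpecResidueField t) rfl) (fun V v s hs => triv V _ s ?_ hs) w ?_)
      · rintro _ ⟨y, rfl⟩
        show T.left.fromSpecResidueField t (v.left y) ∈ _
        rw [Scheme.fromSpecResidueField_apply]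
        exact ht
      · show n.left w ∈ Set.range (T.left.fromSpecResidueField t)
        rw [Scheme.range_fromSpecResidueField]
        exact hwt
    · intro t ht htC
      obtain ⟨x, hx, hxt⟩ := (hCmem t).1 htC
      obtain ⟨w, rfl⟩ := SpPts86.surjective_ofPt hps x
      refine ht ⟨w, fun ⟨w', hw'⟩ => hx ⟨w', ?_⟩, (Points.schemeHomeo T).injective ?_⟩
      · rw [SpPts86.ofPt_comp]
        exact congrArg (Points.ofPt p) hw'
      · show Points.ofScheme T _ = Points.ofScheme T _
        rw [← hxt, Points.map_ofPt, ← hn, SpPts86.ofPt_yon_map]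
  refine ⟨U, ?_, triv, fun K _ str a h => ?_⟩
  · haveI : QuasiSeparatedSpace T.left := inferInstance
    have hrz : IsConstructible (Set.range z.left) := by
      rw [← Set.image_univ]
      haveI : CompactSpace Z.left := QuasiCompact.compactSpace_of_compactSpace z.left
      exact z.left.isConstructible_image IsConstructible.univ
    have hk' : Set.range k = Set.range z.left ∩ (U₀ : Set W.left) := by
      ext w
      constructor
      · rintro ⟨y, rfl⟩
        exact ⟨⟨_, rfl⟩, y.2⟩
      · rintro ⟨⟨y, rfl⟩, hy⟩
        exact ⟨⟨y, hy⟩, rfl⟩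
    have hcons : IsConstructible (U : Set T.left) := by
      rw [hUeq, isConstructible_compl]
      refine n.left.isConstructible_image ?_
      rw [hk', isConstructible_compl]
      exact hrz.inter hU₀c
    exact (ConstrTop58.isRetrocompact_of_isConstructible hcons).isCompact
  · rw [hUeq]
    rintro _ ⟨y, rfl⟩ ⟨w, hw, hwt⟩
    exact hw (bad K str a h w ⟨y, hwt.symm⟩)

end Groth.Agent.IsoNat97
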