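import Mathlib.RingTheory.Smooth.Basic
import Mathlib.Algebra.MvPolynomial.PDeriv
import Groth.Agent.Henz21.Henselization
import Groth.Agent.Henz21.FaithfullyFlat
import Groth.Agent.Henz21.Quotient

/-! Formal smoothness is tested on square-zero thickenings of strictly henselian local rings. -/

set_option autoImplicit false
set_option linter.unusedVariables false
set_option linter.style.haveILetI false
universe u

open IsLocalRing MvPolynomial TensorProduct

namespace Groth.Agent.IsoNat97

variable {R : Type u} [CommRing R]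

/-- First order expansion of two points in a square-zero ideal. -/
theorem taylor_sq_zero {n : ℕ} {H : Type u} [CommRing H] [Algebra R H] {N : Ideal H} (hN : N ^ 2 = ⊥)
    (f₁ f₂ : MvPolynomial (Fin n) R →ₐ[R] H) (h : ∀ i, f₁ (X i) - f₂ (X i) ∈ N) (p : MvPolynomial (Fin n) R) :
    f₁ p - f₂ p = ∑ i, f₁ (pderiv i p) * (f₁ (X i) - f₂ (X i)) := by
  induction p using MvPolynomial.induction_on with
  | C a =>
    simp only [pderiv_C, map_zero, zero_mul, Finset.sum_const_zero]
    rw [← MvPolynomial.algebraMap_eq, AlgHom.commutes, AlgHom.commutes, sub_self]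
  | add p q hp hq =>
    simp only [map_add, add_mul, Finset.sum_add_distrib, ← hp, ← hq]; ring
  | mul_X p j hp =>
    have hz : ∀ i, (f₁ (X i) - f₂ (X i)) * (f₁ (X j) - f₂ (X j)) = 0 := fun i => by
      have := Ideal.mul_mem_mul (h i) (h j)
      rwa [← pow_two, hN, Ideal.mem_bot] at this
    have hz' : (f₁ p - f₂ p) * (f₁ (X j) - f₂ (X j)) = 0 := by
      rw [hp, Finset.sum_mul]
      exact Finset.sum_eq_zero fun i _ => by rw [mul_assoc, hz i, mul_zero]
    have hsingle : ∑ i, f₁ p * f₁ (pderiv i (X j)) * (f₁ (X i) - f₂ (X i)) = f₁ p * (f₁ (X j) - f₂ (X j)) := by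
      rw [Finset.sum_eq_single j (fun b _ hb => by rw [pderiv_X_of_ne (Ne.symm hb)]; simp) (by simp)]
      simp
    simp only [pderiv_mul, map_add, map_mul, add_mul, Finset.sum_add_distrib]
    rw [hsingle, show (∑ i, f₁ (pderiv i p) * f₁ (X j) * (f₁ (X i) - f₂ (X i))) = (f₁ p - f₂ p) * f₁ (X j) by
        rw [hp, Finset.sum_mul]; exact Finset.sum_congr rfl fun i _ => by ring]
    linear_combination -hz'

/-- A finitely presented algebra is formally smooth if maps to residue rings of square-zero thickenings lift,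
for strictly henselian local residue rings. -/
theorem formallySmooth_of_shLift {B : Type u} [CommRing B] [Algebra R B] [Algebra.FinitePresentation R B]
    (hlift : ∀ (A A₀ : Type u) [CommRing A] [CommRing A₀] [Algebra R A] [Algebra R A₀] (q : A →ₐ[R] A₀),
      Function.Surjective q → RingHom.ker q.toRingHom ^ 2 = ⊥ → HenselianLocalRing A₀ →
      (∀ [IsLocalRing A₀], IsSepClosed (ResidueField A₀)) →
      ∀ σ : B →ₐ[R] A₀, ∃ τ : B →ₐ[R] A, q.comp τ = σ) :
    Algebra.FormallySmooth R B := by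
  obtain ⟨n, π, hπ, hK⟩ := Algebra.FinitePresentation.out (R := R) (A := B)
  let K := RingHom.ker π.toRingHom
  obtain ⟨s, g, hg⟩ := Submodule.fg_iff_exists_fin_generating_family.1 hK
  let R₂ := MvPolynomial (Fin n) R ⧸ K ^ 2
  let mk₂ : MvPolynomial (Fin n) R →ₐ[R] R₂ := Ideal.Quotient.mkₐ R (K ^ 2)
  let π₂ : R₂ →ₐ[R] B := π.kerSquareLift
  let J₂ : Ideal R₂ := RingHom.ker π₂.toRingHom
  have hπ₂ : ∀ p, π₂ (mk₂ p) = π p := fun p => rfl
  have hgK : ∀ k, g k ∈ K := fun k => by
    change g k ∈ RingHom.ker π.toRingHom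
    rw [← hg]; exact Submodule.subset_span ⟨k, rfl⟩
  have hJ₂ : J₂ ^ 2 = ⊥ := by
    show RingHom.ker π.kerSquareLift.toRingHom ^ 2 = ⊥
    rw [AlgHom.ker_kerSquareLift]; exact Ideal.cotangentIdeal_square _
  -- the linear system
  let T : (Fin n → R₂) →ₗ[R₂] (Fin s → R₂) :=
    { toFun := fun v k => ∑ i, mk₂ (pderiv i (g k)) * v i
      map_add' := fun v w => by funext k; simp [mul_add, Finset.sum_add_distrib]
      map_smul' := fun c v => by
        funext k
        show ∑ i, mk₂ (pderiv i (g k)) * (c * v i) = c * ∑ i, mk₂ (pderiv i (g k)) * v i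
        rw [Finset.mul_sum]
        exact Finset.sum_congr rfl fun i _ => by ring }
  let N : Submodule R₂ (Fin s → R₂) := Submodule.map T (Submodule.pi Set.univ fun _ => J₂)
  let v₀ : Fin s → R₂ := fun k => mk₂ (g k)
  let ζ : (Fin s → R₂) ⧸ N := N.mkQ v₀
  -- the annihilator is in no prime
  have key : ∀ Q : Ideal R₂, Q.IsPrime → ∃ r ∉ Q, r • ζ = 0 := by
    intro Q hQ
    let L := Localization.AtPrime Q
    let H : Type u := Henz21.StrictHenselization L
    letI algH : Algebra R₂ H := ((algebraMap L H).comp (algebraMap R₂ L)).toAlgebra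
    haveI : IsScalarTower R₂ L H := ⟨fun r l h => by
      rw [Algebra.smul_def r l]
      show _ = algebraMap L H (algebraMap R₂ L r) * _
      rw [Algebra.smul_def, map_mul, mul_assoc, Algebra.smul_def]⟩
    letI algRH : Algebra R H := ((algebraMap R₂ H).comp (algebraMap R R₂)).toAlgebra
    haveI : IsScalarTower R R₂ H := ⟨fun r l h => by
      rw [Algebra.smul_def r l]
      show _ = algebraMap R₂ H (algebraMap R R₂ r) * _
      rw [Algebra.smul_def, map_mul, mul_assoc, Algebra.smul_def]⟩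
    haveI : Module.FaithfullyFlat L H := Henz21.strictHenselization_faithfullyFlat H
    haveI : Module.Flat R₂ H := Module.Flat.trans R₂ L H
    let ι : R₂ →ₐ[R] H := IsScalarTower.toAlgHom R R₂ H
    let JH : Ideal H := J₂.map (algebraMap R₂ H)
    have hloc : ∀ r, r ∈ Q → algebraMap R₂ H r ∈ maximalIdeal H := fun r hr => by
      rw [mem_maximalIdeal, mem_nonunits_iff, IsScalarTower.algebraMap_apply R₂ L H]
      intro hu
      exact ((IsLocalization.AtPrime.to_map_mem_maximal_iff L Q r).2 hr) (isUnit_of_map_unit (algebraMap L H) _ hu)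
    by_contra hcon
    push Not at hcon
    have hJQ : J₂ ≤ Q := fun j hj => hQ.mem_of_pow_mem 2 (by
      have := Ideal.mul_mem_mul hj hj
      rw [← pow_two J₂, hJ₂, Ideal.mem_bot] at this
      show j ^ 2 ∈ Q
      rw [show j ^ 2 = 0 from (pow_two j).trans this]; exact Q.zero_mem)
    have hJH : JH ≤ maximalIdeal H := Ideal.map_le_iff_le_comap.2 fun r hr => hloc r (hJQ hr)
    have hJH₂ : JH ^ 2 = ⊥ := by rw [← Ideal.map_pow, hJ₂, Ideal.map_bot]
    haveI : Nontrivial (H ⧸ JH) := Ideal.Quotient.nontrivial_iff.2 (fun h => (maximalIdeal.isMaximal H).ne_top (top_le_iff.1 (h ▸ hJH)))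
    let C := H ⧸ JH
    have hsurjC : Function.Surjective (Ideal.Quotient.mk JH) := Ideal.Quotient.mk_surjective
    haveI hCh : HenselianLocalRing C := Henz21.henselianLocalRing_of_surjective (Ideal.Quotient.mk JH) hsurjC
    haveI : IsLocalHom (Ideal.Quotient.mk JH) := IsLocalHom.of_surjective _ hsurjC
    haveI : IsSepClosed (ResidueField H) :=
      (Henz21.StrictHenselization.isStrictHenselization L).isSepClosure.sep_closed
    have hsep : IsSepClosed (ResidueField C) :=
      IsSepClosed.of_exists_root _ fun p hp hirr hsepp => by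
        let e : ResidueField H ≃+* ResidueField C := RingEquiv.ofBijective (ResidueField.map (Ideal.Quotient.mk JH))
          ⟨RingHom.injective _, fun y => by
            obtain ⟨c, rfl⟩ := residue_surjective y
            obtain ⟨h, rfl⟩ := hsurjC c
            exact ⟨residue H h, rfl⟩⟩
        obtain ⟨x, hx⟩ := IsSepClosed.exists_root (p.map e.symm.toRingHom) (by
          rw [Polynomial.degree_map]; exact (Polynomial.degree_pos_of_irreducible hirr).ne') hsepp.map
        exact ⟨e x, e.symm.injective (by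
          rw [map_zero, ← RingEquiv.coe_toRingHom, ← Polynomial.eval_map_apply]
          simpa using hx)⟩
    let σ₂ : R₂ →ₐ[R] C := (Ideal.Quotient.mkₐ R JH).comp ι
    have hσ : ∀ p ∈ RingHom.ker π, σ₂ (mk₂ p) = 0 := fun p hp =>
      Ideal.Quotient.eq_zero_iff_mem.2 (Ideal.mem_map_of_mem _ (show mk₂ p ∈ J₂ from hp))
    let σ : B →ₐ[R] C := (Ideal.Quotient.liftₐ (RingHom.ker π) (σ₂.comp mk₂) hσ).comp
      (Ideal.quotientKerAlgEquivOfSurjective hπ).symm.toAlgHom
    have hσπ : ∀ p, σ (π p) = σ₂ (mk₂ p) := fun p => by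
      show (Ideal.Quotient.liftₐ (RingHom.ker π) (σ₂.comp mk₂) hσ) ((Ideal.quotientKerAlgEquivOfSurjective hπ).symm (π p)) = _
      rw [Ideal.quotientKerAlgEquivOfSurjective_symm_apply hπ]
      rfl
    obtain ⟨τ, hτ⟩ := hlift H C (Ideal.Quotient.mkₐ R JH) hsurjC
      (by rw [show RingHom.ker (Ideal.Quotient.mkₐ R JH).toRingHom = JH from Ideal.mk_ker]; exact hJH₂)
      hCh (fun {_} => hsep) σ
    let f₁ : MvPolynomial (Fin n) R →ₐ[R] H := ι.comp mk₂
    let f₂ : MvPolynomial (Fin n) R →ₐ[R] H := τ.comp π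
    have hd : ∀ i, f₁ (X i) - f₂ (X i) ∈ JH := fun i => by
      rw [← Ideal.Quotient.eq]
      have h1 := DFunLike.congr_fun hτ (π (X i))
      rw [hσπ] at h1
      exact h1.symm
    let Φ : (Fin s → H) →ₗ[H] H ⊗[R₂] ((Fin s → R₂) ⧸ N) :=
      { toFun := fun w => ∑ k, w k ⊗ₜ N.mkQ (Pi.single k 1)
        map_add' := fun a b => by simp [add_tmul, Finset.sum_add_distrib]
        map_smul' := fun c a => by
          simp only [Pi.smul_apply, RingHom.id_apply, Finset.smul_sum, smul_tmul'] }
    have hΦ : ∀ w : Fin s → R₂, Φ (fun k => algebraMap R₂ H (w k)) = 1 ⊗ₜ N.mkQ w := fun w => by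
      show ∑ k, algebraMap R₂ H (w k) ⊗ₜ N.mkQ (Pi.single k 1) = _
      calc _ = ∑ k, (1 : H) ⊗ₜ[R₂] (w k • N.mkQ (Pi.single k 1)) := Finset.sum_congr rfl fun k _ => by
            rw [← smul_tmul, Algebra.algebraMap_eq_smul_one]
        _ = _ := by
            rw [← tmul_sum]; congr 1
            simp only [← map_smul, ← map_sum]
            congr 1
            exact (pi_eq_sum_univ' w).symm
    have hT : ∀ (i : Fin n) (c : H), c ∈ JH → Φ (fun k => f₁ (pderiv i (g k)) * c) = 0 := by
      intro i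
      let Ψ : H →ₗ[H] H ⊗[R₂] ((Fin s → R₂) ⧸ N) :=
        { toFun := fun c => Φ (fun k => f₁ (pderiv i (g k)) * c)
          map_add' := fun a b => by rw [← map_add]; congr 1; funext k; exact mul_add _ _ _
          map_smul' := fun a b => by
            rw [RingHom.id_apply, ← map_smul]; congr 1; funext k; simp only [Pi.smul_apply, smul_eq_mul]; ring }
      suffices JH ≤ LinearMap.ker Ψ from fun c hc => this hc
      refine Ideal.span_le.2 ?_
      rintro _ ⟨j, hj, rfl⟩
      show Φ (fun k => f₁ (pderiv i (g k)) * algebraMap R₂ H j) = 0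
      rw [show (fun k => f₁ (pderiv i (g k)) * algebraMap R₂ H j) =
          fun k => algebraMap R₂ H (mk₂ (pderiv i (g k)) * j) from funext fun k => (map_mul (algebraMap R₂ H) (mk₂ (pderiv i (g k))) j).symm, hΦ]
      have hmem : (fun k => mk₂ (pderiv i (g k)) * j) ∈ N := by
        refine ⟨Pi.single i j, fun l _ => ?_, funext fun k => ?_⟩
        · rcases eq_or_ne l i with rfl | hl
          · simpa using hj
          · simp [Pi.single_eq_of_ne hl]
        · show ∑ l, mk₂ (pderiv l (g k)) * (Pi.single i j : Fin n → R₂) l = _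
          rw [Finset.sum_eq_single i (fun b _ hb => by simp [Pi.single_eq_of_ne hb]) (by simp)]
          simp
      rw [Submodule.mkQ_apply, (Submodule.Quotient.mk_eq_zero N).2 hmem, tmul_zero]
    have h1ζ : (1 : H) ⊗ₜ[R₂] ζ = 0 := by
      rw [← hΦ v₀]
      have : (fun k => algebraMap R₂ H (v₀ k)) = ∑ i, fun k => f₁ (pderiv i (g k)) * (f₁ (X i) - f₂ (X i)) := by
        funext k
        rw [Finset.sum_apply, ← taylor_sq_zero hJH₂ f₁ f₂ hd (g k)]
        show _ = ι (mk₂ (g k)) - τ (π (g k))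
        rw [show π (g k) = 0 from hgK k, map_zero, sub_zero]
        rfl
      rw [this, map_sum]
      exact Finset.sum_eq_zero fun i _ => hT i _ (hd i)
    -- flatness
    let 𝔞 : Ideal R₂ := LinearMap.ker (LinearMap.toSpanSingleton R₂ _ ζ)
    let l : R₂ ⧸ 𝔞 →ₗ[R₂] (Fin s → R₂) ⧸ N := 𝔞.liftQ (LinearMap.toSpanSingleton R₂ _ ζ) le_rfl
    have hl : Function.Injective l := LinearMap.ker_eq_bot.1 (Submodule.ker_liftQ_eq_bot _ _ _ le_rfl)
    have hl' := Module.Flat.lTensor_preserves_injective_linearMap (M := H) l hl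
    have h0 : (1 : H) ⊗ₜ[R₂] (Submodule.Quotient.mk 1 : R₂ ⧸ 𝔞) = 0 := hl' (by
      rw [LinearMap.lTensor_tmul, map_zero]
      show (1 : H) ⊗ₜ[R₂] (LinearMap.toSpanSingleton R₂ _ ζ 1) = 0
      rw [LinearMap.toSpanSingleton_apply, one_smul]; exact h1ζ)
    have ha : 𝔞 ≤ Q := fun r hr => by
      by_contra hr'
      exact hcon r hr' (by simpa [𝔞, LinearMap.mem_ker] using hr)
    let l₂ : R₂ ⧸ 𝔞 →ₗ[R₂] ResidueField H :=
      𝔞.liftQ (LinearMap.toSpanSingleton R₂ (ResidueField H) 1) (fun r hr => by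
        rw [LinearMap.mem_ker, LinearMap.toSpanSingleton_apply, Algebra.smul_def, mul_one,
          IsScalarTower.algebraMap_apply R₂ H (ResidueField H), ResidueField.algebraMap_eq]
        exact (residue_eq_zero_iff _).2 (hloc r (ha hr)))
    let ev : H ⊗[R₂] (R₂ ⧸ 𝔞) →ₗ[R₂] ResidueField H :=
      (LinearMap.mul' R₂ (ResidueField H)).comp
        (TensorProduct.map (IsScalarTower.toAlgHom R₂ H (ResidueField H)).toLinearMap l₂)
    have hev := congrArg ev h0
    rw [map_zero, LinearMap.comp_apply, TensorProduct.map_tmul, LinearMap.mul'_apply, AlgHom.toLinearMap_apply,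
      map_one, one_mul] at hev
    have hl₂ : l₂ (Submodule.Quotient.mk 1) = 1 := by
      show LinearMap.toSpanSingleton R₂ (ResidueField H) 1 1 = 1
      rw [LinearMap.toSpanSingleton_apply, one_smul]
    exact one_ne_zero (α := ResidueField H) (hl₂.symm.trans hev)
  -- hence the system is soluble
  let 𝔟 : Ideal R₂ := LinearMap.ker (LinearMap.toSpanSingleton R₂ _ ζ)
  have hb : 𝔟 = ⊤ := by
    by_contra hne
    obtain ⟨Q, hQ, hle⟩ := Ideal.exists_le_maximal 𝔟 hne
    obtain ⟨r, hr, hr0⟩ := key Q hQ.isPrime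
    exact hr (hle (show r ∈ 𝔟 from hr0))
  have hζ : ζ = 0 := by
    have h1 : (1 : R₂) ∈ 𝔟 := hb ▸ Submodule.mem_top
    simpa [𝔟] using h1
  obtain ⟨j, hj, hjv⟩ := (Submodule.Quotient.mk_eq_zero N).1 hζ
  let f₂ : MvPolynomial (Fin n) R →ₐ[R] R₂ := MvPolynomial.aeval fun i => mk₂ (X i) - j i
  have hd : ∀ i, mk₂ (X i) - f₂ (X i) = j i := fun i => by simp [f₂]
  have hK' : ∀ p ∈ RingHom.ker π, f₂ p = 0 := by
    intro p hp
    suffices RingHom.ker π.toRingHom ≤ RingHom.ker f₂.toRingHom from this hp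
    rw [← hg]
    refine Submodule.span_le.2 ?_
    rintro _ ⟨k, rfl⟩
    have h1 := taylor_sq_zero hJ₂ mk₂ f₂ (fun i => by rw [hd]; exact hj i trivial) (g k)
    simp only [hd] at h1
    have h2 : mk₂ (g k) = ∑ i, mk₂ (pderiv i (g k)) * j i := (congrFun hjv k).symm
    rw [← h2] at h1
    exact sub_eq_self.1 h1
  refine Algebra.FormallySmooth.of_split π ((Ideal.Quotient.liftₐ (RingHom.ker π) f₂ hK').comp
      (Ideal.quotientKerAlgEquivOfSurjective hπ).symm.toAlgHom) (AlgHom.ext fun b => ?_)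
  obtain ⟨p, rfl⟩ := hπ b
  show π₂ ((Ideal.Quotient.liftₐ (RingHom.ker π) f₂ hK') ((Ideal.quotientKerAlgEquivOfSurjective hπ).symm (π p))) = π p
  rw [Ideal.quotientKerAlgEquivOfSurjective_symm_apply hπ]
  show π₂ (f₂ p) = π p
  exact DFunLike.congr_fun (show π₂.comp f₂ = π from MvPolynomial.algHom_ext fun i => by
    show π₂ (f₂ (X i)) = π (X i)
    have : π₂ (j i) = 0 := hj i trivial
    simp [f₂, this, hπ₂]) p

end Groth.Agent.IsoNat97
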