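import Groth.Prelude.Def_AlgSt2
import Mathlib.RingTheory.Nilpotent.Lemmas

/-! All liftings of a point of a local ring to a thickening are realised by one thickening. -/

set_option autoImplicit false
set_option linter.unusedVariables false
set_option linter.style.haveILetI false
set_option backward.isDefEq.respectTransparency false
set_option backward.isDefEq.respectTransparency.types false
universe u

open CategoryTheory CategoryTheory.Limits AlgebraicGeometry IsLocalRing

namespace Groth.Agent.IsoNat97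

variable {A A₀ : Type u} [CommRing A] [CommRing A₀]

/-- A surjection with square-zero kernel onto a local ring has local source and is a local homomorphism. -/
theorem isLocalHom_of_sq {q : A →+* A₀} (hq : Function.Surjective q) (hsq : RingHom.ker q ^ 2 = ⊥)
    [IsLocalRing A₀] : IsLocalRing A ∧ IsLocalHom q := by
  have h : ∀ a, IsUnit (q a) → IsUnit a := fun a ha => by
    obtain ⟨b, hb⟩ := ha.exists_right_inv
    obtain ⟨b, rfl⟩ := hq b
    have h0 : a * b - 1 ∈ RingHom.ker q := by rw [RingHom.mem_ker, map_sub, map_mul, hb, map_one, sub_self]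
    have h2 : (a * b - 1) * (a * b - 1) = 0 := by
      have := Ideal.mul_mem_mul h0 h0
      rwa [← pow_two, hsq, Ideal.mem_bot] at this
    exact IsUnit.of_mul_eq_one (b * (2 - a * b)) (by linear_combination -h2)
  haveI : Nontrivial A := RingHom.domain_nontrivial q
  haveI : IsLocalHom q := ⟨h⟩
  exact ⟨RingHom.domain_isLocalRing q, ‹_›⟩

variable {S : Scheme.{u}} {V : Over S}

theorem exists_affine_factor (q : A →+* A₀) (hq : Function.Surjective q) (hsq : RingHom.ker q ^ 2 = ⊥)
    [IsLocalRing A₀] (b₀ : Spec (CommRingCat.of A₀) ⟶ V.left) :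
    ∃ (W : V.left.Opens) (hW : IsAffineOpen W),
      ∀ c : Spec (CommRingCat.of A) ⟶ V.left, Spec.map (CommRingCat.ofHom q) ≫ c = b₀ →
        ∃ ψ : Γ(V.left, W) ⟶ CommRingCat.of A, Spec.map ψ ≫ hW.fromSpec = c := by
  obtain ⟨hA, hloc⟩ := isLocalHom_of_sq hq hsq
  haveI := hA
  haveI := hloc
  obtain ⟨W, hW, hxW, -⟩ := exists_isAffineOpen_mem_and_subset (U := (⊤ : V.left.Opens))
    (x := b₀.base (closedPoint A₀)) trivial
  refine ⟨W, hW, fun c hc => ?_⟩
  have hcl : c.base (closedPoint A) = b₀.base (closedPoint A₀) := by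
    rw [← hc]
    show c.base (closedPoint A) = c.base (PrimeSpectrum.comap q (closedPoint A₀))
    rw [IsLocalRing.comap_closedPoint]
  have htop : c ⁻¹ᵁ W = ⊤ := by
    rw [← IsLocalRing.closed_point_mem_iff]
    show c.base (closedPoint A) ∈ W
    rw [hcl]; exact hxW
  have hr : Set.range c.base ⊆ Set.range hW.fromSpec.base := by
    rintro _ ⟨p, rfl⟩
    rw [hW.range_fromSpec]
    exact (show p ∈ c ⁻¹ᵁ W from htop ▸ trivial)
  exact ⟨Spec.preimage (IsOpenImmersion.lift hW.fromSpec c hr), by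
    rw [Spec.map_preimage, IsOpenImmersion.lift_fac]⟩

/-- One thickening realises all liftings of a point. -/
theorem exists_wide_thickening (q : A →+* A₀) (hq : Function.Surjective q) (hsq : RingHom.ker q ^ 2 = ⊥)
    [IsLocalRing A₀] {str : Spec (CommRingCat.of A) ⟶ S} {str₀ : Spec (CommRingCat.of A₀) ⟶ S}
    (i : Over.mk str₀ ⟶ Over.mk str) (hi : i.left = Spec.map (CommRingCat.ofHom q)) (b : Over.mk str ⟶ V) :
    ∃ (P : Type u) (_ : CommRing P) (qP : P →+* A₀) (strP : Spec (CommRingCat.of P) ⟶ S)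
      (iP : Over.mk str₀ ⟶ Over.mk strP) (c : Over.mk strP ⟶ V),
      Function.Surjective qP ∧ RingHom.ker qP ^ 2 = ⊥ ∧ iP.left = Spec.map (CommRingCat.ofHom qP) ∧
      ∀ c₁ : Over.mk str ⟶ V, i ≫ c₁ = i ≫ b →
        ∃ j : Over.mk str ⟶ Over.mk strP, i ≫ j = iP ∧ j ≫ c = c₁ := by
  obtain ⟨W, hW, hf⟩ := exists_affine_factor q hq hsq (i ≫ b).left
  let Γ' := {c₁ : Over.mk str ⟶ V // i ≫ c₁ = i ≫ b}
  let b' : Γ' := ⟨b, rfl⟩
  have hf' : ∀ c : Γ', ∃ ψ : Γ(V.left, W) ⟶ CommRingCat.of A, Spec.map ψ ≫ hW.fromSpec = c.1.left := fun c =>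
    hf c.1.left (by rw [← hi, ← Over.comp_left, c.2])
  choose ψ hψ using hf'
  have hψq : ∀ c, ψ c ≫ CommRingCat.ofHom q = ψ b' ≫ CommRingCat.ofHom q := fun c => by
    apply Spec.map_injective
    rw [← cancel_mono hW.fromSpec, Spec.map_comp, Spec.map_comp, Category.assoc, Category.assoc, hψ, hψ, ← hi,
      ← Over.comp_left, ← Over.comp_left, c.2]
  let P : Subring (Γ' → A) :=
    { carrier := {f | ∀ c, q (f c) = q (f b')}
      mul_mem' := fun hf hg c => by simp only [Pi.mul_apply, map_mul, hf c, hg c]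
      one_mem' := fun c => rfl
      add_mem' := fun hf hg c => by simp only [Pi.add_apply, map_add, hf c, hg c]
      zero_mem' := fun c => rfl
      neg_mem' := fun hf c => by simp only [Pi.neg_apply, map_neg, hf c] }
  let ev : Γ' → (P →+* A) := fun c => (Pi.evalRingHom (fun _ => A) c).comp P.subtype
  let qP : P →+* A₀ := q.comp (ev b')
  let Ψ : Γ(V.left, W) →+* P :=
    (Pi.ringHom fun c => (ψ c).hom).codRestrict P (fun x c => RingHom.congr_fun (congrArg CommRingCat.Hom.hom (hψq c)) x)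
  let cl : Spec (CommRingCat.of P) ⟶ V.left := Spec.map (CommRingCat.ofHom Ψ) ≫ hW.fromSpec
  have hev : ∀ c : Γ', Spec.map (CommRingCat.ofHom (ev c)) ≫ cl = c.1.left := fun c => by
    rw [← hψ c, ← Category.assoc, ← Spec.map_comp]
    rfl
  have hqe : ∀ c : Γ', CommRingCat.ofHom (ev c) ≫ CommRingCat.ofHom q = CommRingCat.ofHom qP := fun c => by
    apply CommRingCat.hom_ext; ext f
    exact f.2 c
  let j : Γ' → (Over.mk str ⟶ Over.mk (cl ≫ V.hom)) := fun c =>
    Over.homMk (Spec.map (CommRingCat.ofHom (ev c))) (by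
      show _ ≫ cl ≫ V.hom = str
      rw [← Category.assoc, hev]; exact Over.w c.1)
  refine ⟨P, inferInstance, qP, cl ≫ V.hom, i ≫ j b', Over.homMk cl rfl, ?_, ?_, ?_, fun c₁ hc₁ => ?_⟩
  · intro z
    obtain ⟨a, rfl⟩ := hq z
    exact ⟨⟨fun _ => a, fun _ => rfl⟩, rfl⟩
  · rw [eq_bot_iff, pow_two, Ideal.mul_le]
    intro f hf g hg
    rw [Ideal.mem_bot]
    apply Subtype.ext
    funext c
    have h1 : f.1 c * g.1 c ∈ RingHom.ker q ^ 2 := by
      rw [pow_two]
      exact Ideal.mul_mem_mul (RingHom.mem_ker.2 ((f.2 c).trans hf)) (RingHom.mem_ker.2 ((g.2 c).trans hg))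
    rwa [hsq, Ideal.mem_bot] at h1
  · rw [Over.comp_left, hi]
    show _ ≫ Spec.map _ = _
    rw [← Spec.map_comp]; rfl
  · refine ⟨j ⟨c₁, hc₁⟩, ?_, ?_⟩
    · ext : 1
      rw [Over.comp_left, Over.comp_left, hi]
      show _ ≫ Spec.map _ = _ ≫ Spec.map _
      rw [← Spec.map_comp, ← Spec.map_comp, hqe, hqe]
    · ext : 1
      exact hev ⟨c₁, hc₁⟩

end Groth.Agent.IsoNat97
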