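import Groth.Agent.IsoNat97.SmoothSec
import Groth.Agent.IsoNat97.WideThick
import Groth.Agent.IsoNat97.ShTest
import Groth.Agent.SpFP87.InfRep
import Groth.Agent.SpFP87.FpqcBase
import Groth.Agent.AlgSt88.LocalProps
import Groth.Agent.AlgSt88.DiagDescent
import Groth.Agent.AlgSt88.SepLocP
import Groth.Agent.AlgSt88.SpQProps
import Groth.Agent.AlgSt88.DiagRep
import Groth.Agent.SpPts86.LocPMore

/-! Smoothness of charts is detected by the presheaf of isomorphism classes. -/

set_option autoImplicit false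
set_option linter.unusedVariables false
set_option linter.style.haveILetI false
set_option backward.isDefEq.respectTransparency false
set_option backward.isDefEq.respectTransparency.types false
universe u

open CategoryTheory CategoryTheory.Limits AlgebraicGeometry Opposite AlgSt FibCat IsLocalRing

namespace Groth.Agent.IsoNat97

open IsoNat AlgSt88

variable {S : Scheme.{u}} {𝒳 𝒴 : AlgSt.Cat S} {U V : Over S}

theorem isFibGrpd_toOver {T : Over S} : IsFibGrpd (overCat T).p := isFibGrpd_overCat T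

/-- A chart of a slice base change, read on the slice. -/
theorem exists_fibre_space (hX : IsFibGrpd 𝒳.p) (hd : RepByAlgSp1 (diag (toSelf 𝒳))) (v : overCat V ⥤ᵇ 𝒳)
    (y : overCat U ⥤ᵇ 𝒳) :
    ∃ (F : AlgSp.Space S) (π : F.obj ⟶ (AlgSp.yon S).obj V) (e : ofSp F.obj ⥤ᵇ fp v y), IsEquivOver e ∧
      spMapOfOver (BasedFunctor.comp e (fpFst v y)) = π ∧
      ∀ Q : MorphismProperty (AlgSp.Sp S), Q π → RepSp Q (fpFst (BasedFunctor.comp (toOverCat V) v) y) := by
  let w : ofSp ((AlgSp.yon S).obj V) ⥤ᵇ 𝒳 := BasedFunctor.comp (toOverCat V) v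
  have hrep : RepByAlgSp1 y := fun T c => repByAlgSp1_of_diag hX hd (isFibGrpd_overCat U)
    (repByAlgSp_overCat T) (repByAlgSp_overCat U) c y
  obtain ⟨F, e, a, he, ha, -, -⟩ :=
    exists_rep_chart (isFibGrpd_overCat U) hX hrep (V := ⟨(AlgSp.yon S).obj V, AlgSp.IsAlgSpace.yon_obj V⟩) w
  refine ⟨F, a, BasedFunctor.comp e (fpMapFst v y (toOverCat V)),
    isEquivOver_comp he (isEquivOver_fpMapFst v y _ (isEquivOver_toOverCat V)), ?_, fun Q hQ => ⟨F, e, he, ha ▸ hQ⟩⟩
  rw [← ha, spMapOfOver_eq]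
  have hid : BasedFunctor.comp (toOverCat V) (ofOverCat V) ≅ BasedFunctor.id (ofSch V) :=
    BasedNatIso.mkNatIso
      (NatIso.ofComponents (fun a => Iso.refl _)
        (fun {a b} f => Stk.EltObj.hom_ext ((Category.comp_id _).trans (Category.id_comp _).symm)))
      (fun a => IsHomLift.id rfl)
  exact homOfBased_congr (F := F.obj) (G := (AlgSp.yon S).obj V)
    (Φ := BasedFunctor.comp (BasedFunctor.comp (BasedFunctor.comp e (fpMapFst v y (toOverCat V))) (fpFst v y)) (ofOverCat V))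
    (Ψ := BasedFunctor.comp e (fpFst (BasedFunctor.comp (toOverCat V) v) y))
    (bLeft (BasedFunctor.comp e (fpFst (BasedFunctor.comp (toOverCat V) v) y)) hid)

/-- Sections of the fibre spaces of the corresponding chart lift. -/
theorem exists_sec_lift_of_corr (hX : IsFibGrpd 𝒳.p) (hY : IsFibGrpd 𝒴.p) (φ : FIso 𝒳 𝒴)
    {x : overCat U ⥤ᵇ 𝒳} {y : overCat U ⥤ᵇ 𝒴} (hxy : φ.toEquiv U (objCls x) = objCls y) (hx : Sm x)
    {v : overCat V ⥤ᵇ 𝒴} (hv : Sm v) {F : AlgSp.Space S} {e : ofSp F.obj ⥤ᵇ fp v y} (he : IsEquivOver e)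
    {A A₀ : Type u} [CommRing A] [CommRing A₀] (q : A →+* A₀) (hq : Function.Surjective q)
    (hsq : RingHom.ker q ^ 2 = ⊥) [HenselianLocalRing A₀] [IsSepClosed (ResidueField A₀)]
    {str : Spec (CommRingCat.of A) ⟶ S} {str₀ : Spec (CommRingCat.of A₀) ⟶ S}
    (i : Over.mk str₀ ⟶ Over.mk str) (hi : i.left = Spec.map (CommRingCat.ofHom q)) (b : Over.mk str ⟶ V)
    (s₀ : (AlgSp.yon S).obj (Over.mk str₀) ⟶ F.obj)
    (hs₀ : s₀ ≫ spMapOfOver (BasedFunctor.comp e (fpFst v y)) = (AlgSp.yon S).map (i ≫ b)) :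
    ∃ s : (AlgSp.yon S).obj (Over.mk str) ⟶ F.obj, (AlgSp.yon S).map i ≫ s = s₀ ∧
      s ≫ spMapOfOver (BasedFunctor.comp e (fpFst v y)) = (AlgSp.yon S).map b := by
  obtain ⟨P, _, qP, strP, iP, c, hqP, hsqP, hiP, hfam⟩ := exists_wide_thickening q hq hsq i hi b
  exact secLift_of_lift hY he i b (fun a₀ m₀ hm₀ => lift_of_corr hX hY φ hxy v i iP b c hfam
    (liftsAt_of_secLifts hY hv (secLifts_smooth q hq hsq i hi))
    (liftsAt_of_secLifts hX hx (secLifts_smooth qP hqP hsqP iP hiP)) a₀ m₀ hm₀) s₀ hs₀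

/-- A morphism of schemes of finite presentation with liftings over strictly henselian thickenings is smooth. -/
theorem smooth_of_shLift {Z W : Scheme.{u}} (n : Z ⟶ W) [LocallyOfFinitePresentation n]
    (h : ∀ (A A₀ : Type u) [CommRing A] [CommRing A₀] (q : A →+* A₀), Function.Surjective q →
      RingHom.ker q ^ 2 = ⊥ → HenselianLocalRing A₀ → (∀ [IsLocalRing A₀], IsSepClosed (ResidueField A₀)) →
      ∀ (a : Spec (CommRingCat.of A₀) ⟶ Z) (b : Spec (CommRingCat.of A) ⟶ W),
        a ≫ n = Spec.map (CommRingCat.ofHom q) ≫ b →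
          ∃ l : Spec (CommRingCat.of A) ⟶ Z, Spec.map (CommRingCat.ofHom q) ≫ l = a ∧ l ≫ n = b) :
    Smooth n := by
  rw [HasRingHomProperty.iff_appLE (P := @Smooth)]
  intro O O' hO'
  show (n.appLE O O' hO').hom.Smooth
  letI := (n.appLE O O' hO').hom.toAlgebra
  haveI : Algebra.FinitePresentation Γ(W, O) Γ(Z, O') :=
    (HasRingHomProperty.iff_appLE (P := @LocallyOfFinitePresentation)).1 inferInstance O O' hO'
  haveI : Algebra.FormallySmooth Γ(W, O) Γ(Z, O') := by
    refine formallySmooth_of_shLift fun A A₀ _ _ _ _ q hq hsq hh hsep σ => ?_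
    haveI := hh
    haveI : IsSepClosed (ResidueField A₀) := hsep
    let aR : Γ(W, O) ⟶ CommRingCat.of A := CommRingCat.ofHom (algebraMap Γ(W, O) A)
    let σ' : Γ(Z, O') ⟶ CommRingCat.of A₀ := CommRingCat.ofHom σ.toRingHom
    have hσ : n.appLE O O' hO' ≫ σ' = aR ≫ CommRingCat.ofHom q.toRingHom := by
      apply CommRingCat.hom_ext; ext r
      exact (σ.commutes r).trans (q.commutes r).symm
    have hfs := IsAffineOpen.SpecMap_appLE_fromSpec n O.2 O'.2 hO'
    obtain ⟨l, hl₁, hl₂⟩ := h A A₀ q.toRingHom hq hsq hh (fun {_} => hsep) (Spec.map σ' ≫ O'.2.fromSpec)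
      (Spec.map aR ≫ O.2.fromSpec) (by
        rw [Category.assoc, ← hfs, ← Category.assoc, ← Spec.map_comp, hσ, Spec.map_comp, Category.assoc])
    have hr : Set.range l.base ⊆ Set.range O'.2.fromSpec.base := by
      obtain ⟨hA, hloc⟩ := isLocalHom_of_sq hq hsq
      haveI := hA
      haveI := hloc
      rintro _ ⟨p, rfl⟩
      rw [O'.2.range_fromSpec]
      have htop : l ⁻¹ᵁ O'.1 = ⊤ := by
        rw [← IsLocalRing.closed_point_mem_iff]
        show l.base (closedPoint A) ∈ O'.1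
        have h1 : l.base (closedPoint A) = (Spec.map σ' ≫ O'.2.fromSpec).base (closedPoint A₀) := by
          rw [← hl₁]
          show l.base (closedPoint A) = l.base (PrimeSpectrum.comap q.toRingHom (closedPoint A₀))
          rw [IsLocalRing.comap_closedPoint]
        rw [h1]
        exact O'.2.range_fromSpec.subset ⟨_, rfl⟩
      exact (show p ∈ l ⁻¹ᵁ O'.1 from htop ▸ trivial)
    let τ' : Γ(Z, O') ⟶ CommRingCat.of A := Spec.preimage (IsOpenImmersion.lift O'.2.fromSpec l hr)
    have hτ' : Spec.map τ' ≫ O'.2.fromSpec = l := by rw [Spec.map_preimage, IsOpenImmersion.lift_fac]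
    have h1 : n.appLE O O' hO' ≫ τ' = aR := by
      apply Spec.map_injective
      rw [← cancel_mono O.2.fromSpec, Spec.map_comp, Category.assoc, hfs, ← Category.assoc, hτ', hl₂]
    have h2 : τ' ≫ CommRingCat.ofHom q.toRingHom = σ' := by
      apply Spec.map_injective
      rw [← cancel_mono O'.2.fromSpec, Spec.map_comp, Category.assoc, hτ', hl₁]
    exact ⟨{ τ'.hom with commutes' := fun r => RingHom.congr_fun (congrArg CommRingCat.Hom.hom h1) r },
      AlgHom.ext fun z => RingHom.congr_fun (congrArg CommRingCat.Hom.hom h2) z⟩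
  exact ⟨inferInstance, inferInstance⟩

/-- The fibre space of the corresponding chart is smooth once it is locally of finite presentation. -/
theorem locP_smooth_of_corr (hX : IsFibGrpd 𝒳.p) (hY : IsFibGrpd 𝒴.p) (φ : FIso 𝒳 𝒴)
    {x : overCat U ⥤ᵇ 𝒳} {y : overCat U ⥤ᵇ 𝒴} (hxy : φ.toEquiv U (objCls x) = objCls y) (hx : Sm x)
    {v : overCat V ⥤ᵇ 𝒴} (hv : Sm v) {F : AlgSp.Space S} {e : ofSp F.obj ⥤ᵇ fp v y} (he : IsEquivOver e)
    (hlfp : AlgSp.LocP @LocallyOfFinitePresentation (spMapOfOver (BasedFunctor.comp e (fpFst v y)))) :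
    AlgSp.LocP @Smooth (spMapOfOver (BasedFunctor.comp e (fpFst v y))) := by
  obtain ⟨Z, p, hp, hps⟩ := F.property.atlas
  let π := spMapOfOver (BasedFunctor.comp e (fpFst v y))
  obtain ⟨n, hn⟩ := (AlgSp.yon S).map_surjective (p ≫ π)
  refine SpFP87.locP_of_chart (h := n) F.property.diag (AlgSp.IsAlgSpace.yon_obj V).diag hp hps
    (AlgSp.repWith_id _ V) (by rw [Category.comp_id]; exact hn.symm) ?_
  haveI : LocallyOfFinitePresentation n.left :=
    hlfp p (𝟙 _) n hp (AlgSp.repWith_id _ _) (by rw [Category.comp_id]; exact hn.symm)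
  refine smooth_of_shLift n.left fun A A₀ _ _ q hq hsq hh hsep a b hab => ?_
  haveI := hh
  haveI : IsSepClosed (ResidueField A₀) := hsep
  let str := b ≫ V.hom
  let str₀ := Spec.map (CommRingCat.ofHom q) ≫ str
  let i : Over.mk str₀ ⟶ Over.mk str := Over.homMk (Spec.map (CommRingCat.ofHom q)) rfl
  let b' : Over.mk str ⟶ V := Over.homMk b rfl
  let a' : Over.mk str₀ ⟶ Z := Over.homMk a (by
    rw [← Over.w n, ← Category.assoc, hab, Category.assoc]; rfl)
  have hs₀ : ((AlgSp.yon S).map a' ≫ p) ≫ π = (AlgSp.yon S).map (i ≫ b') := by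
    rw [Category.assoc, ← hn, ← Functor.map_comp]; congr 1; ext : 1; exact hab
  obtain ⟨s, hs₁, hs₂⟩ := exists_sec_lift_of_corr hX hY φ hxy hx hv he q hq hsq i rfl b' _ hs₀
  obtain ⟨P, hP⟩ : ∃ P, P = hp.rep.pullback s := ⟨_, rfl⟩
  -- lift along the etale chart
  let E := RingHom.quotientKerEquivOfSurjective hq
  have hE₁ : CommRingCat.ofHom (Ideal.Quotient.mk (RingHom.ker q)) ≫ CommRingCat.ofHom E.toRingHom =
      CommRingCat.ofHom q := by
    apply CommRingCat.hom_ext; ext t
    exact RingHom.quotientKerEquivOfSurjective_apply_mk hq t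
  have hE₂ : CommRingCat.ofHom q ≫ CommRingCat.ofHom E.symm.toRingHom =
      CommRingCat.ofHom (Ideal.Quotient.mk (RingHom.ker q)) := by
    apply CommRingCat.hom_ext; ext t
    exact E.symm_apply_eq.2 (RingHom.quotientKerEquivOfSurjective_apply_mk hq t).symm
  have hE₃ : CommRingCat.ofHom E.symm.toRingHom ≫ CommRingCat.ofHom E.toRingHom = 𝟙 _ := by
    apply CommRingCat.hom_ext; ext t
    exact E.apply_symm_apply t
  let j : Over.mk (Spec.map (CommRingCat.ofHom (Ideal.Quotient.mk (RingHom.ker q))) ≫ str) ⟶ Over.mk str₀ :=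
    Over.homMk (Spec.map (CommRingCat.ofHom E.symm.toRingHom)) (by
      show _ ≫ Spec.map _ ≫ str = _
      exact (Category.assoc _ _ _).symm.trans (congrArg (· ≫ str) ((Spec.map_comp _ _).symm.trans (congrArg Spec.map hE₂))))
  let sqd : AlgSp.InfSq p :=
    { A := A
      I := RingHom.ker q
      sq_zero := hsq
      str := str
      top := (AlgSp.yon S).map (j ≫ a')
      bot := s
      comm := by
        rw [Functor.map_comp, Category.assoc]
        refine (congrArg ((AlgSp.yon S).map j ≫ ·) hs₁.symm).trans ?_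
        refine (Category.assoc _ _ _).symm.trans (congrArg (· ≫ s) ?_)
        refine ((AlgSp.yon S).map_comp j i).symm.trans (congrArg (AlgSp.yon S).map ?_)
        ext : 1
        exact (Spec.map_comp _ _).symm.trans (congrArg Spec.map hE₂) }
  obtain ⟨l, hl₁, hl₂⟩ := ((SpFP87.isFormallyEtaleMor_iff p).1 (SpFP87.isFormallyEtaleMor_of_repWith_etale p hp)).1 sqd
  obtain ⟨l', rfl⟩ := (AlgSp.yon S).map_surjective l
  refine ⟨l'.left, ?_, ?_⟩
  · have h1 : sqd.j ≫ l' = j ≫ a' := (AlgSp.yon S).map_injective (by rw [Functor.map_comp]; exact hl₁)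
    have h2 : Spec.map (CommRingCat.ofHom (Ideal.Quotient.mk (RingHom.ker q))) ≫ l'.left =
        Spec.map (CommRingCat.ofHom E.symm.toRingHom) ≫ a := congrArg CommaMorphism.left h1
    calc Spec.map (CommRingCat.ofHom q) ≫ l'.left
        = Spec.map (CommRingCat.ofHom E.toRingHom) ≫
            Spec.map (CommRingCat.ofHom (Ideal.Quotient.mk (RingHom.ker q))) ≫ l'.left := by
          rw [← Category.assoc, ← Spec.map_comp, hE₁]
      _ = a := by
          rw [h2, ← Category.assoc, ← Spec.map_comp, hE₃, Spec.map_id]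
          exact Category.id_comp _
  · have h3 : l' ≫ n = b' := (AlgSp.yon S).map_injective (by
      rw [Functor.map_comp, hn, ← Category.assoc]
      exact (congrArg (· ≫ π) hl₂).trans hs₂)
    exact congrArg CommaMorphism.left h3

/-- Smoothness is detected, given local finite presentation. -/
theorem sm_of_corr (h𝒳 : IsAlgStack Scheme.fppfPrecoverage 𝒳) (h𝒴 : IsAlgStack Scheme.fppfPrecoverage 𝒴)
    (φ : FIso 𝒳 𝒴) {x : overCat U ⥤ᵇ 𝒳} {y : overCat U ⥤ᵇ 𝒴} (hxy : φ.toEquiv U (objCls x) = objCls y)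
    (hx : Sm x) (hy : RepByAlgSpWith (AlgSp.LocP @LocallyOfFinitePresentation) y) : Sm y := by
  have hX := h𝒳.isStack.1
  have hY := h𝒴.isStack.1
  obtain ⟨V, v, hv, hv'⟩ := h𝒴.atlas
  obtain ⟨F, π, e, he, hπ, hQ⟩ := exists_fibre_space hY h𝒴.diag v y
  haveI := SpFP87.flat_descendsAlong.{u}
  refine repByAlgSpWith_of_repSp_cover (isFibGrpd_overCat U) hY (stableBC_locP @Smooth)
    (fppf_local_of_fpqc SpFP87.isLocalOnBase_fpqc_locP) (repByAlgSp1_of_with hy)
    ⟨(AlgSp.yon S).obj V, AlgSp.IsAlgSpace.yon_obj V⟩ (BasedFunctor.comp (toOverCat V) v)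
    ((repByAlgSpWith_precomp_equiv (isEquivOver_toOverCat V)).2 (rep_flat_of_sm hv))
    ((repByAlgSpWith_precomp_equiv (isEquivOver_toOverCat V)).2 (rep_lfp_of_sm hv))
    ((repByAlgSpWith_precomp_equiv (isEquivOver_toOverCat V)).2 hv') (hQ _ ?_)
  rw [← hπ]
  refine locP_smooth_of_corr hX hY φ hxy hx hv he ?_
  haveI := respectsIso_locP (S := S) @LocallyOfFinitePresentation
  exact RepOver.any (hy V v) he

end Groth.Agent.IsoNat97
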