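import Groth.Agent.IsoNat97.GlueObj
import Groth.Agent.SpFP87.Cover
import Mathlib.AlgebraicGeometry.Limits

/-! An open subscheme doubled, and objects twisted by an automorphism over the overlap. -/

set_option autoImplicit false
set_option linter.unusedVariables false
set_option linter.style.haveILetI false
set_option backward.isDefEq.respectTransparency false
set_option backward.isDefEq.respectTransparency.types false
universe u

open CategoryTheory CategoryTheory.Limits AlgebraicGeometry Opposite AlgSt FibCat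

namespace Groth.Agent.IsoNat97

open AlgSt88

variable {S : Scheme.{u}}

/-- A scheme `D` covered by two copies of `C` meeting exactly in `O`. -/
structure Doubling {O C : Over S} (o : O ⟶ C) (D : Over S) where
  c : Bool → (C ⟶ D)
  isOpenImmersion : ∀ b, IsOpenImmersion (c b).left
  cover : ∀ x : D.left, ∃ b y, (c b).left y = x
  agree : o ≫ c false = o ≫ c true
  factor : ∀ {W : Over S} (q q' : W ⟶ C), q ≫ c false = q' ≫ c true → q = q' ∧ ∃ r : W ⟶ O, r ≫ o = q

theorem exists_doubling {O C : Over S} (o : O ⟶ C) [IsOpenImmersion o.left] :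
    ∃ D : Over S, Nonempty (Doubling o D) := by
  haveI : HasPushout o.left o.left := inferInstance
  let fD : pushout o.left o.left ⟶ S := pushout.desc C.hom C.hom rfl
  let D : Over S := Over.mk fD
  let i₀ : C ⟶ D := Over.homMk (pushout.inl o.left o.left) (pushout.inl_desc _ _ _)
  let i₁ : C ⟶ D := Over.homMk (pushout.inr o.left o.left) (pushout.inr_desc _ _ _)
  have h₀ : IsOpenImmersion (pushout.inl o.left o.left) :=
    inferInstanceAs (IsOpenImmersion (colimit.ι (span o.left o.left) WalkingSpan.left))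
  have h₁ : IsOpenImmersion (pushout.inr o.left o.left) :=
    inferInstanceAs (IsOpenImmersion (colimit.ι (span o.left o.left) WalkingSpan.right))
  have key : ∀ x y : C.left, pushout.inl o.left o.left x = pushout.inr o.left o.left y → x = y ∧ x ∈ Set.range o.left := by
    intro x y h
    obtain ⟨k, fi, fj, z, hx, hy⟩ := (Scheme.IsLocallyDirected.ι_eq_ι_iff (span o.left o.left)).1 h
    rcases k with _ | _ | _
    · obtain rfl := Subsingleton.elim fi WalkingSpan.Hom.fst
      obtain rfl := Subsingleton.elim fj WalkingSpan.Hom.snd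
      exact ⟨hx.symm.trans hy, z, hx⟩
    · exact nomatch (show WidePushoutShape.Hom (some WalkingPair.left) (some WalkingPair.right) from fj)
    · exact nomatch (show WidePushoutShape.Hom (some WalkingPair.right) (some WalkingPair.left) from fi)
  refine ⟨D, ⟨⟨fun b => bif b then i₁ else i₀, fun b => by cases b; exacts [h₀, h₁], fun x => ?_,
    Over.OverMorphism.ext pushout.condition, fun {W} q q' h => ?_⟩⟩⟩
  · obtain ⟨i, xi, hi⟩ := Scheme.IsLocallyDirected.ι_jointly_surjective (span o.left o.left) x
    rcases i with _ | _ | _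
    · refine ⟨false, o.left xi, ?_⟩
      rw [← hi]
      show (o.left ≫ pushout.inl o.left o.left) xi = _
      exact congrArg (fun f => f xi) (colimit.w (span o.left o.left) WalkingSpan.Hom.fst)
    · exact ⟨false, xi, hi⟩
    · exact ⟨true, xi, hi⟩
  · have h' : q.left ≫ pushout.inl o.left o.left = q'.left ≫ pushout.inr o.left o.left := congrArg CommaMorphism.left h
    have hr : Set.range q.left ⊆ Set.range o.left := by
      rintro _ ⟨w, rfl⟩
      exact (key _ (q'.left w) (congrArg (fun f => f w) h')).2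
    let r : W ⟶ O := Over.homMk (IsOpenImmersion.lift o.left q.left hr) (by
      rw [← Over.w o, IsOpenImmersion.lift_fac_assoc]; exact Over.w q)
    have hrq : r ≫ o = q := Over.OverMorphism.ext (IsOpenImmersion.lift_fac _ _ _)
    refine ⟨?_, r, hrq⟩
    refine Over.OverMorphism.ext ((cancel_mono (pushout.inr o.left o.left)).1 ?_)
    rw [← h', ← hrq, Over.comp_left, Category.assoc, Category.assoc, pushout.condition]

variable {O C D : Over S} {o : O ⟶ C}

theorem Doubling.mono (d : Doubling o D) (b : Bool) : Mono (d.c b).left := by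
  haveI := d.isOpenImmersion b
  infer_instance

/-- The covering sieve of a doubling. -/
theorem Doubling.exists_sieve (d : Doubling o D) :
    ∃ R : Sieve D, R ∈ AlgSp.J S D ∧ (∀ b, R (d.c b)) ∧
      ∀ ⦃W : Over S⦄ (g : W ⟶ D), R g → ∃ (b : Bool) (q : W ⟶ C), q ≫ d.c b = g := by
  refine ⟨Sieve.generate (Presieve.ofArrows (fun _ : Bool => C) d.c), ?_, fun b => Sieve.le_generate _ _ _ ⟨b⟩,
    fun W g hg => ?_⟩
  · rw [GrothendieckTopology.mem_over_iff, Sieve.overEquiv_generate]
    haveI : ∀ b, IsOpenImmersion (d.c b).left := d.isOpenImmersion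
    let 𝒰 : D.left.OpenCover :=
      Scheme.Cover.mkOfCovers (P := @IsOpenImmersion) Bool (fun _ => C.left) (fun b => (d.c b).left) d.cover
        d.isOpenImmersion
    refine GrothendieckTopology.superset_covering _ ?_
      (Precoverage.generate_mem_toGrothendieck (Scheme.zariskiPrecoverage_le_fppfPrecoverage _ 𝒰.mem₀))
    rw [Sieve.generate_le_iff]
    rintro Z f ⟨b⟩
    exact Sieve.le_generate _ _ _ ⟨C, d.c b, 𝟙 _, ⟨b⟩, by simp; rfl⟩
  · obtain ⟨Y, a, f, ⟨b⟩, rfl⟩ := hg
    exact ⟨b, a, rfl⟩

variable {𝒳 : AlgSt.Cat S} (Z : overCat C ⥤ᵇ 𝒳)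

/-- The isomorphism of chart objects induced by an automorphism on the overlap. -/
noncomputable def tw (α : BasedFunctor.comp (overMap o) Z ≅ BasedFunctor.comp (overMap o) Z) {W : Over S}
    (q q' : W ⟶ C) (r : W ⟶ O) (e : r ≫ o = q) (e' : r ≫ o = q') : (chObj Z q).1 ⟶ (chObj Z q').1 :=
  chMap Z (𝟙 W) ((Category.id_comp _).trans e) ≫ α.hom.toNatTrans.app (Over.mk r) ≫
    chMap Z (𝟙 W) ((Category.id_comp _).trans e'.symm)

theorem chMap_id {W : Over S} (q : W ⟶ C) (h : 𝟙 W ≫ q = q) : chMap Z (𝟙 W) h = 𝟙 _ :=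
  (congrArg Z.map (Over.OverMorphism.ext rfl)).trans (Z.map_id _)

theorem tw_eq (α : BasedFunctor.comp (overMap o) Z ≅ BasedFunctor.comp (overMap o) Z) {W : Over S} (r : W ⟶ O) :
    tw Z α (r ≫ o) (r ≫ o) r rfl rfl = α.hom.toNatTrans.app (Over.mk r) := by
  unfold tw
  rw [chMap_id]
  exact (Category.id_comp _).trans (Category.comp_id _)

theorem tw_indep [Mono o] (α : BasedFunctor.comp (overMap o) Z ≅ BasedFunctor.comp (overMap o) Z) {W : Over S}
    (q q' : W ⟶ C) (r r' : W ⟶ O) (e₁ : r ≫ o = q) (e₂ : r ≫ o = q') (e₃ : r' ≫ o = q) (e₄ : r' ≫ o = q') :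
    tw Z α q q' r e₁ e₂ = tw Z α q q' r' e₃ e₄ := by
  obtain rfl := (cancel_mono o).1 (e₁.trans e₃.symm)
  rfl

theorem exists_twisted [Mono o] (d : Doubling o D) (h𝒳 : Stk.IsStack (AlgSp.J S) 𝒳)
    (α : BasedFunctor.comp (overMap o) Z ≅ BasedFunctor.comp (overMap o) Z) :
    ∃ (x : 𝒳.p.Fiber D) (m : Bool → ((chObj Z (𝟙 C)).1 ⟶ x.1)), (∀ b, 𝒳.p.IsHomLift (d.c b) (m b)) ∧
      (α.hom.toNatTrans.app (Over.mk (𝟙 O))) ≫
          chMap Z ((Over.map o).obj (Over.mk (𝟙 O))).hom (Category.comp_id _) ≫ m true =
        chMap Z ((Over.map o).obj (Over.mk (𝟙 O))).hom (Category.comp_id _) ≫ m false := by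
  have hm : ∀ b, Mono (d.c b) := fun b => by
    haveI := d.mono b
    exact Over.mono_of_mono_left _
  have hid : ∀ {W : Over S} (b : Bool) (q q' : W ⟶ C), q ≫ d.c b = q' ≫ d.c b → q = q' := fun b q q' h => by
    haveI := hm b
    exact (cancel_mono (d.c b)).1 h
  let τ : Trans d.c (fun _ : Bool => Z) :=
    { τ := fun {W} i j q q' h => match i, j with
        | false, false => chMap Z (𝟙 W) ((Category.id_comp _).trans (hid false q q' h).symm)
        | true, true => chMap Z (𝟙 W) ((Category.id_comp _).trans (hid true q q' h).symm)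
        | false, true => tw Z α q q' (d.factor q q' h).2.choose (d.factor q q' h).2.choose_spec
            ((d.factor q q' h).2.choose_spec.trans (d.factor q q' h).1)
        | true, false => tw Z α.symm q q' (d.factor q' q h.symm).2.choose
            ((d.factor q' q h.symm).2.choose_spec.trans (d.factor q' q h.symm).1) (d.factor q' q h.symm).2.choose_spec
      lift := fun {W} i j q q' h => by
        rcases i with _ | _ <;> rcases j with _ | _
        · exact isHomLift_chMap Z _ _
        · dsimp only [tw]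
          haveI : 𝒳.p.IsHomLift (𝟙 W) (α.hom.toNatTrans.app (Over.mk (d.factor q q' h).2.choose)) :=
            α.hom.isHomLift' (Over.mk (d.factor q q' h).2.choose)
          infer_instance
        · dsimp only [tw]
          haveI : 𝒳.p.IsHomLift (𝟙 W) (α.symm.hom.toNatTrans.app (Over.mk (d.factor q' q h.symm).2.choose)) :=
            α.symm.hom.isHomLift' (Over.mk (d.factor q' q h.symm).2.choose)
          infer_instance
        · exact isHomLift_chMap Z _ _
      self := fun {W} i q => by rcases i with _ | _ <;> exact chMap_id Z q _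
      trans := fun {W} i j k qi qj qk h h' => by
        rcases i with _ | _ <;> rcases j with _ | _ <;> rcases k with _ | _
        all_goals dsimp only
        · exact chMap_comp Z _ _ _ _ _ (Category.id_comp _) _
        · obtain rfl := hid false qi qj h; rw [chMap_id, Category.id_comp]
        · obtain ⟨rfl, r, rfl⟩ := d.factor qi qj h
          obtain ⟨e, -⟩ := d.factor qk _ h'.symm
          subst e
          rw [tw_indep Z α _ _ _ r _ _ rfl rfl, tw_indep Z α.symm _ _ _ r _ _ rfl rfl, tw_eq, tw_eq, chMap_id]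
          exact congrArg (fun t => t.toNatTrans.app (Over.mk r)) α.hom_inv_id
        · obtain rfl := hid true qj qk h'; rw [chMap_id, Category.comp_id]
        · obtain rfl := hid false qj qk h'; rw [chMap_id, Category.comp_id]
        · obtain ⟨rfl, r, rfl⟩ := d.factor qj qi h.symm
          obtain ⟨e, -⟩ := d.factor _ qk h'
          subst e
          rw [tw_indep Z α _ _ _ r _ _ rfl rfl, tw_indep Z α.symm _ _ _ r _ _ rfl rfl, tw_eq, tw_eq, chMap_id]
          exact congrArg (fun t => t.toNatTrans.app (Over.mk r)) α.inv_hom_id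
        · obtain rfl := hid true qi qj h; rw [chMap_id, Category.id_comp]
        · exact chMap_comp Z _ _ _ _ _ (Category.id_comp _) _
      natural := fun {W' W} g i j qi qj qi' qj' hi hj h h' => by
        subst hi hj
        rcases i with _ | _ <;> rcases j with _ | _
        all_goals dsimp only
        · obtain rfl := hid false qi qj h
          rw [chMap_comp Z g (𝟙 W) _ _ g (Category.comp_id g) rfl, chMap_comp Z (𝟙 W') g _ _ g (Category.id_comp g) rfl]
        · obtain ⟨rfl, r, rfl⟩ := d.factor qi qj h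
          rw [tw_indep Z α _ _ _ r _ _ rfl rfl, tw_indep Z α _ _ _ (g ≫ r) _ _ (Category.assoc _ _ _) (Category.assoc _ _ _), tw_eq]
          have hn := α.hom.toNatTrans.naturality (Over.homMk g rfl : Over.mk (g ≫ r) ⟶ Over.mk r)
          have key : ∀ (q : W' ⟶ C) (e : (g ≫ r) ≫ o = q) (h1 : g ≫ r ≫ o = q),
              chMap Z g h1 ≫ α.hom.toNatTrans.app (Over.mk r) = tw Z α q q (g ≫ r) e e ≫ chMap Z g h1 := by
            intro q e h1
            subst e
            rw [tw_eq]
            exact hn
          exact key _ _ _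
        · obtain ⟨rfl, r, rfl⟩ := d.factor qj qi h.symm
          rw [tw_indep Z α.symm _ _ _ r _ _ rfl rfl, tw_indep Z α.symm _ _ _ (g ≫ r) _ _ (Category.assoc _ _ _) (Category.assoc _ _ _), tw_eq]
          have hn := α.symm.hom.toNatTrans.naturality (Over.homMk g rfl : Over.mk (g ≫ r) ⟶ Over.mk r)
          have key : ∀ (q : W' ⟶ C) (e : (g ≫ r) ≫ o = q) (h1 : g ≫ r ≫ o = q),
              chMap Z g h1 ≫ α.symm.hom.toNatTrans.app (Over.mk r) = tw Z α.symm q q (g ≫ r) e e ≫ chMap Z g h1 := by
            intro q e h1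
            subst e
            rw [tw_eq]
            exact hn
          exact key _ _ _
        · obtain rfl := hid true qi qj h
          rw [chMap_comp Z g (𝟙 W) _ _ g (Category.comp_id g) rfl, chMap_comp Z (𝟙 W') g _ _ g (Category.id_comp g) rfl] }
  obtain ⟨R, hR, hc, hfac⟩ := d.exists_sieve
  obtain ⟨x, m, hm', hcomp⟩ := exists_glue_trans (AlgSp.J S) h𝒳 τ R hR hc hfac
  refine ⟨x, m, hm', ?_⟩
  have hq : (𝟙 O ≫ o) ≫ d.c false = (𝟙 O ≫ o) ≫ d.c true := by rw [Category.assoc, Category.assoc, d.agree]
  have h1 := hcomp (W := O) false true (𝟙 O ≫ o) (𝟙 O ≫ o) hq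
  change tw Z α (𝟙 O ≫ o) (𝟙 O ≫ o) (d.factor _ _ hq).2.choose (d.factor _ _ hq).2.choose_spec
    ((d.factor _ _ hq).2.choose_spec.trans (d.factor _ _ hq).1) ≫ _ = _ at h1
  rw [tw_indep Z α _ _ _ (𝟙 O) _ _ rfl rfl, tw_eq] at h1
  exact h1

end Groth.Agent.IsoNat97
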