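import Mathlib.AlgebraicGeometry.Morphisms.FinitePresentation
import Mathlib.RingTheory.FinitePresentation

/-! Retracts of morphisms locally of finite presentation. -/

set_option autoImplicit false
set_option linter.style.haveILetI false
universe u

open CategoryTheory AlgebraicGeometry

namespace Groth.Agent.IsoNat97

theorem finitePresentation_of_retract {R B C : Type u} [CommRing R] [CommRing B] [CommRing C] [Algebra R B]
    [Algebra R C] [Algebra.FinitePresentation R C] (i : B →ₐ[R] C) (p : C →ₐ[R] B)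
    (h : p.comp i = AlgHom.id R B) : Algebra.FinitePresentation R B := by
  have hpi : ∀ b, p (i b) = b := fun b => DFunLike.congr_fun h b
  obtain ⟨t, ht⟩ := Algebra.FiniteType.out (R := R) (A := C)
  let J : Ideal C := Ideal.span ((fun c => c - i (p c)) '' (t : Set C))
  classical
  refine Algebra.FinitePresentation.of_surjective (f := p) (fun b => ⟨i b, hpi b⟩)
    ⟨t.image fun c => c - i (p c), ?_⟩
  · rw [Finset.coe_image]
    show J = RingHom.ker p.toRingHom
    refine le_antisymm (Ideal.span_le.2 ?_) fun x hx => ?_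
    · rintro _ ⟨c, -, rfl⟩
      show p (c - i (p c)) = 0
      rw [map_sub, hpi, sub_self]
    · have hx' : p x = 0 := hx
      have he : (Ideal.Quotient.mkₐ R J).comp (i.comp p) = Ideal.Quotient.mkₐ R J :=
        AlgHom.ext_of_adjoin_eq_top ht fun c hc =>
          (Ideal.Quotient.eq.2 (Ideal.subset_span (Set.mem_image_of_mem (fun c => c - i (p c)) hc))).symm
      have := DFunLike.congr_fun he x
      rw [AlgHom.comp_apply, AlgHom.comp_apply, hx', map_zero, map_zero] at this
      exact Ideal.Quotient.eq_zero_iff_mem.1 this.symm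

theorem appLE_of_eq_id {Z : Scheme.{u}} (g : Z ⟶ Z) (hg : g = 𝟙 Z) (U : Z.Opens) (e : U ≤ g ⁻¹ᵁ U) (b : Γ(Z, U)) :
    g.appLE U U e b = b := by
  subst hg
  exact RingHom.congr_fun (congrArg CommRingCat.Hom.hom (Z.presheaf.map_id (Opposite.op U))) b

/-- A retract of a morphism locally of finite presentation is locally of finite presentation. -/
theorem lfp_of_retract {Z P W : Scheme.{u}} (n : Z ⟶ W) (s : Z ⟶ P) (r : P ⟶ Z) (hsr : s ≫ r = 𝟙 Z)
    [LocallyOfFinitePresentation (r ≫ n)] : LocallyOfFinitePresentation n := by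
  have key : ∀ z : Z, ∃ (U : W.affineOpens) (V : Z.affineOpens) (_ : z ∈ V.1) (e : V.1 ≤ n ⁻¹ᵁ U.1),
      (n.appLE U V e).hom.FinitePresentation := fun z => by
    obtain ⟨O, hO, hzO, -⟩ := exists_isAffineOpen_mem_and_subset (U := (⊤ : W.Opens)) (x := n z) trivial
    obtain ⟨B, hB, hzB, hBO⟩ := exists_isAffineOpen_mem_and_subset (U := n ⁻¹ᵁ O) (x := z) hzO
    have hrs : r (s z) = z := by rw [← Scheme.Hom.comp_apply, hsr]; rfl
    obtain ⟨C, hC, hzC, hCB⟩ := exists_isAffineOpen_mem_and_subset (U := r ⁻¹ᵁ B) (x := s z)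
      (show r (s z) ∈ B by rw [hrs]; exact hzB)
    obtain ⟨f, hf, hzf⟩ := hB.exists_basicOpen_le (V := B ⊓ s ⁻¹ᵁ C) ⟨z, hzB, hzC⟩ hzB
    let B' := Z.basicOpen f
    let C' := P.basicOpen (r.appLE B C hCB f)
    have hC' : IsAffineOpen C' := hC.basicOpen _
    have hB' : IsAffineOpen B' := hB.basicOpen f
    have eC : C' = C ⊓ r ⁻¹ᵁ B' := Scheme.basicOpen_appLE r C B hCB f
    have h1 : C' ≤ r ⁻¹ᵁ B' := eC.le.trans inf_le_right
    have h2 : B' ≤ s ⁻¹ᵁ C' := by
      rw [eC]
      intro x hx
      refine ⟨(hf hx).2, ?_⟩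
      show r (s x) ∈ B'
      rw [← Scheme.Hom.comp_apply, hsr]; exact hx
    have e : B' ≤ n ⁻¹ᵁ O := (Z.basicOpen_le f).trans hBO
    refine ⟨⟨O, hO⟩, ⟨B', hB'⟩, hzf, e, ?_⟩
    have e2 : C' ≤ (r ≫ n) ⁻¹ᵁ O := h1.trans (fun x hx => e hx)
    have hfp := (HasRingHomProperty.iff_appLE (P := @LocallyOfFinitePresentation)).1
      (inferInstanceAs (LocallyOfFinitePresentation (r ≫ n))) ⟨O, hO⟩ ⟨C', hC'⟩ e2
    algebraize [(n.appLE O B' e).hom, ((r ≫ n).appLE O C' e2).hom]
    let i : Γ(Z, B') →ₐ[Γ(W, O)] Γ(P, C') :=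
      { (r.appLE B' C' h1).hom with
        commutes' := fun a => RingHom.congr_fun (congrArg CommRingCat.Hom.hom
          (Scheme.Hom.appLE_comp_appLE r n O B' C' e h1)) a }
    let p : Γ(P, C') →ₐ[Γ(W, O)] Γ(Z, B') :=
      { (s.appLE C' B' h2).hom with
        commutes' := fun a => by
          have h := Scheme.Hom.appLE_comp_appLE s (r ≫ n) O C' B' e2 h2
          simp only [← Category.assoc, hsr, Category.id_comp] at h
          exact RingHom.congr_fun (congrArg CommRingCat.Hom.hom h) a }
    haveI : Algebra.FinitePresentation Γ(W, O) Γ(P, C') := hfp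
    exact finitePresentation_of_retract i p (AlgHom.ext fun b => by
      have h := Scheme.Hom.appLE_comp_appLE s r B' C' B' h1 h2
      exact (RingHom.congr_fun (congrArg CommRingCat.Hom.hom h) b).trans (appLE_of_eq_id (s ≫ r) hsr B' _ b))
  exact (HasRingHomProperty.iff_exists_appLE (P := @LocallyOfFinitePresentation)
    (RingHom.finitePresentation_stableUnderComposition.stableUnderCompositionWithLocalizationAway
      RingHom.finitePresentation_holdsForLocalizationAway).left).2 key

end Groth.Agent.IsoNat97
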