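import Groth.Agent.IsoNat97.SecCalc
import Groth.Agent.IsoNat97.RetractLFP
import Groth.Agent.IsoNat97.Detect
import Groth.Agent.AlgSt88.Inertia

/-! Local finite presentation of charts is detected by the presheaf of isomorphism classes. -/

set_option autoImplicit false
set_option maxHeartbeats 1000000
set_option linter.unusedVariables false
set_option linter.style.haveILetI false
set_option backward.isDefEq.respectTransparency false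
set_option backward.isDefEq.respectTransparency.types false
universe u

open CategoryTheory CategoryTheory.Limits AlgebraicGeometry Opposite AlgSt FibCat

namespace Groth.Agent.IsoNat97

open IsoNat AlgSt88

variable {S : Scheme.{u}} {𝒳 𝒴 : AlgSt.Cat S} {U V : Over S}

/-- A point of a space lifts to an atlas after an etale cover. -/
theorem exists_cover_lift {W T : Over S} {F : AlgSp.Sp S} {p : (AlgSp.yon S).obj W ⟶ F}
    (hp : AlgSp.RepWith @Etale p) (hps : AlgSp.RepWith @Surjective p) (s : (AlgSp.yon S).obj T ⟶ F) :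
    ∃ (T' : Over S) (c : T' ⟶ T) (w : T' ⟶ W), Etale c.left ∧ Surjective c.left ∧
      (AlgSp.yon S).map w ≫ p = (AlgSp.yon S).map c ≫ s := by
  obtain ⟨w, hw⟩ := (AlgSp.yon S).map_surjective (hp.rep.fst s)
  refine ⟨hp.rep.pullback s, hp.rep.snd s, w, hp.property_snd s, hps.property _ _ _ (hp.rep.isPullback s), ?_⟩
  rw [hw]; exact (hp.rep.isPullback s).w

/-- Local finite presentation of the fibre space of the corresponding chart. -/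
theorem locP_lfp_of_corr (hX : IsFibGrpd 𝒳.p) (hY : IsFibGrpd 𝒴.p) (φ : FIso 𝒳 𝒴)
    {x : overCat U ⥤ᵇ 𝒳} {y : overCat U ⥤ᵇ 𝒴} (hxy : φ.toEquiv U (objCls x) = objCls y)
    (hfp : RepByAlgSpWith (AlgSp.LocP @LocallyOfFinitePresentation) x)
    (hI : RepByAlgSpWith (AlgSp.LocP @LocallyOfFinitePresentation) (inertiaToBase (toSelf 𝒴)))
    {v : overCat V ⥤ᵇ 𝒴} {F : AlgSp.Space S} {e : ofSp F.obj ⥤ᵇ fp v y} (he : IsEquivOver e) :
    AlgSp.LocP @LocallyOfFinitePresentation (spMapOfOver (BasedFunctor.comp e (fpFst v y))) := by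
  let π := spMapOfOver (BasedFunctor.comp e (fpFst v y))
  have hP : IsFibGrpd (fp v y).p := isFibGrpd_fp (isFibGrpd_overCat V) (isFibGrpd_overCat U) hY v y
  obtain ⟨v', hv'⟩ := exists_corr hX (symm hX hY φ) v
  have hcls : ∀ {T : Over S} (b : T ⟶ V) (a : T ⟶ U),
      cls (chObj v' b) = cls (chObj x a) ↔ cls (chObj v b) = cls (chObj y a) := fun {T} b a => by
    have h1 : (φ.toEquiv T).symm (cls (chObj v b)) = cls (chObj v' b) := corr_chObj hX (symm hX hY φ) hv' b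
    rw [← h1, ← corr_chObj hY φ hxy a, Equiv.symm_apply_eq]
  -- the chart of the fibre space on the side of `x`
  obtain ⟨F₁, e₁, he₁, hπ₁⟩ := hfp V v'
  obtain ⟨W₀, w₀, hw₀, hw₀s⟩ := F₁.property.atlas
  obtain ⟨b, a, θ₁, hθ₁, k₁, hk₁⟩ := exists_mkObj (e := e₁) hX w₀
  haveI := hθ₁
  haveI hblfp : LocallyOfFinitePresentation b.left :=
    hπ₁ w₀ (𝟙 _) b hw₀ (AlgSp.repWith_id _ _) (by rw [Category.comp_id]; exact mk_proj hX w₀ k₁ hk₁)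
  haveI := fg_isIso_of_lift_id hX θ₁ W₀
  have hclsW : cls (chObj v b) = cls (chObj y a) :=
    (hcls b a).1 (cls_eq_iff.2 ⟨Fib44.fiberIso (asIso θ₁) hθ₁ (chObj v' b).2 (chObj x a).2⟩)
  obtain ⟨Θ⟩ := cls_eq_iff.1 hclsW
  let θw : (chObj v b).1 ⟶ (chObj y a).1 := Θ.hom.1
  have hθw : 𝒴.p.IsHomLift (𝟙 W₀) θw := Θ.hom.2
  -- the inertia over it
  let c₀ : overCat W₀ ⥤ᵇ 𝒴 := BasedFunctor.comp (overMap b) v
  obtain ⟨G, eG, heG, hπG⟩ := hI W₀ c₀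
  obtain ⟨H₀, q₀, hq₀, hq₀s⟩ := G.property.atlas
  obtain ⟨h, σH, hσH, kH, hkH⟩ := exists_mkInert (e := eG) hY q₀
  haveI hhlfp : LocallyOfFinitePresentation h.left :=
    hπG q₀ (𝟙 _) h hq₀ (AlgSp.repWith_id _ _) (by
      rw [Category.comp_id]
      exact (sec_proj eG q₀ (mkInert hY c₀ h σH hσH) rfl kH hkH).trans (congrArg _ (Category.id_comp h)))
  -- the chart of the fibre space
  obtain ⟨Z, p, hp, hps⟩ := F.property.atlas
  obtain ⟨bz, az, θz, hθz, kz, hkz⟩ := exists_mkObj (e := e) hY p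
  haveI := hθz
  haveI := fg_isIso_of_lift_id hY θz Z
  have hclsZ : cls (chObj v' bz) = cls (chObj x az) :=
    (hcls bz az).2 (cls_eq_iff.2 ⟨Fib44.fiberIso (asIso θz) hθz (chObj v bz).2 (chObj y az).2⟩)
  obtain ⟨Θ'⟩ := cls_eq_iff.1 hclsZ
  obtain ⟨t, kt, hkt⟩ := exists_sec he₁ (T := Z) (mkObj hX x bz az Θ'.hom.1 Θ'.hom.2) rfl
  obtain ⟨Z₃, c₃, w, hc₃, hc₃s, hw⟩ := exists_cover_lift hw₀ hw₀s t
  obtain ⟨b₃, a₃, θ₃, hθ₃, k₃, hk₃⟩ := exists_mkObj (e := e₁) hX ((AlgSp.yon S).map c₃ ≫ t)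
  obtain ⟨hb₃, ha₃, -⟩ := mk_natural hX rfl kt hkt k₃ hk₃
  obtain ⟨hb₃', ha₃', -⟩ := mk_natural hX hw k₁ hk₁ k₃ hk₃
  have hbw : c₃ ≫ bz = w ≫ b := hb₃.trans hb₃'.symm
  have haw : c₃ ≫ az = w ≫ a := ha₃.trans ha₃'.symm
  -- the automorphism comparing the two isomorphisms
  obtain ⟨θz₃, hθz₃, ez₃⟩ := exists_restrict hY (c := v) (x := y) c₃ hbw haw θz hθz
  obtain ⟨θw₃, hθw₃, ew₃⟩ := exists_restrict hY (c := v) (x := y) w (rfl : w ≫ b = _) (rfl : w ≫ a = _) θw hθw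
  haveI := hθz₃
  haveI := hθw₃
  haveI := fg_isIso_of_lift_id hY θw₃ Z₃
  let σ₃ : (chObj c₀ w).1 ⟶ (chObj c₀ w).1 := θz₃ ≫ inv θw₃
  haveI hσ₃ : 𝒴.p.IsHomLift (𝟙 Z₃) σ₃ := by dsimp only [σ₃]; infer_instance
  obtain ⟨g₃, kg, hkg⟩ := exists_sec heG (T := Z₃) (mkInert hY c₀ w σ₃ hσ₃) rfl
  obtain ⟨Z₄, c₄, l, hc₄, hc₄s, hl⟩ := exists_cover_lift hq₀ hq₀s g₃
  obtain ⟨h₄, σ₄, hσ₄, k₄, hk₄⟩ := exists_mkInert (e := eG) hY ((AlgSp.yon S).map c₄ ≫ g₃)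
  have hPG : IsFibGrpd (fp c₀ (inertiaToBase (toSelf 𝒴))).p :=
    isFibGrpd_fp (isFibGrpd_overCat W₀) (AlgSt88.isFibGrpd_inertia hY isFibGrpd_selfOver (toSelf 𝒴)) hY c₀ _
  obtain ⟨hh₄, eσ₄⟩ := inert_natural hY hPG rfl kg hkg k₄ hk₄
  obtain ⟨hlh, eσl⟩ := inert_natural hY hPG hl kH hkH k₄ hk₄
  -- the universal point
  obtain ⟨θwH, hθwH, ewH⟩ := exists_restrict hY (c := v) (x := y) h (rfl : h ≫ b = _) (rfl : h ≫ a = _) θw hθw
  haveI := hσH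
  haveI := hθwH
  let θH : (chObj v (h ≫ b)).1 ⟶ (chObj y (h ≫ a)).1 := σH ≫ θwH
  haveI hθH : 𝒴.p.IsHomLift (𝟙 H₀) θH := by dsimp only [θH]; infer_instance
  obtain ⟨sH, ksH, hksH⟩ := exists_sec he (T := H₀) (mkObj hY y (h ≫ b) (h ≫ a) θH hθH) rfl
  obtain ⟨θw₄, hθw₄, ew₄⟩ := exists_restrict hY (c := v) (x := y) h₄ (rfl : h₄ ≫ b = _) (rfl : h₄ ≫ a = _) θw hθw
  have hb4 : c₄ ≫ (w ≫ b) = h₄ ≫ b := by rw [← Category.assoc, hh₄]
  have ha4 : c₄ ≫ (w ≫ a) = h₄ ≫ a := by rw [← Category.assoc, hh₄]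
  have hbl : l ≫ (h ≫ b) = h₄ ≫ b := by rw [← Category.assoc, hlh]
  have hal : l ≫ (h ≫ a) = h₄ ≫ a := by rw [← Category.assoc, hlh]
  have e4 : θw₄ ≫ chMap y c₄ ha4 = chMap v c₄ hb4 ≫ θw₃ :=
    restrict_trans hY hh₄ rfl rfl rfl rfl hb4 ha4 hθw₃ hθw₄ ew₃ ew₄
  have el : θw₄ ≫ chMap y l hal = chMap v l hbl ≫ θwH :=
    restrict_trans hY hlh rfl rfl rfl rfl hbl hal hθwH hθw₄ ewH ew₄
  let σ₄' : (chObj v (h₄ ≫ b)).1 ⟶ (chObj v (h₄ ≫ b)).1 := σ₄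
  let σH' : (chObj v (h ≫ b)).1 ⟶ (chObj v (h ≫ b)).1 := σH
  let σ₃' : (chObj v (w ≫ b)).1 ⟶ (chObj v (w ≫ b)).1 := σ₃
  have hvc : ∀ {T' T : Over S} (g : T' ⟶ T) {h' : T' ⟶ W₀} {h₁ : T ⟶ W₀} (hg : g ≫ h₁ = h')
      (hg' : g ≫ (h₁ ≫ b) = h' ≫ b), chMap c₀ g hg = chMap v g hg' := fun g _ _ hg hg' => rfl
  have e4σ : σ₄' ≫ chMap v c₄ hb4 = chMap v c₄ hb4 ≫ σ₃' := eσ₄
  have elσ : σ₄' ≫ chMap v l hbl = chMap v l hbl ≫ σH' := eσl
  let θ₄ : (chObj v (h₄ ≫ b)).1 ⟶ (chObj y (h₄ ≫ a)).1 := σ₄' ≫ θw₄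
  haveI : 𝒴.p.IsHomLift (𝟙 Z₄) σ₄' := hσ₄
  haveI := hθw₄
  haveI hθ₄ : 𝒴.p.IsHomLift (𝟙 Z₄) θ₄ := by dsimp only [θ₄]; infer_instance
  obtain ⟨s₄, ks₄, hks₄⟩ := exists_sec he (T := Z₄) (mkObj hY y (h₄ ≫ b) (h₄ ≫ a) θ₄ hθ₄) rfl
  obtain ⟨mH, hmH⟩ := exists_mkHom hY l hbl hal hθH hθ₄ (by
    show (σ₄' ≫ θw₄) ≫ chMap y l hal = chMap v l hbl ≫ σH' ≫ θwH
    rw [Category.assoc, el, ← Category.assoc, elσ, Category.assoc])
  have hsH : (AlgSp.yon S).map l ≫ sH = s₄ := sec_eq he hP l ks₄ hks₄ ksH hksH mH hmH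
  let c : Z₄ ⟶ Z := c₄ ≫ c₃
  have hbc : c ≫ bz = h₄ ≫ b := by rw [← hb4, ← hbw, Category.assoc]
  have hac : c ≫ az = h₄ ≫ a := by rw [← ha4, ← haw, Category.assoc]
  obtain ⟨mz, hmz⟩ := exists_mkHom hY c hbc hac hθz hθ₄ (by
    rw [← chMap_comp y c₄ c₃ ha4 haw c rfl hac, ← chMap_comp v c₄ c₃ hb4 hbw c rfl hbc,
      Category.assoc (chMap v c₄ hb4), ← ez₃, ← Category.assoc, ← Category.assoc (chMap v c₄ hb4)]
    congr 1
    show (σ₄' ≫ θw₄) ≫ chMap y c₄ ha4 = chMap v c₄ hb4 ≫ θz₃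
    rw [Category.assoc, e4, ← Category.assoc, e4σ, Category.assoc]
    congr 1
    show (θz₃ ≫ inv θw₃) ≫ θw₃ = θz₃
    rw [Category.assoc, IsIso.inv_hom_id, Category.comp_id])
  have hsz : (AlgSp.yon S).map c ≫ p = s₄ := sec_eq he hP c ks₄ hks₄ kz hkz mz hmz
  -- `Z₄` is a retract of a scheme locally of finite presentation over `V`
  haveI := hc₄
  haveI := hc₄s
  haveI := hc₃
  haveI := hc₃s
  let p' : (AlgSp.yon S).obj Z₄ ⟶ F.obj := (AlgSp.yon S).map c ≫ p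
  have hp' : AlgSp.RepWith @Etale p' :=
    MorphismProperty.comp_mem (W := AlgSp.RepWith @Etale) _ _
      ((AlgSp.repWith_yon_map_iff @Etale c).2 (inferInstanceAs (Etale (c₄.left ≫ c₃.left)))) hp
  have hps' : AlgSp.RepWith @Surjective p' :=
    MorphismProperty.comp_mem (W := AlgSp.RepWith @Surjective) _ _
      ((AlgSp.repWith_yon_map_iff @Surjective c).2 (inferInstanceAs (Surjective (c₄.left ≫ c₃.left)))) hps
  obtain ⟨r, hr⟩ := (AlgSp.yon S).map_surjective (hp'.rep.fst sH)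
  obtain ⟨sec, hsec⟩ := (AlgSp.yon S).map_surjective
    ((hp'.rep.isPullback sH).lift (𝟙 _) ((AlgSp.yon S).map l) (by rw [Category.id_comp, hsH]; exact hsz))
  have hsr : sec ≫ r = 𝟙 Z₄ := (AlgSp.yon S).map_injective (by
    rw [Functor.map_comp, hsec, hr, CategoryTheory.Functor.map_id]
    exact (hp'.rep.isPullback sH).lift_fst _ _ _)
  have hπ₄ : p' ≫ π = (AlgSp.yon S).map (h₄ ≫ b) := by
    rw [show p' = s₄ from hsz]
    exact mk_proj hY s₄ ks₄ hks₄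
  have hrn : r ≫ (h₄ ≫ b) = hp'.rep.snd sH ≫ (h ≫ b) := (AlgSp.yon S).map_injective (by
    rw [Functor.map_comp, ← hπ₄, Functor.map_comp, ← mk_proj hY sH ksH hksH, ← Category.assoc, hr,
      (hp'.rep.isPullback sH).w, Category.assoc])
  refine SpFP87.locP_of_chart (h := h₄ ≫ b) F.property.diag (AlgSp.IsAlgSpace.yon_obj V).diag hp' hps'
    (AlgSp.repWith_id _ V) (by rw [Category.comp_id]; exact hπ₄) ?_
  haveI : Etale (hp'.rep.snd sH).left := hp'.property_snd sH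
  haveI : LocallyOfFinitePresentation (r.left ≫ (h₄ ≫ b).left) := by
    rw [show r.left ≫ (h₄ ≫ b).left = (hp'.rep.snd sH).left ≫ h.left ≫ b.left from congrArg CommaMorphism.left hrn]
    infer_instance
  exact lfp_of_retract (h₄ ≫ b).left sec.left r.left (congrArg CommaMorphism.left hsr)

/-- Local finite presentation is detected. -/
theorem lfp_of_corr (h𝒳 : IsAlgStack Scheme.fppfPrecoverage 𝒳) (h𝒴 : IsAlgStack Scheme.fppfPrecoverage 𝒴)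
    (hI : RepByAlgSpWith (AlgSp.LocP @LocallyOfFinitePresentation) (inertiaToBase (toSelf 𝒴)))
    (φ : FIso 𝒳 𝒴) {x : overCat U ⥤ᵇ 𝒳} {y : overCat U ⥤ᵇ 𝒴} (hxy : φ.toEquiv U (objCls x) = objCls y)
    (hfp : RepByAlgSpWith (AlgSp.LocP @LocallyOfFinitePresentation) x) :
    RepByAlgSpWith (AlgSp.LocP @LocallyOfFinitePresentation) y := by
  have hX := h𝒳.isStack.1
  have hY := h𝒴.isStack.1
  intro T c
  obtain ⟨F, e, he⟩ := repByAlgSp1_of_diag hY h𝒴.diag (isFibGrpd_overCat U) (repByAlgSp_overCat T)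
    (repByAlgSp_overCat U) c y
  exact ⟨F, e, he, locP_lfp_of_corr hX hY φ hxy hfp hI he⟩

end Groth.Agent.IsoNat97
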