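import Groth.Agent.IsoNat97.Unr
import Groth.Agent.IsoNat97.LfpDetect
import Groth.Agent.AlgSt88.SpaceDM
import Groth.Agent.SpFP87.EtaleMor

/-! Etale charts are detected by the presheaf of isomorphism classes. -/

set_option autoImplicit false
set_option linter.unusedVariables false
set_option linter.style.haveILetI false
set_option backward.isDefEq.respectTransparency false
set_option backward.isDefEq.respectTransparency.types false
universe u

open CategoryTheory CategoryTheory.Limits AlgebraicGeometry Opposite AlgSt FibCat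

namespace Groth.Agent.IsoNat97

open AlgSt88 IsoNat

variable {S : Scheme.{u}} {𝒳 𝒴 : AlgSt.Cat S} {U : Over S}

theorem sm_of_etaleMor {f : 𝒳 ⥤ᵇ 𝒴} (h : RepByAlgSpWith AlgSp.IsEtaleMor f) : Sm f :=
  repByAlgSpWith_mono_spaces (fun _ _ hX hY a ha =>
    SpFP87.LocP.of_le (fun _ _ g (hg : Etale g) => (inferInstance : Smooth g))
      ((SpFP87.isEtaleMor_iff_locP a hX hY).1 ha)) h

theorem unr_of_etaleMor {f : 𝒳 ⥤ᵇ 𝒴} (h : RepByAlgSpWith AlgSp.IsEtaleMor f) :
    RepByAlgSpWith (AlgSp.LocP (@LocallyOfFiniteType ⊓ @FormallyUnramified)) f :=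
  repByAlgSpWith_mono_spaces (fun _ _ hX hY a ha =>
    SpFP87.LocP.of_le (fun _ _ g (hg : Etale g) => ⟨(inferInstance : LocallyOfFiniteType g), (inferInstance : FormallyUnramified g)⟩)
      ((SpFP87.isEtaleMor_iff_locP a hX hY).1 ha)) h

theorem etaleMor_of_sm_unr {f : 𝒳 ⥤ᵇ 𝒴} (h : Sm f)
    (h' : RepByAlgSpWith (AlgSp.LocP (@LocallyOfFiniteType ⊓ @FormallyUnramified)) f) :
    RepByAlgSpWith AlgSp.IsEtaleMor f := by
  haveI := respectsIso_locP (S := S) @Smooth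
  refine repByAlgSpWith_mono_spaces (fun _ _ hX hY a ha =>
    (SpFP87.isEtaleMor_iff_locP a hX hY).2 fun U' V' a' b' g ha' hb' w => ?_) (repByAlgSpWith_inf h h')
  haveI : Smooth g.left := ha.1 a' b' g ha' hb' w
  haveI : FormallyUnramified g.left := (ha.2 a' b' g ha' hb' w).2
  exact Etale.of_formallyUnramified_of_flat _

/-- Etale charts correspond. -/
theorem et_detect (h𝒳 : IsAlgStack Scheme.fppfPrecoverage 𝒳) (h𝒴 : IsAlgStack Scheme.fppfPrecoverage 𝒴)
    (hIX : RepByAlgSpWith (AlgSp.LocP @LocallyOfFinitePresentation) (inertiaToBase (toSelf 𝒳)))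
    (hIY : RepByAlgSpWith (AlgSp.LocP @LocallyOfFinitePresentation) (inertiaToBase (toSelf 𝒴))) (φ : FIso 𝒳 𝒴)
    {x : overCat U ⥤ᵇ 𝒳} {y : overCat U ⥤ᵇ 𝒴} (hxy : φ.toEquiv U (objCls x) = objCls y)
    (hfp : RepByAlgSpWith (AlgSp.LocP @LocallyOfFinitePresentation) x)
    (hx : RepByAlgSpWith AlgSp.IsEtaleMor x) :
    RepByAlgSpWith (AlgSp.LocP @LocallyOfFinitePresentation) y ∧ RepByAlgSpWith AlgSp.IsEtaleMor y := by
  have hlfp := lfp_of_corr h𝒳 h𝒴 hIY φ hxy hfp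
  exact ⟨hlfp, etaleMor_of_sm_unr (sm_of_corr h𝒳 h𝒴 φ hxy (sm_of_etaleMor hx) hlfp)
    (unr_of_corr h𝒳 h𝒴 (repByAlgSp1_of_with hIX) (repByAlgSp1_of_with hIY) φ hxy (unr_of_etaleMor hx) hlfp)⟩

end Groth.Agent.IsoNat97
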