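import Groth.Agent.IsoNat97.LfpDetect
import Groth.Agent.AlgSt88.PointsCmp
import Groth.Agent.S12851
import Groth.Agent.S10549

/-! Transfer of chart properties along isomorphisms of presheaves of isomorphism classes. -/

set_option autoImplicit false
set_option linter.unusedVariables false
set_option linter.style.haveILetI false
set_option backward.isDefEq.respectTransparency false
set_option backward.isDefEq.respectTransparency.types false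
universe u

open CategoryTheory CategoryTheory.Limits AlgebraicGeometry Opposite AlgSt FibCat

namespace Groth.Agent.IsoNat97

open IsoNat AlgSt88

variable {S : Scheme.{u}} {𝒳 𝒴 𝒳' 𝒴' : AlgSt.Cat S} {U V : Over S}

theorem mapCls_cls (f : 𝒳 ⥤ᵇ 𝒴) {T : Over S} (x : 𝒳.p.Fiber T) :
    mapCls f T (cls x) = cls ((fibFun f T).obj x) := rfl

theorem corr_comp {f : 𝒳 ⥤ᵇ 𝒴} {f' : 𝒳' ⥤ᵇ 𝒴'} (φ : FIsoSq f f') {x : overCat U ⥤ᵇ 𝒳} {x' : overCat U ⥤ᵇ 𝒳'}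
    (h : φ.src.toEquiv U (objCls x) = objCls x') :
    φ.tgt.toEquiv U (objCls (BasedFunctor.comp x f)) = objCls (BasedFunctor.comp x' f') := by
  refine (φ.comm U (objCls x)).trans ?_
  rw [h]
  rfl

/-- Charts with the same class are isomorphic. -/
theorem nonempty_iso_of_objCls (hX : IsFibGrpd 𝒳.p) {x y : overCat U ⥤ᵇ 𝒳} (h : objCls x = objCls y) :
    Nonempty (x ≅ y) := by
  obtain ⟨e⟩ := cls_eq_iff.1 h
  haveI : 𝒳.p.IsHomLift (𝟙 U) e.hom.1 := e.hom.2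
  haveI := fg_isIso_of_lift_id hX e.hom.1 U
  obtain ⟨α, hα⟩ := Fib44.exists_natTrans_at_id (G := x) (Fib44.cartAtId_of_fibGrpd hX y) e.hom.1
  haveI : IsIso (α.toNatTrans.app (Fib44.idObj U)) := by rw [hα]; infer_instance
  haveI := Fib44.isIso_natTrans_at_id (Fib44.cartAtId_of_fibGrpd hX x) (Fib44.cartAtId_of_fibGrpd hX y) α
  exact ⟨asIso α⟩

theorem objCls_congr {x y : overCat U ⥤ᵇ 𝒳} (α : x ≅ y) : objCls x = objCls y :=
  cls_eq_iff.2 ⟨Fib44.fiberIso (((BasedNatTrans.forgetful _ _).mapIso α).app (Fib44.idObj U))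
    (α.hom.isHomLift' (Fib44.idObj U)) _ _⟩

theorem corr_overMap (hY : IsFibGrpd 𝒴.p) (φ : FIso 𝒳 𝒴) {y : overCat V ⥤ᵇ 𝒳} {y' : overCat V ⥤ᵇ 𝒴}
    (h : φ.toEquiv V (objCls y) = objCls y') (g : U ⟶ V) :
    φ.toEquiv U (objCls (BasedFunctor.comp (overMap g) y)) = objCls (BasedFunctor.comp (overMap g) y') :=
  corr_objAt hY φ h ((Over.map g).obj (Over.mk (𝟙 U))) rfl

/-- Smooth charts correspond. -/
theorem sm_detect (h𝒳 : IsAlgStack Scheme.fppfPrecoverage 𝒳) (h𝒴 : IsAlgStack Scheme.fppfPrecoverage 𝒴)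
    (hI : RepByAlgSpWith (AlgSp.LocP @LocallyOfFinitePresentation) (inertiaToBase (toSelf 𝒴)))
    (φ : FIso 𝒳 𝒴) {x : overCat U ⥤ᵇ 𝒳} {y : overCat U ⥤ᵇ 𝒴} (hxy : φ.toEquiv U (objCls x) = objCls y)
    (hx : Sm x) : Sm y :=
  sm_of_corr h𝒳 h𝒴 φ hxy hx (lfp_of_corr h𝒳 h𝒴 hI φ hxy (rep_lfp_of_sm hx))

theorem smoothLocally_transfer (h𝒳 : IsAlgStack Scheme.fppfPrecoverage 𝒳) (h𝒴 : IsAlgStack Scheme.fppfPrecoverage 𝒴)
    (hI : RepByAlgSpWith (AlgSp.LocP @LocallyOfFinitePresentation) (inertiaToBase (toSelf 𝒳)))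
    (φ : FIso 𝒳 𝒴) (P : Scheme.{u} → Prop) (hP : SmoothLocally P 𝒳) : SmoothLocally P 𝒴 := by
  intro U y hy
  let ψ := symm h𝒳.isStack.1 h𝒴.isStack.1 φ
  obtain ⟨x, hx⟩ := exists_corr h𝒳.isStack.1 ψ y
  exact hP U x (sm_detect h𝒴 h𝒳 hI ψ hx hy)

/-- Surjective charts correspond. -/
theorem sj_detect (h𝒳 : IsAlgStack Scheme.fppfPrecoverage 𝒳) (h𝒴 : IsAlgStack Scheme.fppfPrecoverage 𝒴)
    (φ : FIso 𝒳 𝒴) {x : overCat U ⥤ᵇ 𝒳} {y : overCat U ⥤ᵇ 𝒴} (hxy : φ.toEquiv U (objCls x) = objCls y)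
    (hy : RepByAlgSp1 y) (hx : Sj x) : Sj y := by
  refine sj_of_isSurjective (isFibGrpd_overCat U) h𝒴.isStack.1 hy fun z => ?_
  obtain ⟨w, hw⟩ := isSurjective_of_sj h𝒳.isStack.1 hx (ptMap (symm h𝒳.isStack.1 h𝒴.isStack.1 φ) z)
  refine ⟨w, ?_⟩
  rw [← ptMap_map φ h𝒴.isStack.1 hxy, hw, ptMap_ptMap' φ h𝒳.isStack.1 h𝒴.isStack.1]

theorem locQ_transfer (h𝒳 : IsAlgStack Scheme.fppfPrecoverage 𝒳) (h𝒴 : IsAlgStack Scheme.fppfPrecoverage 𝒴)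
    (h𝒳' : IsAlgStack Scheme.fppfPrecoverage 𝒳') (h𝒴' : IsAlgStack Scheme.fppfPrecoverage 𝒴')
    (hI : RepByAlgSpWith (AlgSp.LocP @LocallyOfFinitePresentation) (inertiaToBase (toSelf 𝒳')))
    (hI' : RepByAlgSpWith (AlgSp.LocP @LocallyOfFinitePresentation) (inertiaToBase (toSelf 𝒴')))
    {f : 𝒳 ⥤ᵇ 𝒴} {f' : 𝒳' ⥤ᵇ 𝒴'} (φ : FIsoSq f f') (P : MorphismProperty (AlgSp.Sp S)) (hf : LocQ P f) :
    LocQ P f' := by
  obtain ⟨U, V, x, y, h, α, hx, hxs, hy, hP⟩ := hf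
  obtain ⟨x', hx'⟩ := exists_corr h𝒳'.isStack.1 φ.src x
  obtain ⟨y', hy'⟩ := exists_corr h𝒴'.isStack.1 φ.tgt y
  have hsm := sm_detect h𝒳 h𝒳' hI φ.src hx' hx
  have h1 : objCls (BasedFunctor.comp x' f') = objCls (BasedFunctor.comp (overMap h) y') := by
    rw [← corr_comp φ hx', objCls_congr α, corr_overMap h𝒴'.isStack.1 φ.tgt hy' h]
  obtain ⟨α'⟩ := nonempty_iso_of_objCls h𝒴'.isStack.1 h1
  exact ⟨U, V, x', y', h, α', hsm, sj_detect h𝒳 h𝒳' φ.src hx' (repByAlgSp1_of_with hsm) hxs,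
    sm_detect h𝒴 h𝒴' hI' φ.tgt hy' hy, hP⟩

theorem lfp_transfer (h𝒳 : IsAlgStack Scheme.fppfPrecoverage 𝒳) (h𝒴 : IsAlgStack Scheme.fppfPrecoverage 𝒴)
    (h𝒳' : IsAlgStack Scheme.fppfPrecoverage 𝒳') (h𝒴' : IsAlgStack Scheme.fppfPrecoverage 𝒴')
    (hI : RepByAlgSpWith (AlgSp.LocP @LocallyOfFinitePresentation) (inertiaToBase (toSelf 𝒳)))
    (hI' : RepByAlgSpWith (AlgSp.LocP @LocallyOfFinitePresentation) (inertiaToBase (toSelf 𝒴')))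
    {f : 𝒳 ⥤ᵇ 𝒴} {f' : 𝒳' ⥤ᵇ 𝒴'} (φ : FIsoSq f f') (hf' : RepByAlgSp1 f')
    (hf : RepByAlgSpWith (AlgSp.LocP @LocallyOfFinitePresentation) f) :
    RepByAlgSpWith (AlgSp.LocP @LocallyOfFinitePresentation) f' := by
  have hX := h𝒳.isStack.1
  have hX' := h𝒳'.isStack.1
  obtain ⟨U, u', hu', hus'⟩ := h𝒳'.atlas
  let ψ := symm hX hX' φ.src
  obtain ⟨u, hu⟩ := exists_corr hX ψ u'
  have hus : Sm u := sm_detect h𝒳' h𝒳 hI ψ hu hu'
  have hsrc : φ.src.toEquiv U (objCls u) = objCls u' := by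
    rw [← hu]; exact Equiv.apply_symm_apply _ _
  have hcomp : RepByAlgSpWith (AlgSp.LocP @LocallyOfFinitePresentation) (BasedFunctor.comp u f) :=
    repByAlgSpWith_locP_comp @LocallyOfFinitePresentation (isFibGrpd_overCat U) hX (rep_lfp_of_sm hus) hf
  have h2 := lfp_of_corr h𝒴 h𝒴' hI' φ.tgt (corr_comp φ hsrc) hcomp
  exact Groth.Agent.S12851.result (isAlgStack_overCat U) h𝒳' h𝒴' (AlgSp.LocP @LocallyOfFinitePresentation)
    (stableBC_locP _) (fppf_local_of_fpqc SpFP87.isLocalOnBase_fpqc_locP) (Groth.Agent.S10549.result S) u' f' hf'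
    (rep_flat_of_sm hu') (rep_lfp_of_sm hu') hus' h2

end Groth.Agent.IsoNat97
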