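import Groth.Agent.IsoNat97.AutSpace
import Groth.Agent.IsoNat97.Doubling
import Groth.Agent.IsoNat97.Transfer
import Groth.Agent.SpFP87.RepSigma

/-! Twisted forms of an object on a doubled scheme. -/

set_option autoImplicit false
set_option linter.unusedVariables false
set_option linter.style.haveILetI false
set_option backward.isDefEq.respectTransparency false
set_option backward.isDefEq.respectTransparency.types false
universe u

open CategoryTheory CategoryTheory.Limits AlgebraicGeometry Opposite AlgSt FibCat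

namespace Groth.Agent.IsoNat97

open AlgSt88

variable {S : Scheme.{u}} {𝒳 : AlgSt.Cat S}

/-- Isomorphism classes are separated for fppf coverings. -/
def ClsSep (𝒳 : AlgSt.Cat S) : Prop :=
  ∀ (T T' : Over S) (π : T' ⟶ T) [Flat π.left] [Surjective π.left] [LocallyOfFinitePresentation π.left]
    (x₁ x₂ : 𝒳.p.Fiber T) (x₁' x₂' : 𝒳.p.Fiber T') (a₁ : x₁'.1 ⟶ x₁.1) (a₂ : x₂'.1 ⟶ x₂.1),
    𝒳.p.IsHomLift π a₁ → 𝒳.p.IsHomLift π a₂ → Nonempty (x₁' ≅ x₂') → Nonempty (x₁ ≅ x₂)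

theorem bot_mem_of_isEmpty (W : Over S) [IsEmpty W.left] : (⊥ : Sieve W) ∈ AlgSp.J S W := by
  rw [GrothendieckTopology.mem_over_iff]
  let 𝒰 : W.left.OpenCover :=
    Scheme.Cover.mkOfCovers (P := @IsOpenImmersion) PEmpty.{u + 1} (fun e => e.elim) (fun e => e.elim)
      (fun x => (IsEmpty.false x).elim) (fun e => e.elim)
  refine GrothendieckTopology.superset_covering _ ?_
    (Precoverage.generate_mem_toGrothendieck (Scheme.zariskiPrecoverage_le_fppfPrecoverage _ 𝒰.mem₀))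
  rw [Sieve.generate_le_iff]
  rintro Z f ⟨e⟩
  exact e.elim

/-- Morphisms from an object over the empty scheme are unique. -/
theorem hom_ext_of_isEmpty (h𝒳 : Stk.IsStack (AlgSp.J S) 𝒳) {W T : Over S} [IsEmpty W.left] {z x : 𝒳.obj}
    (hz : 𝒳.p.obj z = W) (f : W ⟶ T) (u v : z ⟶ x) (hu : 𝒳.p.IsHomLift f u) (hv : 𝒳.p.IsHomLift f v) : u = v :=
  Fib44.hom_ext_of_lifts h𝒳.1 ((Fib44.isStack_iff.1 h𝒳).2 ⊥ (bot_mem_of_isEmpty W)).1 hz f u v
    fun V g hg => hg.elim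

/-- Morphisms glue along a disjoint open covering. -/
theorem exists_glue_disjoint (h𝒳 : Stk.IsStack (AlgSp.J S) 𝒳) {T T₁ : Over S} (Y : overCat T ⥤ᵇ 𝒳) {κ : Type}
    {W : κ → Over S} (i : ∀ k, W k ⟶ T) (hi : ∀ k, IsOpenImmersion (i k).left)
    (hcov : ∀ x : T.left, ∃ k y, (i k).left y = x)
    (hdisj : ∀ k l (a : (W k).left) (b : (W l).left), (i k).left a = (i l).left b → k = l)
    (y : 𝒳.p.Fiber T₁) (f : T ⟶ T₁) (n : ∀ k, (chObj Y (i k)).1 ⟶ y.1) (hn : ∀ k, 𝒳.p.IsHomLift (i k ≫ f) (n k)) :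
    ∃ h : (chObj Y (𝟙 T)).1 ⟶ y.1, 𝒳.p.IsHomLift f h ∧ ∀ k, chMap Y (i k) (Category.comp_id _) ≫ h = n k := by
  have hX := h𝒳.1
  obtain ⟨y', a, ha⟩ := exists_lift_fiber hX f y
  have hn' : ∀ k, ∃ n' : (chObj Y (i k)).1 ⟶ y'.1, 𝒳.p.IsHomLift (i k) n' ∧ n' ≫ a = n k := fun k => by
    obtain ⟨c, hc, -⟩ := exists_fac hX (i k) rfl a ha (n k) (hn k)
    exact ⟨c, hc⟩
  choose n' hn'l hn'e using hn'
  let R : Sieve T := Sieve.generate (Presieve.ofArrows W i)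
  have hR : R ∈ AlgSp.J S T := by
    rw [GrothendieckTopology.mem_over_iff, Sieve.overEquiv_generate]
    let 𝒰 : T.left.OpenCover :=
      Scheme.Cover.mkOfCovers (P := @IsOpenImmersion) κ (fun k => (W k).left) (fun k => (i k).left) hcov hi
    refine GrothendieckTopology.superset_covering _ ?_
      (Precoverage.generate_mem_toGrothendieck (Scheme.zariskiPrecoverage_le_fppfPrecoverage _ 𝒰.mem₀))
    rw [Sieve.generate_le_iff]
    rintro Z g ⟨k⟩
    exact Sieve.le_generate _ _ _ ⟨W k, i k, 𝟙 _, ⟨k⟩, by simp; rfl⟩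
  have hfac : ∀ a : R.arrows.category, ∃ (k : κ) (q : a.obj.left ⟶ W k), q ≫ i k = a.obj.hom := fun a => by
    obtain ⟨Z, q, g, ⟨k⟩, e⟩ := a.property
    exact ⟨k, q, e⟩
  choose sel q hq using hfac
  let δ : ∀ a : R.arrows.category, ((Stk.resSieve R 𝒳).obj Y).obj a ⟶ y'.1 := fun a =>
    chMap Y (q a) (hq a) ≫ n' (sel a)
  have hδl : ∀ a, 𝒳.p.IsHomLift a.obj.hom (δ a) := fun a => by
    haveI := hn'l (sel a)
    have h : 𝒳.p.IsHomLift (q a ≫ i (sel a)) (chMap Y (q a) (hq a) ≫ n' (sel a)) := inferInstance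
    rwa [hq a] at h
  have hδ : Fib44.IsGlue ((Stk.resSieve R 𝒳).obj Y) y'.1 δ := by
    refine ⟨y'.2, hδl, fun a b g => ?_⟩
    show chMap Y g.hom.left (Over.w g.hom) ≫ chMap Y (q b) (hq b) ≫ n' (sel b) = chMap Y (q a) (hq a) ≫ n' (sel a)
    have hw : (g.hom.left ≫ q b) ≫ i (sel b) = q a ≫ i (sel a) := by
      rw [Category.assoc, hq, hq]; exact Over.w g.hom
    rw [← Category.assoc, chMap_comp Y g.hom.left (q b) (Over.w g.hom) (hq b) (g.hom.left ≫ q b) rfl (hw.trans (hq a))]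
    have key : ∀ (k l : κ) (p : a.obj.left ⟶ W k) (r : a.obj.left ⟶ W l) (hp : p ≫ i k = a.obj.hom)
        (hr : r ≫ i l = a.obj.hom), chMap Y p hp ≫ n' k = chMap Y r hr ≫ n' l := by
      intro k l p r hp hr
      haveI := hn'l k
      haveI := hn'l l
      by_cases hkl : k = l
      · subst hkl
        haveI := hi k
        haveI : Mono (i k) := Over.mono_of_mono_left _
        obtain rfl : p = r := (cancel_mono (i k)).1 (hp.trans hr.symm)
        rfl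
      · haveI : IsEmpty a.obj.left.left := ⟨fun z => hkl (hdisj k l (p.left z) (r.left z)
          (congrArg (fun φ : a.obj.left ⟶ T => φ.left z) (hp.trans hr.symm)))⟩
        refine hom_ext_of_isEmpty h𝒳 (chObj Y a.obj.hom).2 a.obj.hom _ _ ?_ ?_
        · have h : 𝒳.p.IsHomLift (p ≫ i k) (chMap Y p hp ≫ n' k) := inferInstance
          rwa [hp] at h
        · have h : 𝒳.p.IsHomLift (r ≫ i l) (chMap Y r hr ≫ n' l) := inferInstance
          rwa [hr] at h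
    exact key _ _ _ _ _ _
  obtain ⟨k, ⟨hk, hkf⟩, -⟩ :=
    Fib44.existsUnique_glue_hom hX ((Fib44.isStack_iff.1 h𝒳).2 R hR).1 (Fib44.isGlue_res Y) hδ
  haveI := hk
  haveI := ha
  refine ⟨k ≫ a, ?_, fun j => ?_⟩
  · have h : 𝒳.p.IsHomLift f (k ≫ a) := inferInstance
    exact h
  let o : R.arrows.category := ⟨Over.mk (i j), Sieve.le_generate _ _ _ ⟨j⟩⟩
  have h1 : chMap Y (i j) (Category.comp_id _) ≫ k = δ o := hkf o
  rw [← Category.assoc, h1, ← hn'e j]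
  show (chMap Y (q o) (hq o) ≫ n' (sel o)) ≫ a = _
  congr 1
  have key : ∀ (l : κ) (p : W j ⟶ W l) (hp : p ≫ i l = i j), chMap Y p hp ≫ n' l = n' j := by
    intro l p hp
    haveI := hn'l l
    haveI := hn'l j
    by_cases hjl : j = l
    · subst hjl
      haveI := hi j
      haveI : Mono (i j) := Over.mono_of_mono_left _
      obtain rfl : p = 𝟙 _ := (cancel_mono (i j)).1 (hp.trans (Category.id_comp _).symm)
      rw [chMap_id, Category.id_comp]
    · haveI : IsEmpty (W j).left := ⟨fun z => hjl (hdisj j l z (p.left z)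
          (congrArg (fun φ : W j ⟶ T => φ.left z) hp.symm))⟩
      refine hom_ext_of_isEmpty h𝒳 (chObj Y (i j)).2 (i j) _ _ ?_ (hn'l j)
      have h : 𝒳.p.IsHomLift (p ≫ i l) (chMap Y p hp ≫ n' l) := inferInstance
      rwa [hp] at h
  exact key _ _ _

variable {B C O D : Over S}

/-- Morphisms on the charts of a doubling agreeing on the overlap glue. -/
theorem Doubling.exists_desc₂ {o : O ⟶ C} (d : Doubling o D) (f : Bool → (C ⟶ B)) (hf : o ≫ f false = o ≫ f true) :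
    ∃ π : D ⟶ B, ∀ b, d.c b ≫ π = f b := by
  haveI : ∀ b, IsOpenImmersion (d.c b).left := d.isOpenImmersion
  let 𝒰 : D.left.OpenCover :=
    Scheme.Cover.mkOfCovers (P := @IsOpenImmersion) Bool (fun _ => C.left) (fun b => (d.c b).left) d.cover
      d.isOpenImmersion
  have hcompat : ∀ x y : 𝒰.I₀, pullback.fst (𝒰.f x) (𝒰.f y) ≫ (f x).left = pullback.snd (𝒰.f x) (𝒰.f y) ≫ (f y).left := by
    intro x y
    let W : Over S := Over.mk (pullback.fst (𝒰.f x) (𝒰.f y) ≫ C.hom)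
    have hc : pullback.fst (𝒰.f x) (𝒰.f y) ≫ (d.c x).left = pullback.snd (𝒰.f x) (𝒰.f y) ≫ (d.c y).left :=
      pullback.condition
    let q : W ⟶ C := Over.homMk (pullback.fst (𝒰.f x) (𝒰.f y)) rfl
    let q' : W ⟶ C := Over.homMk (pullback.snd (𝒰.f x) (𝒰.f y)) (by
      show _ = pullback.fst _ _ ≫ C.hom
      calc pullback.snd (𝒰.f x) (𝒰.f y) ≫ C.hom
          = (pullback.snd (𝒰.f x) (𝒰.f y) ≫ (d.c y).left) ≫ D.hom := by
            rw [Category.assoc]; exact congrArg _ (Over.w (d.c y)).symm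
        _ = (pullback.fst (𝒰.f x) (𝒰.f y) ≫ (d.c x).left) ≫ D.hom := by rw [hc]
        _ = _ := by rw [Category.assoc]; exact congrArg _ (Over.w (d.c x)))
    have hqq : q ≫ d.c x = q' ≫ d.c y := Over.OverMorphism.ext hc
    have : q ≫ f x = q' ≫ f y := by
      rcases x with _ | _ <;> rcases y with _ | _
      · haveI := d.mono false; haveI : Mono (d.c false) := Over.mono_of_mono_left _
        rw [(cancel_mono (d.c false)).1 hqq]
      · obtain ⟨e, r, hr⟩ := d.factor q q' hqq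
        rw [← e, ← hr, Category.assoc, Category.assoc, hf]
      · obtain ⟨e, r, hr⟩ := d.factor q' q hqq.symm
        rw [← e, ← hr, Category.assoc, Category.assoc, hf]
      · haveI := d.mono true; haveI : Mono (d.c true) := Over.mono_of_mono_left _
        rw [(cancel_mono (d.c true)).1 hqq]
    exact congrArg (fun φ : W ⟶ B => φ.left) this
  let πl : D.left ⟶ B.left := 𝒰.glueMorphisms (fun b => (f b).left) hcompat
  have hπl : ∀ b, (d.c b).left ≫ πl = (f b).left := fun b => 𝒰.ι_glueMorphisms _ hcompat b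
  refine ⟨Over.homMk πl (𝒰.hom_ext _ _ fun b => ?_), fun b => Over.OverMorphism.ext (hπl b)⟩
  show (d.c b).left ≫ πl ≫ B.hom = (d.c b).left ≫ D.hom
  rw [← Category.assoc, hπl, Over.w, Over.w]

/-- The common extension of a morphism on both charts of a doubling. -/
theorem Doubling.exists_desc {o : O ⟶ C} (d : Doubling o D) (t : C ⟶ B) : ∃ π : D ⟶ B, ∀ b, d.c b ≫ π = t :=
  d.exists_desc₂ (fun _ => t) rfl

/-- An object twisted by an automorphism on the overlap. -/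
theorem exists_twist (h𝒳 : Stk.IsStack (AlgSp.J S) 𝒳) (Z : overCat B ⥤ᵇ 𝒳) (o : O ⟶ C) [IsOpenImmersion o.left]
    (t : C ⟶ B) (σ : AutT Z (o ≫ t)) :
    ∃ (D : Over S) (π : D ⟶ B) (d : Doubling o D) (x : 𝒳.p.Fiber D) (m : Bool → ((chObj Z t).1 ⟶ x.1)),
      (∀ b, d.c b ≫ π = t) ∧ (∀ b, 𝒳.p.IsHomLift (d.c b) (m b)) ∧
        σ.1 ≫ chMap Z o rfl ≫ m true = chMap Z o rfl ≫ m false := by
  obtain ⟨D, ⟨d⟩⟩ := exists_doubling o
  obtain ⟨π, hπ⟩ := d.exists_desc t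
  haveI : Mono o := Over.mono_of_mono_left _
  have hX := h𝒳.1
  let Zc := BasedFunctor.comp (overMap t) Z
  let Zo := BasedFunctor.comp (overMap o) Zc
  let e : (chObj Zo (𝟙 O)).1 ⟶ (chObj Z (o ≫ t)).1 :=
    chMap Z (𝟙 O) ((Category.id_comp _).trans (by show o ≫ t = (𝟙 O ≫ o) ≫ t; simp) :
      𝟙 O ≫ (o ≫ t) = (𝟙 O ≫ o) ≫ t)
  let e' : (chObj Z (o ≫ t)).1 ⟶ (chObj Zo (𝟙 O)).1 :=
    chMap Z (𝟙 O) ((Category.id_comp _).trans (by show (𝟙 O ≫ o) ≫ t = o ≫ t; simp) :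
      𝟙 O ≫ ((𝟙 O ≫ o) ≫ t) = o ≫ t)
  haveI := σ.2
  haveI hk : 𝒳.p.IsHomLift (𝟙 O) (e ≫ σ.1 ≫ e') := inferInstance
  haveI := fg_isIso_of_lift_id hX (e ≫ σ.1 ≫ e') O
  obtain ⟨α, hα⟩ := Fib44.exists_natTrans_at_id (G := Zo) (H := Zo) (Fib44.cartAtId_of_fibGrpd hX Zo) (e ≫ σ.1 ≫ e')
  haveI : IsIso (α.toNatTrans.app (Fib44.idObj O)) := by rw [hα]; infer_instance
  haveI := Fib44.isIso_natTrans_at_id (Fib44.cartAtId_of_fibGrpd hX Zo) (Fib44.cartAtId_of_fibGrpd hX Zo) α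
  obtain ⟨x, m, hm, hrel⟩ := exists_twisted Zc d h𝒳 (asIso α)
  let j : (chObj Z t).1 ⟶ (chObj Zc (𝟙 C)).1 :=
    chMap Z (𝟙 C) ((Category.id_comp _).trans (Category.id_comp _) : 𝟙 C ≫ (𝟙 C ≫ t) = t)
  refine ⟨D, π, d, x, fun b => j ≫ m b, hπ, fun b => ?_, ?_⟩
  · haveI := hm b
    dsimp only [j]
    infer_instance
  · have h1 : (e ≫ σ.1 ≫ e') ≫ chMap Zc ((Over.map o).obj (Over.mk (𝟙 O))).hom (Category.comp_id _) ≫ m true =
        chMap Zc ((Over.map o).obj (Over.mk (𝟙 O))).hom (Category.comp_id _) ≫ m false := by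
      rw [← hα]; exact hrel
    have h2 : ∀ b, chMap Z o (rfl : o ≫ t = o ≫ t) ≫ j ≫ m b =
        e' ≫ chMap Zc ((Over.map o).obj (Over.mk (𝟙 O))).hom (Category.comp_id _) ≫ m b := fun b => by
      simp only [← Category.assoc]
      congr 1
      rw [chMap_comp Z o (𝟙 C) rfl ((Category.id_comp _).trans (Category.id_comp _) : 𝟙 C ≫ (𝟙 C ≫ t) = t) o
        (Category.comp_id o) (by simp)]
      dsimp only [e', chMap, Zc]
      refine (congrArg Z.map ?_).trans (Z.map_comp _ _)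
      refine Over.OverMorphism.ext ?_
      dsimp
      simp
      exact (Category.id_comp o).symm
    have hee : e' ≫ e = 𝟙 _ := by
      dsimp only [e, e']
      rw [chMap_comp Z (𝟙 O) (𝟙 O) _ _ (𝟙 O) (Category.id_comp _) (Category.id_comp _), chMap_id]
    simp only
    rw [h2, h2, ← h1]
    simp only [Category.assoc]
    rw [← Category.assoc e' e, hee, Category.id_comp]

/-- If a twisted object is trivial, the automorphism extends. -/
theorem exists_extend_of_hom (hX : IsFibGrpd 𝒳.p) (Z : overCat B ⥤ᵇ 𝒳) (o : O ⟶ C) (d : Doubling o D) (π : D ⟶ B)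
    {t : C ⟶ B} (hπ : ∀ b, d.c b ≫ π = t) (σ : AutT Z (o ≫ t)) {x : 𝒳.p.Fiber D}
    (m : Bool → ((chObj Z t).1 ⟶ x.1)) (hm : ∀ b, 𝒳.p.IsHomLift (d.c b) (m b))
    (hrel : σ.1 ≫ chMap Z o rfl ≫ m true = chMap Z o rfl ≫ m false)
    (n : x.1 ⟶ (chObj Z (𝟙 B)).1) (hn : 𝒳.p.IsHomLift π n) : ∃ g : AutT Z t, IsRestr o σ g := by
  haveI := hn
  have hg : ∀ b, ∃ g : AutT Z t, g.1 ≫ chMap Z t (Category.comp_id t) = m b ≫ n := fun b => by
    haveI := hm b
    have hl : 𝒳.p.IsHomLift t (m b ≫ n) := by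
      have h : 𝒳.p.IsHomLift (d.c b ≫ π) (m b ≫ n) := inferInstance
      rwa [hπ b] at h
    obtain ⟨c, ⟨hc, hce⟩, -⟩ := exists_fac hX (𝟙 C) (Category.id_comp t) (chMap Z t (Category.comp_id t))
      inferInstance _ hl
    exact ⟨⟨c, hc⟩, hce⟩
  choose g hgm using hg
  obtain ⟨r₀, hr₀⟩ := IsRestr.exists_of hX (rfl : o ≫ t = o ≫ t) (g false)
  obtain ⟨r₁, hr₁⟩ := IsRestr.exists_of hX (rfl : o ≫ t = o ≫ t) (g true)
  have hσ : σ.mul r₁ = r₀ := by
    refine Subtype.ext (chMap_cancel hX Z (Category.comp_id (o ≫ t)) (σ.mul r₁).2 r₀.2 ?_)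
    show (σ.1 ≫ r₁.1) ≫ _ = _
    rw [← chMap_comp Z o t rfl (Category.comp_id t) (o ≫ t) rfl (Category.comp_id _)]
    obtain ⟨_, e₀⟩ := hr₀
    obtain ⟨_, e₁⟩ := hr₁
    rw [Category.assoc, ← Category.assoc r₁.1, e₁, ← Category.assoc r₀.1, e₀, Category.assoc, Category.assoc,
      hgm, hgm, ← Category.assoc (chMap Z o rfl), ← Category.assoc σ.1]
    simpa only [Category.assoc] using congrArg (· ≫ n) hrel
  refine ⟨(g false).mul ((g true).inv hX), ?_⟩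
  have h := IsRestr.mul hr₀ (hr₁.inv hX)
  rwa [← hσ, AutT.mul_assoc', AutT.mul_inv, AutT.mul_one'] at h

/-- If classes are separated, every automorphism on the overlap extends. -/
theorem exists_extend_of_clsSep (h𝒳 : Stk.IsStack (AlgSp.J S) 𝒳) (hsep : ClsSep 𝒳) (Z : overCat B ⥤ᵇ 𝒳)
    (o : O ⟶ C) [IsOpenImmersion o.left] (t : C ⟶ B) (σ : AutT Z (o ≫ t)) :
    ∃ g : AutT Z t, IsRestr o σ g := by
  have hX := h𝒳.1
  obtain ⟨D, π, d, x, m, hπ, hm, hrel⟩ := exists_twist h𝒳 Z o t σ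
  let W : ULift.{u} Bool → Over S := fun _ => C
  let T' := SpFP87.sigmaOver W
  let p : T' ⟶ D := Over.homMk (Sigma.desc fun k : ULift.{u} Bool => (d.c k.down).left) (Sigma.hom_ext _ _ fun k => by
    show Sigma.ι (fun k => (W k).left) k ≫ _ ≫ D.hom = Sigma.ι (fun k => (W k).left) k ≫ Sigma.desc _
    rw [← Category.assoc, Sigma.ι_desc, Sigma.ι_desc, Over.w])
  have hip : ∀ b : Bool, SpFP87.sigmaIncl W ⟨b⟩ ≫ p = d.c b := fun b =>
    Over.OverMorphism.ext (Sigma.ι_desc (fun k : ULift.{u} Bool => (d.c k.down).left) ⟨b⟩)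
  haveI : ∀ b, IsOpenImmersion (d.c b).left := d.isOpenImmersion
  haveI : Flat p.left := IsZariskiLocalAtSource.sigmaDesc (P := @Flat) fun k => inferInstance
  haveI : LocallyOfFinitePresentation p.left :=
    IsZariskiLocalAtSource.sigmaDesc (P := @LocallyOfFinitePresentation) fun k => inferInstance
  haveI : Surjective p.left := ⟨fun z => by
    obtain ⟨b, y, hy⟩ := d.cover z
    exact ⟨(SpFP87.sigmaIncl W ⟨b⟩).left y, (congrArg (fun φ : W ⟨b⟩ ⟶ D => φ.left y) (hip b)).trans hy⟩⟩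
  let Y := BasedFunctor.comp (overMap (p ≫ π)) Z
  obtain ⟨a, ha, -⟩ := exists_glue_disjoint h𝒳 Y (fun b : Bool => SpFP87.sigmaIncl W ⟨b⟩)
    (fun b => SpFP87.sigmaIncl_isOpenImmersion W ⟨b⟩)
    (fun z => by
      obtain ⟨⟨b⟩, y, hy⟩ := SpFP87.exists_sigmaIncl W z
      exact ⟨b, y, hy⟩)
    (fun k l a b h => congrArg ULift.down (SpFP87.sigmaIncl_range_eq W h)) x p
    (fun b => chMap Z (𝟙 C) (a' := SpFP87.sigmaIncl W ⟨b⟩ ≫ p ≫ π) (a := t) ((Category.id_comp t).trans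
      ((hπ b).symm.trans ((congrArg (· ≫ π) (hip b).symm).trans (Category.assoc _ _ _)))) ≫ m b)
    (fun b => by
      haveI := hm b
      have h : 𝒳.p.IsHomLift (𝟙 C ≫ d.c b) (chMap Z (𝟙 C) (a' := SpFP87.sigmaIncl W ⟨b⟩ ≫ p ≫ π) (a := t)
        ((Category.id_comp t).trans ((hπ b).symm.trans ((congrArg (· ≫ π) (hip b).symm).trans (Category.assoc _ _ _)))) ≫ m b) :=
        inferInstance
      rwa [(Category.id_comp (d.c b)).trans (hip b).symm] at h)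
  obtain ⟨e⟩ := hsep D T' p x (chObj Z π) (chObj Y (𝟙 T')) (chObj Y (𝟙 T')) a
    (chMap Z p ((Category.id_comp _).symm : p ≫ π = 𝟙 T' ≫ p ≫ π)) ha (isHomLift_chMap Z _ _) ⟨Iso.refl _⟩
  let n : x.1 ⟶ (chObj Z (𝟙 B)).1 := e.hom.1 ≫ chMap Z π (Category.comp_id π)
  haveI := e.hom.2
  haveI hn : 𝒳.p.IsHomLift π n := by dsimp only [n]; infer_instance
  exact exists_extend_of_hom hX Z o d π hπ σ m hm hrel n hn

/-- Morphisms given on the charts of a doubling, compatible on the overlap, glue. -/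
theorem exists_hom_glue (h𝒳 : Stk.IsStack (AlgSp.J S) 𝒳) {B T : Over S} (Z : overCat B ⥤ᵇ 𝒳) {o : O ⟶ C} (d : Doubling o D)
    {t : C ⟶ B} (τ : AutT Z (o ≫ t)) {x : 𝒳.p.Fiber D} (m : Bool → ((chObj Z t).1 ⟶ x.1))
    (hm : ∀ b, 𝒳.p.IsHomLift (d.c b) (m b)) (hmτ : τ.1 ≫ chMap Z o rfl ≫ m true = chMap Z o rfl ≫ m false)
    {y : 𝒳.p.Fiber T} (f : D ⟶ T) (n : Bool → ((chObj Z t).1 ⟶ y.1)) (hn : ∀ b, 𝒳.p.IsHomLift (d.c b ≫ f) (n b))
    (hnτ : τ.1 ≫ chMap Z o rfl ≫ n true = chMap Z o rfl ≫ n false) :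
    ∃ h : x.1 ⟶ y.1, 𝒳.p.IsHomLift f h ∧ ∀ b, m b ≫ h = n b := by
  have hX := h𝒳.1
  obtain ⟨y', a, ha⟩ := exists_lift_fiber hX f y
  have hn' : ∀ b, ∃ n' : (chObj Z t).1 ⟶ y'.1, 𝒳.p.IsHomLift (d.c b) n' ∧ n' ≫ a = n b := fun b => by
    obtain ⟨c, hc, -⟩ := exists_fac hX (d.c b) rfl a ha (n b) (hn b)
    exact ⟨c, hc⟩
  choose n' hn'l hn'e using hn'
  haveI := ha
  haveI := τ.2
  have hn'τ : τ.1 ≫ chMap Z o rfl ≫ n' true = chMap Z o rfl ≫ n' false := by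
    haveI := hn'l true
    haveI := hn'l false
    obtain ⟨χ, -, huniq⟩ := exists_fac hX (o ≫ d.c false) rfl a ha (chMap Z o rfl ≫ n false) (by
      haveI := hn false
      have h : 𝒳.p.IsHomLift (o ≫ d.c false ≫ f) (chMap Z o rfl ≫ n false) := inferInstance
      rwa [← Category.assoc] at h)
    refine (huniq _ ?_ ?_).trans (huniq _ inferInstance ?_).symm
    · rw [d.agree]
      infer_instance
    · rw [Category.assoc, Category.assoc, hn'e, hnτ]
    · rw [Category.assoc, hn'e]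
  obtain ⟨R, hR, hc, hfac⟩ := d.exists_sieve
  have hwd : ∀ {W : Over S} {z : 𝒳.obj} (φ : z ⟶ x.1) (b b' : Bool) (q q' : W ⟶ C) (χ χ' : z ⟶ (chObj Z t).1),
      q ≫ d.c b = q' ≫ d.c b' → 𝒳.p.IsHomLift q χ → 𝒳.p.IsHomLift q' χ' → χ ≫ m b = φ → χ' ≫ m b' = φ →
        χ ≫ n' b = χ' ≫ n' b' := by
    intro W z φ b b' q q' χ χ' hq hχ hχ' e e'
    have hφ : 𝒳.p.IsHomLift (q ≫ d.c b) φ := by
      haveI := hm b
      rw [← e]
      infer_instance
    have same : ∀ (b : Bool) (q q' : W ⟶ C) (χ χ' : z ⟶ (chObj Z t).1), q ≫ d.c b = q' ≫ d.c b →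
        𝒳.p.IsHomLift q χ → 𝒳.p.IsHomLift q' χ' → χ ≫ m b = χ' ≫ m b → χ = χ' := by
      intro b q q' χ χ' hq hχ hχ' e
      haveI := d.mono b
      haveI : Mono (d.c b) := Over.mono_of_mono_left _
      obtain rfl := (cancel_mono (d.c b)).1 hq
      haveI := hm b
      obtain ⟨w, -, huniq⟩ := exists_fac hX q rfl (m b) (hm b) (χ ≫ m b) inferInstance
      exact (huniq χ hχ rfl).trans (huniq χ' hχ' e.symm).symm
    have cross : ∀ (q q' : W ⟶ C) (χ χ' : z ⟶ (chObj Z t).1), q ≫ d.c false = q' ≫ d.c true →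
        𝒳.p.IsHomLift q χ → 𝒳.p.IsHomLift q' χ' → χ ≫ m false = φ → χ' ≫ m true = φ →
          χ ≫ n' false = χ' ≫ n' true := by
      intro q q' χ χ' hq hχ hχ' e e'
      obtain ⟨rfl, r, rfl⟩ := d.factor q q' hq
      obtain ⟨ψ, ⟨hψ, hψe⟩, -⟩ := exists_fac hX r rfl (chMap Z o (rfl : o ≫ t = o ≫ t)) inferInstance χ hχ
      haveI := hψ
      have h1 : ψ ≫ τ.1 ≫ chMap Z o rfl = χ' := same true (r ≫ o) (r ≫ o) _ χ' rfl inferInstance hχ' (by
        rw [Category.assoc, Category.assoc, hmτ, ← Category.assoc, hψe, e, e'])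
      rw [← h1, Category.assoc, Category.assoc, hn'τ, ← Category.assoc, hψe]
    rcases b with _ | _ <;> rcases b' with _ | _
    · rw [same false q q' χ χ' hq hχ hχ' (e.trans e'.symm)]
    · exact cross q q' χ χ' hq hχ hχ' e e'
    · exact (cross q' q χ' χ hq.symm hχ' hχ e' e).symm
    · rw [same true q q' χ χ' hq hχ hχ' (e.trans e'.symm)]
  have hex : ∀ ⦃z : 𝒳.obj⦄ (φ : z ⟶ x.1), R (𝒳.p.map φ ≫ eqToHom x.2) →
      ∃ (b : Bool) (q : 𝒳.p.obj z ⟶ C) (χ : z ⟶ (chObj Z t).1), q ≫ d.c b = 𝒳.p.map φ ≫ eqToHom x.2 ∧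
        𝒳.p.IsHomLift q χ ∧ χ ≫ m b = φ := by
    intro z φ h
    obtain ⟨b, q, hq⟩ := hfac _ h
    obtain ⟨χ, hχ, -⟩ := exists_fac hX q hq (m b) (hm b) φ (IsHomLift.of_fac' 𝒳.p _ φ rfl x.2 (by simp))
    exact ⟨b, q, χ, hq, hχ⟩
  choose bb qq χχ hqq hχl hχe using hex
  let θ : ∀ ⦃z : 𝒳.obj⦄ (φ : z ⟶ x.1), R (𝒳.p.map φ ≫ eqToHom x.2) → (z ⟶ y'.1) :=
    fun z φ h => χχ φ h ≫ n' (bb φ h)
  obtain ⟨k, ⟨hk, hkθ⟩, -⟩ := ((Fib44.isStack_iff.1 h𝒳).2 R hR).1 (x := x.1) (y := y'.1) x.2 y'.2 θ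
    (fun z φ h => by
      haveI := hχl φ h
      haveI := hn'l (bb φ h)
      have h1 : 𝒳.p.IsHomLift (qq φ h ≫ d.c (bb φ h)) (θ φ h) := inferInstanceAs (𝒳.p.IsHomLift _ (χχ φ h ≫ n' (bb φ h)))
      rwa [hqq φ h] at h1)
    (fun z' z u φ h h' => by
      haveI := hχl φ h
      haveI : 𝒳.p.IsHomLift (𝒳.p.map u) u := inferInstance
      show χχ (u ≫ φ) h' ≫ n' (bb (u ≫ φ) h') = u ≫ χχ φ h ≫ n' (bb φ h)
      rw [← Category.assoc]
      refine hwd (u ≫ φ) _ _ (qq _ h') (𝒳.p.map u ≫ qq φ h) _ _ ?_ (hχl _ h') inferInstance (hχe _ h') ?_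
      · rw [hqq, Category.assoc, hqq, ← Category.assoc, ← Functor.map_comp]
      · rw [Category.assoc, hχe])
  haveI := hk
  have hl : 𝒳.p.IsHomLift f (k ≫ a) := inferInstance
  refine ⟨k ≫ a, hl, fun b => ?_⟩
  haveI := hm b
  have hd : 𝒳.p.map (m b) ≫ eqToHom x.2 = eqToHom (chObj Z t).2 ≫ d.c b := by
    rw [IsHomLift.fac' 𝒳.p (d.c b) (m b)]; simp
  have hR' : R (𝒳.p.map (m b) ≫ eqToHom x.2) := by rw [hd]; exact R.downward_closed (hc b) _
  rw [← Category.assoc, hkθ (m b) hR', ← hn'e b]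
  congr 1
  exact (hwd (m b) (bb _ hR') b (qq _ hR') (eqToHom (chObj Z t).2) (χχ _ hR') (𝟙 _) ((hqq _ hR').trans hd)
    (hχl _ hR') (IsHomLift.of_fac' 𝒳.p _ (𝟙 _) rfl (chObj Z t).2 (by simp)) (hχe _ hR')
    (Category.id_comp _)).trans (Category.id_comp _)

end Groth.Agent.IsoNat97
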