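import Groth.Agent.IsoNat97.Glue2
import Groth.Agent.IsoNat97.Twist
import Groth.Agent.IsoNat97.AutSep
import Groth.Agent.IsoNat97.Transfer

/-! Extending morphisms with given image from an open subscheme, transported along presheaves of isomorphism classes. -/

set_option autoImplicit false
set_option linter.unusedVariables false
set_option linter.style.haveILetI false
set_option backward.isDefEq.respectTransparency false
set_option backward.isDefEq.respectTransparency.types false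
universe u

open CategoryTheory CategoryTheory.Limits AlgebraicGeometry Opposite AlgSt FibCat

namespace Groth.Agent.IsoNat97

open AlgSt88 IsoNat

variable {S : Scheme.{u}} {𝒳 𝒴 𝒳' 𝒴' : AlgSt.Cat S}

/-- Morphisms with a given image extend from `O` to `C`. -/
def ExtHom (f : 𝒳 ⥤ᵇ 𝒴) {O C : Over S} (o : O ⟶ C) : Prop :=
  ∀ (x₁ x₂ : 𝒳.p.Fiber C) (α : f.obj x₁.1 ⟶ f.obj x₂.1), 𝒴.p.IsHomLift (𝟙 C) α →
    ∀ (z : 𝒳.p.Fiber O) (a₁ : z.1 ⟶ x₁.1) (a₂ : z.1 ⟶ x₂.1), 𝒳.p.IsHomLift o a₁ → 𝒳.p.IsHomLift o a₂ →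
      f.map a₁ ≫ α = f.map a₂ →
      ∃ β : x₁.1 ⟶ x₂.1, 𝒳.p.IsHomLift (𝟙 C) β ∧ a₁ ≫ β = a₂ ∧ f.map β = α

/-- Isomorphisms agreeing on a schematically dense open of an affine scheme are equal. -/
theorem hom_eq_of_dense (hX : IsFibGrpd 𝒳.p)
    (hIs : RepByAlgSpWith AlgSp.IsSeparatedMor (inertiaToBase (toSelf 𝒳))) {O C : Over S} [IsAffine C.left]
    (o : O ⟶ C) (hinj : Function.Injective o.left.appTop) {y₁ y₂ : 𝒳.p.Fiber C} (u v : y₁.1 ⟶ y₂.1)
    (hu : 𝒳.p.IsHomLift (𝟙 C) u) (hv : 𝒳.p.IsHomLift (𝟙 C) v) {z : 𝒳.p.Fiber O} (a : z.1 ⟶ y₁.1)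
    (ha : 𝒳.p.IsHomLift o a) (h : a ≫ u = a ≫ v) : u = v := by
  obtain ⟨k, hk⟩ := classify_mk_id hX y₁.1 y₁.2
  let Z := classify hX y₁.1 y₁.2
  haveI := hu; haveI := hv; haveI := hk; haveI := ha
  haveI := fg_isIso_of_lift_id hX u C
  haveI := fg_isIso_of_lift_id hX v C
  haveI : 𝒳.p.IsHomLift (𝟙 C) k.inv := IsHomLift.lift_id_inv _ _ _
  let g : AutT Z (𝟙 C) := ⟨k.hom ≫ (u ≫ CategoryTheory.inv v) ≫ k.inv, inferInstance⟩
  have h0 : o ≫ 𝟙 C = o := Category.comp_id o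
  obtain ⟨c, ⟨hc, hce⟩, -⟩ := exists_fac hX (𝟙 O) (Category.id_comp o) a ha (chMap Z o h0 ≫ k.hom) (by
    have h' : 𝒳.p.IsHomLift (o ≫ 𝟙 C) (chMap Z o h0 ≫ k.hom) := inferInstance
    rwa [Category.comp_id] at h')
  have hau : a ≫ u ≫ CategoryTheory.inv v = a := by
    rw [← Category.assoc, h, Category.assoc, IsIso.hom_inv_id, Category.comp_id]
  have hg : IsRestr o (AutT.one : AutT Z o) g := by
    refine ⟨h0, (Category.id_comp _).trans ?_⟩
    show chMap Z o h0 = chMap Z o h0 ≫ k.hom ≫ (u ≫ CategoryTheory.inv v) ≫ k.inv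
    rw [← Category.assoc, ← hce, Category.assoc, ← Category.assoc a, hau, ← Category.assoc c, hce, Category.assoc,
      k.hom_inv_id, Category.comp_id]
  have hone := autT_eq_of_dense hX hIs o hinj hg (IsRestr.one h0)
  have h1 : k.hom ≫ (u ≫ CategoryTheory.inv v) ≫ k.inv = 𝟙 _ := congrArg Subtype.val hone
  rw [← cancel_mono (CategoryTheory.inv v), IsIso.hom_inv_id, ← cancel_epi k.hom, ← cancel_mono k.inv]
  simpa using h1

variable {f : 𝒳 ⥤ᵇ 𝒴} {f' : 𝒳' ⥤ᵇ 𝒴'}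

/-- Extension of morphisms with given image is detected by isomorphism classes. -/
theorem extHom_of_sq (h𝒳 : Stk.IsStack (AlgSp.J S) 𝒳) (h𝒴 : Stk.IsStack (AlgSp.J S) 𝒴)
    (h𝒳' : Stk.IsStack (AlgSp.J S) 𝒳') (h𝒴' : Stk.IsStack (AlgSp.J S) 𝒴')
    (hY's : RepByAlgSpWith AlgSp.IsSeparatedMor (inertiaToBase (toSelf 𝒴'))) (φ : FIsoSq f f')
    {O C : Over S} [IsAffine C.left] (o : O ⟶ C) [IsOpenImmersion o.left]
    (hinj : Function.Injective o.left.appTop) (h : ExtHom f o) : ExtHom f' o := by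
  intro x₁' x₂' α' hα' z' a₁' a₂' ha₁' ha₂' he'
  have hX := h𝒳.1; have hY := h𝒴.1; have hX' := h𝒳'.1; have hY' := h𝒴'.1
  obtain ⟨D, ⟨d⟩⟩ := exists_doubling o
  obtain ⟨π, hπ⟩ := d.exists_desc (𝟙 C)
  -- the glued object and its morphism in `𝒴'`
  let x' : Bool → 𝒳'.p.Fiber C := fun b => bif b then x₂' else x₁'
  let az' : ∀ b, z'.1 ⟶ (x' b).1 := fun b => match b with | false => a₁' | true => a₂'
  have haz' : ∀ b, 𝒳'.p.IsHomLift o (az' b) := fun b => by cases b <;> assumption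
  obtain ⟨W', m', hm', hm'rel⟩ := exists_glue₂ h𝒳' d az' haz'
  let fz' : 𝒴'.p.Fiber O := (fibFun f' O).obj z'
  let fx' : Bool → 𝒴'.p.Fiber C := fun b => (fibFun f' C).obj (x' b)
  let fW' : 𝒴'.p.Fiber D := (fibFun f' D).obj W'
  let nn : ∀ b, (fx' b).1 ⟶ (fx' true).1 := fun b => match b with | false => α' | true => 𝟙 _
  have hidY : ∀ (y : 𝒴'.p.Fiber C), 𝒴'.p.IsHomLift (𝟙 C) (𝟙 y.1) := fun y => IsHomLift.id y.2
  obtain ⟨p', hp', hp'n⟩ := exists_hom_glue₂ h𝒴' d (z := fz') (x := fx') (fun b => f'.map (az' b))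
    (fun b => by haveI := haz' b; exact BasedFunctor.preserves_isHomLift f' o (az' b)) (W := fW') (fun b => f'.map (m' b))
    (fun b => by haveI := hm' b; exact BasedFunctor.preserves_isHomLift f' _ (m' b)) (by
      show f'.map _ ≫ f'.map _ = f'.map _ ≫ f'.map _
      rw [← f'.map_comp, ← f'.map_comp, hm'rel]) π nn (fun b => by
      rw [hπ b]; cases b
      · exact hα'
      · exact hidY _) ((Category.comp_id _).trans he'.symm)
  -- transfer to `𝒳`
  let W : 𝒳.p.Fiber D := rep ((φ.src.toEquiv D).symm (cls W'))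
  have hW : φ.src.toEquiv D (cls W) = cls W' := by rw [cls_rep, Equiv.apply_symm_apply]
  let y : 𝒴.p.Fiber C := rep ((φ.tgt.toEquiv C).symm (cls (fx' true)))
  obtain ⟨p, hp⟩ := natural' (symm hY hY' φ.tgt) π p' hp' (y' := (fibFun f D).obj W) (y := y)
    ((Equiv.symm_apply_eq _).2 (Eq.symm ((φ.comm D (cls W)).trans (by rw [hW]; rfl)))) (cls_rep _).symm
  have hpull : ∀ b, ∃ (x : 𝒳.p.Fiber C) (n : x.1 ⟶ W.1), 𝒳.p.IsHomLift (d.c b) n := fun b =>
    exists_lift_fiber hX (d.c b) W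
  choose x n hn using hpull
  let u : ∀ b, f.obj (x b).1 ⟶ y.1 := fun b => f.map (n b) ≫ p
  have hu : ∀ b, 𝒴.p.IsHomLift (𝟙 C) (u b) := fun b => by
    haveI := hn b
    haveI := hp
    haveI := BasedFunctor.preserves_isHomLift f (d.c b) (n b)
    have h' : 𝒴.p.IsHomLift (d.c b ≫ π) (u b) := inferInstanceAs (𝒴.p.IsHomLift _ (f.map (n b) ≫ p))
    rwa [hπ b] at h'
  haveI := hu false
  haveI := hu true
  haveI := fg_isIso_of_lift_id hY (u true) C
  let α : f.obj (x false).1 ⟶ f.obj (x true).1 := u false ≫ CategoryTheory.inv (u true)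
  obtain ⟨z, a₁, ha₁⟩ := exists_lift_fiber hX o (x false)
  haveI := ha₁
  haveI := hn false
  obtain ⟨a₂, ⟨ha₂, ha₂e⟩, -⟩ := exists_fac hX o rfl (n true) (hn true) (a₁ ≫ n false) (by
    rw [← d.agree]; infer_instance)
  obtain ⟨β, hβ, hβe, hfβ⟩ := h (x false) (x true) α inferInstance z a₁ a₂ ha₁ ha₂ (by
    show f.map a₁ ≫ (f.map (n false) ≫ p) ≫ CategoryTheory.inv (u true) = _
    rw [← Category.assoc, IsIso.comp_inv_eq]
    show f.map a₁ ≫ f.map (n false) ≫ p = f.map a₂ ≫ f.map (n true) ≫ p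
    rw [← Category.assoc, ← f.map_comp, ← ha₂e, f.map_comp, Category.assoc])
  let az : ∀ b, z.1 ⟶ (x b).1 := fun b => match b with | false => a₁ | true => a₂
  let qq : ∀ b, (x b).1 ⟶ (x true).1 := fun b => match b with | false => β | true => 𝟙 _
  obtain ⟨q, hq, hqn⟩ := exists_hom_glue₂ h𝒳 d az (fun b => by cases b <;> assumption) n hn
    (show a₂ ≫ n true = a₁ ≫ n false from ha₂e) π qq (fun b => by
      rw [hπ b]; cases b
      · exact hβ
      · exact IsHomLift.id (x true).2) ((Category.comp_id _).trans hβe.symm)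
  -- back in `𝒳'`
  let x₂'' : 𝒳'.p.Fiber C := rep (φ.src.toEquiv C (cls (x true)))
  obtain ⟨b'', hb''⟩ := natural' φ.src (d.c true) (n true) (hn true) (y' := x₂'') (cls_rep _).symm hW
  have hcl : φ.src.toEquiv C (cls (x true)) = cls (x' true) :=
    (cls_rep _).symm.trans (cls_eq_of_hom hX' b'' hb'' (m' true) (hm' true))
  obtain ⟨q', hq'⟩ := natural' φ.src π q hq (y' := W') (y := x' true) hW hcl
  let v : ∀ b, (x' b).1 ⟶ x₂'.1 := fun b => m' b ≫ q'
  have hv : ∀ b, 𝒳'.p.IsHomLift (𝟙 C) (v b) := fun b => by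
    haveI := hm' b
    haveI := hq'
    have h' : 𝒳'.p.IsHomLift (d.c b ≫ π) (v b) := inferInstanceAs (𝒳'.p.IsHomLift _ (m' b ≫ q'))
    rwa [hπ b] at h'
  haveI := hv false
  haveI := hv true
  haveI := fg_isIso_of_lift_id hX' (v true) C
  let β' : x₁'.1 ⟶ x₂'.1 := v false ≫ CategoryTheory.inv (v true)
  have hβ' : 𝒳'.p.IsHomLift (𝟙 C) β' := by
    haveI : 𝒳'.p.IsHomLift (𝟙 C) (CategoryTheory.inv (v true)) := inferInstance
    exact inferInstanceAs (𝒳'.p.IsHomLift (𝟙 C) (v false ≫ CategoryTheory.inv (v true)))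
  have hag : a₁' ≫ β' = a₂' := by
    show a₁' ≫ (m' false ≫ q') ≫ CategoryTheory.inv (v true) = _
    rw [← Category.assoc, IsIso.comp_inv_eq]
    show a₁' ≫ m' false ≫ q' = a₂' ≫ m' true ≫ q'
    rw [← Category.assoc, ← Category.assoc]
    exact (congrArg (· ≫ q') hm'rel).symm
  refine ⟨β', hβ', hag, hom_eq_of_dense hY' hY's o hinj (y₁ := (fibFun f' C).obj x₁') (y₂ := (fibFun f' C).obj x₂')
    (f'.map β') α' (by haveI := hβ'; exact BasedFunctor.preserves_isHomLift f' _ β') hα' (z := fz') (f'.map a₁')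
    (by haveI := ha₁'; exact BasedFunctor.preserves_isHomLift f' o a₁') ?_⟩
  show f'.map a₁' ≫ f'.map β' = f'.map a₁' ≫ α'
  rw [← f'.map_comp, hag, he']

end Groth.Agent.IsoNat97
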