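import Groth.Agent.IsoNat97.Basic

/-! Infinitesimal lifting for charts, transported along an isomorphism of presheaves of isomorphism classes. -/

set_option autoImplicit false
set_option linter.unusedVariables false
set_option linter.style.haveILetI false
set_option backward.isDefEq.respectTransparency false
set_option backward.isDefEq.respectTransparency.types false
universe u

open CategoryTheory CategoryTheory.Limits AlgebraicGeometry Opposite AlgSt FibCat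

namespace Groth.Agent.IsoNat97

open IsoNat AlgSt88

variable {S : Scheme.{u}} {𝒳 𝒴 : AlgSt.Cat S} {U V : Over S}

/-- The object of a chart at a morphism to its source. -/
abbrev chObj (x : overCat U ⥤ᵇ 𝒳) {T : Over S} (a : T ⟶ U) : 𝒳.p.Fiber T :=
  ⟨x.obj (Over.mk a), x.w_obj _⟩

/-- The morphism of chart objects over a morphism of the base. -/
abbrev chMap (x : overCat U ⥤ᵇ 𝒳) {T' T : Over S} (i : T' ⟶ T) {a' : T' ⟶ U} {a : T ⟶ U} (h : i ≫ a = a') :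
    (chObj x a').1 ⟶ (chObj x a).1 :=
  x.map (Over.homMk i h : Over.mk a' ⟶ Over.mk a)

instance isHomLift_chMap (x : overCat U ⥤ᵇ 𝒳) {T' T : Over S} (i : T' ⟶ T) {a' : T' ⟶ U} {a : T ⟶ U}
    (h : i ≫ a = a') : 𝒳.p.IsHomLift i (chMap x i h) :=
  Fib44.isHomLift_map_left x (Over.homMk i h : Over.mk a' ⟶ Over.mk a)

theorem chMap_comp (x : overCat U ⥤ᵇ 𝒳) {T'' T' T : Over S} (j : T'' ⟶ T') (i : T' ⟶ T) {a'' : T'' ⟶ U}
    {a' : T' ⟶ U} {a : T ⟶ U} (h' : j ≫ a' = a'') (h : i ≫ a = a') (k : T'' ⟶ T) (hk : j ≫ i = k)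
    (h'' : k ≫ a = a'') : chMap x j h' ≫ chMap x i h = chMap x k h'' := by
  subst hk
  rw [← Functor.map_comp]
  rfl

/-- A morphism lifts along morphisms of objects, uniquely. -/
theorem exists_fac (hX : IsFibGrpd 𝒳.p) {R'' R' R : Over S} (h : R'' ⟶ R') {g : R' ⟶ R} {k : R'' ⟶ R}
    (hk : h ≫ g = k) {z y x : 𝒳.obj} (φ : y ⟶ x) (hφ : 𝒳.p.IsHomLift g φ) (ψ : z ⟶ x) (hψ : 𝒳.p.IsHomLift k ψ) :
    ∃ χ : z ⟶ y, (𝒳.p.IsHomLift h χ ∧ χ ≫ φ = ψ) ∧ ∀ χ', 𝒳.p.IsHomLift h χ' → χ' ≫ φ = ψ → χ' = χ := by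
  haveI := Fib44.isSC_of_fibGrpd 𝒳.p hX g φ
  haveI := hψ
  obtain ⟨χ, h1, h2⟩ := Functor.IsStronglyCartesian.universal_property 𝒳.p g φ h k hk.symm ψ
  exact ⟨χ, h1, fun χ' h3 h4 => h2 χ' ⟨h3, h4⟩⟩

/-- Lifting of sections of a chart along a morphism of the base. -/
def LiftsAt (x : overCat U ⥤ᵇ 𝒳) {T₀ T : Over S} (i : T₀ ⟶ T) : Prop :=
  ∀ (ζ : 𝒳.obj) (a₀ : T₀ ⟶ U) (m₀ : (chObj x a₀).1 ⟶ ζ), 𝒳.p.IsHomLift i m₀ →
    ∃ (a : T ⟶ U) (h : i ≫ a = a₀) (n : (chObj x a).1 ⟶ ζ), 𝒳.p.IsHomLift (𝟙 T) n ∧ chMap x i h ≫ n = m₀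

/-- The class of a chart object is the image of the class of the corresponding one. -/
theorem corr_chObj (hY : IsFibGrpd 𝒴.p) (φ : FIso 𝒳 𝒴) {x : overCat U ⥤ᵇ 𝒳} {y : overCat U ⥤ᵇ 𝒴}
    (hxy : φ.toEquiv U (objCls x) = objCls y) {T : Over S} (a : T ⟶ U) :
    φ.toEquiv T (cls (chObj x a)) = cls (chObj y a) :=
  corr_objAt hY φ hxy (Over.mk a) rfl

/-- If a family containing all liftings into a chart of the target is simultaneously realised, liftings for a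
chart transport along an isomorphism of presheaves of isomorphism classes. -/
theorem lift_of_corr (hX : IsFibGrpd 𝒳.p) (hY : IsFibGrpd 𝒴.p) (φ : FIso 𝒳 𝒴) {x : overCat U ⥤ᵇ 𝒳}
    {y : overCat U ⥤ᵇ 𝒴} (hxy : φ.toEquiv U (objCls x) = objCls y) (v : overCat V ⥤ᵇ 𝒴) {T₀ T Q : Over S}
    (i : T₀ ⟶ T) (iQ : T₀ ⟶ Q) (b : T ⟶ V) (c : Q ⟶ V)
    (hfam : ∀ c₁ : T ⟶ V, i ≫ c₁ = i ≫ b → ∃ j : T ⟶ Q, i ≫ j = iQ ∧ j ≫ c = c₁)
    (hv : LiftsAt v i) (hx : LiftsAt x iQ) (a₀ : T₀ ⟶ U) (m₀ : (chObj y a₀).1 ⟶ (chObj v b).1)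
    (hm₀ : 𝒴.p.IsHomLift i m₀) :
    ∃ (a : T ⟶ U) (h : i ≫ a = a₀) (n : (chObj y a).1 ⟶ (chObj v b).1),
      𝒴.p.IsHomLift (𝟙 T) n ∧ chMap y i h ≫ n = m₀ := by
  haveI := hm₀
  have hQc : iQ ≫ c = i ≫ b := by
    obtain ⟨j, hj, hjc⟩ := hfam b rfl
    rw [← hj, Category.assoc, hjc]
  let b₀ : T₀ ⟶ V := i ≫ b
  -- the classes of `y a₀` and `v b₀` agree
  have hcls : cls (chObj y a₀) = cls (chObj v b₀) :=
    cls_eq_of_hom hY m₀ hm₀ (chMap v i (a' := b₀) rfl) inferInstance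
  -- transport `v c` to the source stack
  let ξ : 𝒳.p.Fiber Q := rep ((φ.toEquiv Q).symm (cls (chObj v c)))
  have hξ : φ.toEquiv Q (cls ξ) = cls (chObj v c) := by rw [cls_rep, Equiv.apply_symm_apply]
  obtain ⟨M₁, hM₁⟩ := natural' (symm hX hY φ) iQ (x' := chObj v b₀) (x := chObj v c)
    (chMap v iQ hQc) inferInstance (y' := chObj x a₀) (y := ξ)
    (by
      show (φ.toEquiv T₀).symm (cls (chObj v b₀)) = _
      rw [Equiv.symm_apply_eq, corr_chObj hY φ hxy, hcls])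
    (by show (φ.toEquiv Q).symm (cls (chObj v c)) = _; rw [cls_rep])
  obtain ⟨aQ, haQ, n₁, hn₁, -⟩ := hx ξ.1 a₀ M₁ hM₁
  haveI := hn₁
  haveI := fg_isIso_of_lift_id hX n₁ Q
  have he : cls (chObj x aQ) = cls ξ := cls_eq_iff.2 ⟨Fib44.fiberIso (asIso n₁) hn₁ (chObj x aQ).2 ξ.2⟩
  -- hence an isomorphism in the target stack
  have he' : cls (chObj y aQ) = cls (chObj v c) := by rw [← corr_chObj hY φ hxy, he, hξ]
  obtain ⟨Θ⟩ := cls_eq_iff.1 he'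
  haveI := Θ.hom.2
  let M : (chObj y a₀).1 ⟶ (chObj v c).1 := chMap y iQ haQ ≫ Θ.hom.1
  haveI hM : 𝒴.p.IsHomLift iQ M := by dsimp only [M]; infer_instance
  obtain ⟨κ, ⟨hκ, hκe⟩, -⟩ := exists_fac hY (𝟙 T₀) (Category.id_comp iQ) (chMap v iQ hQc) inferInstance M hM
  haveI := hκ
  haveI := fg_isIso_of_lift_id hY κ T₀
  let g : (chObj v b₀).1 ⟶ (chObj v b).1 := inv κ ≫ m₀
  haveI hg : 𝒴.p.IsHomLift i g := by dsimp only [g]; infer_instance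
  obtain ⟨c₁, hc₁, n, hn, hne⟩ := hv (chObj v b).1 b₀ g hg
  haveI := hn
  obtain ⟨j, hj, hjc⟩ := hfam c₁ hc₁
  have hja : i ≫ j ≫ aQ = a₀ := by rw [← Category.assoc, hj, haQ]
  let ψ : (chObj y (j ≫ aQ)).1 ⟶ (chObj v c).1 := chMap y j rfl ≫ Θ.hom.1
  haveI hψ : 𝒴.p.IsHomLift j ψ := by dsimp only [ψ]; infer_instance
  obtain ⟨μ, ⟨hμ, hμe⟩, -⟩ := exists_fac hY (𝟙 T) (Category.id_comp j) (chMap v j hjc) inferInstance ψ hψ
  haveI := hμ
  refine ⟨j ≫ aQ, hja, μ ≫ n, inferInstance, ?_⟩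
  -- both sides agree after composing to `v c`
  have h1 : chMap y i hja ≫ μ = κ ≫ chMap v i hc₁ := by
    obtain ⟨χ, -, huniq⟩ := exists_fac hY i hj (chMap v j hjc) inferInstance M hM
    refine (huniq _ inferInstance ?_).trans (huniq _ inferInstance ?_).symm
    · rw [Category.assoc, hμe]
      show chMap y i hja ≫ chMap y j rfl ≫ Θ.hom.1 = chMap y iQ haQ ≫ Θ.hom.1
      rw [← Category.assoc, chMap_comp y i j hja rfl iQ hj haQ]
    · rw [Category.assoc, chMap_comp v i j hc₁ hjc iQ hj hQc, hκe]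
  calc chMap y i hja ≫ μ ≫ n = (chMap y i hja ≫ μ) ≫ n := (Category.assoc _ _ _).symm
    _ = κ ≫ chMap v i hc₁ ≫ n := by rw [h1, Category.assoc]
    _ = m₀ := by rw [hne]; exact IsIso.hom_inv_id_assoc κ m₀

end Groth.Agent.IsoNat97
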