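import Groth.Agent.IsoNat97.Doubling
import Groth.Agent.IsoNat97.Lift
import Groth.Agent.AlgSt88.Fibred

/-! Glueing two objects along an open subscheme over a doubled scheme. -/

set_option autoImplicit false
set_option linter.unusedVariables false
set_option linter.style.haveILetI false
set_option backward.isDefEq.respectTransparency false
set_option backward.isDefEq.respectTransparency.types false
universe u

open CategoryTheory CategoryTheory.Limits AlgebraicGeometry Opposite AlgSt FibCat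

namespace Groth.Agent.IsoNat97

open AlgSt88 IsoNat

variable {S : Scheme.{u}} {𝒳 : AlgSt.Cat S} {O C D T : Over S} {o : O ⟶ C}

section Charts

variable {Za Zc : overCat C ⥤ᵇ 𝒳}

/-- The isomorphism of objects of two charts induced by an isomorphism on the overlap. -/
noncomputable def tw₂ (α : BasedFunctor.comp (overMap o) Za ≅ BasedFunctor.comp (overMap o) Zc) {W : Over S}
    (q q' : W ⟶ C) (r : W ⟶ O) (e : r ≫ o = q) (e' : r ≫ o = q') : (chObj Za q).1 ⟶ (chObj Zc q').1 :=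
  chMap Za (𝟙 W) ((Category.id_comp _).trans e) ≫ α.hom.toNatTrans.app (Over.mk r) ≫
    chMap Zc (𝟙 W) ((Category.id_comp _).trans e'.symm)

theorem tw₂_eq (α : BasedFunctor.comp (overMap o) Za ≅ BasedFunctor.comp (overMap o) Zc) {W : Over S} (r : W ⟶ O) :
    tw₂ α (r ≫ o) (r ≫ o) r rfl rfl = α.hom.toNatTrans.app (Over.mk r) := by
  unfold tw₂
  rw [chMap_id, chMap_id]
  exact (Category.id_comp _).trans (Category.comp_id _)

theorem tw₂_indep [Mono o] (α : BasedFunctor.comp (overMap o) Za ≅ BasedFunctor.comp (overMap o) Zc) {W : Over S}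
    (q q' : W ⟶ C) (r r' : W ⟶ O) (e₁ : r ≫ o = q) (e₂ : r ≫ o = q') (e₃ : r' ≫ o = q) (e₄ : r' ≫ o = q') :
    tw₂ α q q' r e₁ e₂ = tw₂ α q q' r' e₃ e₄ := by
  obtain rfl := (cancel_mono o).1 (e₁.trans e₃.symm)
  rfl

end Charts

variable {Zb : Bool → (overCat C ⥤ᵇ 𝒳)}

theorem exists_twisted₂ [Mono o] (d : Doubling o D) (h𝒳 : Stk.IsStack (AlgSp.J S) 𝒳)
    (α : BasedFunctor.comp (overMap o) (Zb false) ≅ BasedFunctor.comp (overMap o) (Zb true)) :
    ∃ (x : 𝒳.p.Fiber D) (m : ∀ b, ((chObj (Zb b) (𝟙 C)).1 ⟶ x.1)), (∀ b, 𝒳.p.IsHomLift (d.c b) (m b)) ∧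
      (α.hom.toNatTrans.app (Over.mk (𝟙 O))) ≫
          chMap (Zb true) ((Over.map o).obj (Over.mk (𝟙 O))).hom (Category.comp_id _) ≫ m true =
        chMap (Zb false) ((Over.map o).obj (Over.mk (𝟙 O))).hom (Category.comp_id _) ≫ m false := by
  have hm : ∀ b, Mono (d.c b) := fun b => by
    haveI := d.mono b
    exact Over.mono_of_mono_left _
  have hid : ∀ {W : Over S} (b : Bool) (q q' : W ⟶ C), q ≫ d.c b = q' ≫ d.c b → q = q' := fun b q q' h => by
    haveI := hm b
    exact (cancel_mono (d.c b)).1 h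
  let τ : Trans d.c Zb :=
    { τ := fun {W} i j q q' h => match i, j with
        | false, false => chMap (Zb false) (𝟙 W) ((Category.id_comp _).trans (hid false q q' h).symm)
        | true, true => chMap (Zb true) (𝟙 W) ((Category.id_comp _).trans (hid true q q' h).symm)
        | false, true => tw₂ α q q' (d.factor q q' h).2.choose (d.factor q q' h).2.choose_spec
            ((d.factor q q' h).2.choose_spec.trans (d.factor q q' h).1)
        | true, false => tw₂ α.symm q q' (d.factor q' q h.symm).2.choose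
            ((d.factor q' q h.symm).2.choose_spec.trans (d.factor q' q h.symm).1) (d.factor q' q h.symm).2.choose_spec
      lift := fun {W} i j q q' h => by
        rcases i with _ | _ <;> rcases j with _ | _
        · exact isHomLift_chMap _ _ _
        · dsimp only [tw₂]
          haveI : 𝒳.p.IsHomLift (𝟙 W) (α.hom.toNatTrans.app (Over.mk (d.factor q q' h).2.choose)) :=
            α.hom.isHomLift' (Over.mk (d.factor q q' h).2.choose)
          infer_instance
        · dsimp only [tw₂]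
          haveI : 𝒳.p.IsHomLift (𝟙 W) (α.symm.hom.toNatTrans.app (Over.mk (d.factor q' q h.symm).2.choose)) :=
            α.symm.hom.isHomLift' (Over.mk (d.factor q' q h.symm).2.choose)
          infer_instance
        · exact isHomLift_chMap _ _ _
      self := fun {W} i q => by rcases i with _ | _ <;> exact chMap_id _ q _
      trans := fun {W} i j k qi qj qk h h' => by
        rcases i with _ | _ <;> rcases j with _ | _ <;> rcases k with _ | _
        all_goals dsimp only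
        · exact chMap_comp _ _ _ _ _ _ (Category.id_comp _) _
        · obtain rfl := hid false qi qj h; rw [chMap_id, Category.id_comp]
        · obtain ⟨rfl, r, rfl⟩ := d.factor qi qj h
          obtain ⟨e, -⟩ := d.factor qk _ h'.symm
          subst e
          rw [tw₂_indep α _ _ _ r _ _ rfl rfl, tw₂_indep α.symm _ _ _ r _ _ rfl rfl, tw₂_eq, tw₂_eq, chMap_id]
          exact congrArg (fun t => t.toNatTrans.app (Over.mk r)) α.hom_inv_id
        · obtain rfl := hid true qj qk h'; rw [chMap_id, Category.comp_id]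
        · obtain rfl := hid false qj qk h'; rw [chMap_id, Category.comp_id]
        · obtain ⟨rfl, r, rfl⟩ := d.factor qj qi h.symm
          obtain ⟨e, -⟩ := d.factor _ qk h'
          subst e
          rw [tw₂_indep α _ _ _ r _ _ rfl rfl, tw₂_indep α.symm _ _ _ r _ _ rfl rfl, tw₂_eq, tw₂_eq, chMap_id]
          exact congrArg (fun t => t.toNatTrans.app (Over.mk r)) α.inv_hom_id
        · obtain rfl := hid true qi qj h; rw [chMap_id, Category.id_comp]
        · exact chMap_comp _ _ _ _ _ _ (Category.id_comp _) _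
      natural := fun {W' W} g i j qi qj qi' qj' hi hj h h' => by
        subst hi hj
        rcases i with _ | _ <;> rcases j with _ | _
        all_goals dsimp only
        · obtain rfl := hid false qi qj h
          rw [chMap_comp _ g (𝟙 W) _ _ g (Category.comp_id g) rfl, chMap_comp _ (𝟙 W') g _ _ g (Category.id_comp g) rfl]
        · obtain ⟨rfl, r, rfl⟩ := d.factor qi qj h
          rw [tw₂_indep α _ _ _ r _ _ rfl rfl, tw₂_indep α _ _ _ (g ≫ r) _ _ (Category.assoc _ _ _) (Category.assoc _ _ _), tw₂_eq]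
          have hn := α.hom.toNatTrans.naturality (Over.homMk g rfl : Over.mk (g ≫ r) ⟶ Over.mk r)
          have key : ∀ (q : W' ⟶ C) (e : (g ≫ r) ≫ o = q) (h1 : g ≫ r ≫ o = q),
              chMap (Zb false) g h1 ≫ α.hom.toNatTrans.app (Over.mk r) = tw₂ α q q (g ≫ r) e e ≫ chMap (Zb true) g h1 := by
            intro q e h1
            subst e
            rw [tw₂_eq]
            exact hn
          exact key _ _ _
        · obtain ⟨rfl, r, rfl⟩ := d.factor qj qi h.symm
          rw [tw₂_indep α.symm _ _ _ r _ _ rfl rfl, tw₂_indep α.symm _ _ _ (g ≫ r) _ _ (Category.assoc _ _ _) (Category.assoc _ _ _), tw₂_eq]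
          have hn := α.symm.hom.toNatTrans.naturality (Over.homMk g rfl : Over.mk (g ≫ r) ⟶ Over.mk r)
          have key : ∀ (q : W' ⟶ C) (e : (g ≫ r) ≫ o = q) (h1 : g ≫ r ≫ o = q),
              chMap (Zb true) g h1 ≫ α.symm.hom.toNatTrans.app (Over.mk r) = tw₂ α.symm q q (g ≫ r) e e ≫ chMap (Zb false) g h1 := by
            intro q e h1
            subst e
            rw [tw₂_eq]
            exact hn
          exact key _ _ _
        · obtain rfl := hid true qi qj h
          rw [chMap_comp _ g (𝟙 W) _ _ g (Category.comp_id g) rfl, chMap_comp _ (𝟙 W') g _ _ g (Category.id_comp g) rfl] }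
  obtain ⟨R, hR, hc, hfac⟩ := d.exists_sieve
  obtain ⟨x, m, hm', hcomp⟩ := exists_glue_trans (AlgSp.J S) h𝒳 τ R hR hc hfac
  refine ⟨x, m, hm', ?_⟩
  have hq : (𝟙 O ≫ o) ≫ d.c false = (𝟙 O ≫ o) ≫ d.c true := by rw [Category.assoc, Category.assoc, d.agree]
  have h1 := hcomp (W := O) false true (𝟙 O ≫ o) (𝟙 O ≫ o) hq
  change tw₂ α (𝟙 O ≫ o) (𝟙 O ≫ o) (d.factor _ _ hq).2.choose (d.factor _ _ hq).2.choose_spec
    ((d.factor _ _ hq).2.choose_spec.trans (d.factor _ _ hq).1) ≫ _ = _ at h1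
  rw [tw₂_indep α _ _ _ (𝟙 O) _ _ rfl rfl, tw₂_eq] at h1
  exact h1

/-- Two objects isomorphic on the overlap glue to an object on the doubled scheme. -/
theorem exists_glue₂ [IsOpenImmersion o.left] (h𝒳 : Stk.IsStack (AlgSp.J S) 𝒳) (d : Doubling o D) {x : Bool → 𝒳.p.Fiber C}
    {z : 𝒳.p.Fiber O} (az : ∀ b, z.1 ⟶ (x b).1) (haz : ∀ b, 𝒳.p.IsHomLift o (az b)) :
    ∃ (W : 𝒳.p.Fiber D) (m : ∀ b, (x b).1 ⟶ W.1), (∀ b, 𝒳.p.IsHomLift (d.c b) (m b)) ∧
      az true ≫ m true = az false ≫ m false := by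
  have hX := h𝒳.1
  haveI : Mono o := Over.mono_of_mono_left _
  choose k hk using fun b => classify_mk_id hX (x b).1 (x b).2
  let Zb : Bool → (overCat C ⥤ᵇ 𝒳) := fun b => classify hX (x b).1 (x b).2
  let E : ∀ b, (chObj (Zb b) ((Over.map o).obj (Over.mk (𝟙 O))).hom).1 ⟶ (x b).1 := fun b =>
    chMap (Zb b) ((Over.map o).obj (Over.mk (𝟙 O))).hom (Category.comp_id _) ≫ (k b).hom
  have hc : ∀ b, ∃ c : (chObj (Zb b) ((Over.map o).obj (Over.mk (𝟙 O))).hom).1 ⟶ z.1,
      𝒳.p.IsHomLift (𝟙 O) c ∧ c ≫ az b = E b := fun b => by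
    haveI := hk b
    obtain ⟨c, hc, -⟩ := exists_fac hX (𝟙 O) rfl (az b) (haz b) (E b) (by
      have h : 𝒳.p.IsHomLift (((Over.map o).obj (Over.mk (𝟙 O))).hom ≫ 𝟙 C) (E b) := inferInstance
      rwa [Category.comp_id] at h)
    exact ⟨c, hc⟩
  choose c hcl hce using hc
  haveI := hcl false
  haveI := hcl true
  haveI := fg_isIso_of_lift_id hX (c true) O
  haveI := fg_isIso_of_lift_id hX (c false) O
  haveI : 𝒳.p.IsHomLift (𝟙 O) (c false ≫ inv (c true)) := inferInstance
  haveI := fg_isIso_of_lift_id hX (c false ≫ inv (c true)) O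
  obtain ⟨α, hα⟩ := Fib44.exists_natTrans_at_id (G := BasedFunctor.comp (overMap o) (Zb false))
    (H := BasedFunctor.comp (overMap o) (Zb true)) (Fib44.cartAtId_of_fibGrpd hX _) (c false ≫ inv (c true))
  haveI : IsIso (α.toNatTrans.app (Fib44.idObj O)) := by rw [hα]; infer_instance
  haveI := Fib44.isIso_natTrans_at_id (Fib44.cartAtId_of_fibGrpd hX (BasedFunctor.comp (overMap o) (Zb false)))
    (Fib44.cartAtId_of_fibGrpd hX (BasedFunctor.comp (overMap o) (Zb true))) α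
  obtain ⟨W, m, hm, hrel⟩ := exists_twisted₂ d h𝒳 (asIso α)
  haveI := fun b => fg_isIso_of_lift_id hX (k b).hom C
  have h1 : (c false ≫ inv (c true)) ≫ chMap (Zb true) ((Over.map o).obj (Over.mk (𝟙 O))).hom (Category.comp_id _) ≫ m true =
      chMap (Zb false) ((Over.map o).obj (Over.mk (𝟙 O))).hom (Category.comp_id _) ≫ m false := by
    rw [← hα]; exact hrel
  refine ⟨W, fun b => (k b).inv ≫ m b, fun b => ?_, ?_⟩
  · haveI := hm b
    haveI := hk b
    haveI : 𝒳.p.IsHomLift (𝟙 C) (k b).inv := IsHomLift.lift_id_inv _ _ _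
    infer_instance
  · rw [← cancel_epi (c false)]
    show c false ≫ az true ≫ (k true).inv ≫ m true = c false ≫ az false ≫ (k false).inv ≫ m false
    have e : ∀ b, c b ≫ az b ≫ (k b).inv ≫ m b =
        chMap (Zb b) ((Over.map o).obj (Over.mk (𝟙 O))).hom (Category.comp_id _) ≫ m b := fun b => by
      rw [← Category.assoc (c b), hce b]
      simp only [E, Category.assoc, Iso.hom_inv_id_assoc]
    rw [e false, ← h1, ← e true]
    simp

/-- Morphisms given on the two pieces, compatible on the overlap, glue. -/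
theorem exists_hom_glue₂ (h𝒳 : Stk.IsStack (AlgSp.J S) 𝒳) (d : Doubling o D) {x : Bool → 𝒳.p.Fiber C}
    {z : 𝒳.p.Fiber O} (az : ∀ b, z.1 ⟶ (x b).1) (haz : ∀ b, 𝒳.p.IsHomLift o (az b)) {W : 𝒳.p.Fiber D}
    (m : ∀ b, (x b).1 ⟶ W.1) (hm : ∀ b, 𝒳.p.IsHomLift (d.c b) (m b)) (hmτ : az true ≫ m true = az false ≫ m false)
    {y : 𝒳.p.Fiber T} (f : D ⟶ T) (n : ∀ b, (x b).1 ⟶ y.1) (hn : ∀ b, 𝒳.p.IsHomLift (d.c b ≫ f) (n b))
    (hnτ : az true ≫ n true = az false ≫ n false) :
    ∃ h : W.1 ⟶ y.1, 𝒳.p.IsHomLift f h ∧ ∀ b, m b ≫ h = n b := by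
  have hX := h𝒳.1
  obtain ⟨y', a, ha⟩ := exists_lift_fiber hX f y
  have hn' : ∀ b, ∃ n' : (x b).1 ⟶ y'.1, 𝒳.p.IsHomLift (d.c b) n' ∧ n' ≫ a = n b := fun b => by
    obtain ⟨c, hc, -⟩ := exists_fac hX (d.c b) rfl a ha (n b) (hn b)
    exact ⟨c, hc⟩
  choose n' hn'l hn'e using hn'
  haveI := ha
  have hn'τ : az true ≫ n' true = az false ≫ n' false := by
    haveI := haz true
    haveI := haz false
    haveI := hn'l true
    haveI := hn'l false
    obtain ⟨χ, -, huniq⟩ := exists_fac hX (o ≫ d.c false) rfl a ha (az false ≫ n false) (by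
      haveI := hn false
      have h : 𝒳.p.IsHomLift (o ≫ d.c false ≫ f) (az false ≫ n false) := inferInstance
      rwa [← Category.assoc] at h)
    refine (huniq _ ?_ ?_).trans (huniq _ inferInstance ?_).symm
    · rw [d.agree]
      infer_instance
    · rw [Category.assoc, hn'e, hnτ]
    · rw [Category.assoc, hn'e]
  obtain ⟨R, hR, hc, hfac⟩ := d.exists_sieve
  have hwd : ∀ {V : Over S} {w : 𝒳.obj} (φ : w ⟶ W.1) (b b' : Bool) (q q' : V ⟶ C) (χ : w ⟶ (x b).1) (χ' : w ⟶ (x b').1),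
      q ≫ d.c b = q' ≫ d.c b' → 𝒳.p.IsHomLift q χ → 𝒳.p.IsHomLift q' χ' → χ ≫ m b = φ → χ' ≫ m b' = φ →
        χ ≫ n' b = χ' ≫ n' b' := by
    intro V w φ b b' q q' χ χ' hq hχ hχ' e e'
    have hφ : 𝒳.p.IsHomLift (q ≫ d.c b) φ := by
      haveI := hm b
      rw [← e]
      infer_instance
    have same : ∀ (b : Bool) (q q' : V ⟶ C) (χ χ' : w ⟶ (x b).1), q ≫ d.c b = q' ≫ d.c b →
        𝒳.p.IsHomLift q χ → 𝒳.p.IsHomLift q' χ' → χ ≫ m b = χ' ≫ m b → χ = χ' := by
      intro b q q' χ χ' hq hχ hχ' e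
      haveI := d.mono b
      haveI : Mono (d.c b) := Over.mono_of_mono_left _
      obtain rfl := (cancel_mono (d.c b)).1 hq
      haveI := hm b
      obtain ⟨w₀, -, huniq⟩ := exists_fac hX q rfl (m b) (hm b) (χ ≫ m b) inferInstance
      exact (huniq χ hχ rfl).trans (huniq χ' hχ' e.symm).symm
    have cross : ∀ (q q' : V ⟶ C) (χ : w ⟶ (x false).1) (χ' : w ⟶ (x true).1), q ≫ d.c false = q' ≫ d.c true →
        𝒳.p.IsHomLift q χ → 𝒳.p.IsHomLift q' χ' → χ ≫ m false = φ → χ' ≫ m true = φ →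
          χ ≫ n' false = χ' ≫ n' true := by
      intro q q' χ χ' hq hχ hχ' e e'
      obtain ⟨rfl, r, rfl⟩ := d.factor q q' hq
      obtain ⟨ψ, ⟨hψ, hψe⟩, -⟩ := exists_fac hX r rfl (az false) (haz false) χ hχ
      haveI := hψ
      haveI := haz true
      have h1 : ψ ≫ az true = χ' := same true (r ≫ o) (r ≫ o) _ χ' rfl inferInstance hχ' (by
        rw [Category.assoc, hmτ, ← Category.assoc, hψe, e, e'])
      rw [← h1, Category.assoc, hn'τ, ← Category.assoc, hψe]
    rcases b with _ | _ <;> rcases b' with _ | _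
    · rw [same false q q' χ χ' hq hχ hχ' (e.trans e'.symm)]
    · exact cross q q' χ χ' hq hχ hχ' e e'
    · exact (cross q' q χ' χ hq.symm hχ' hχ e' e).symm
    · rw [same true q q' χ χ' hq hχ hχ' (e.trans e'.symm)]
  have hex : ∀ ⦃z : 𝒳.obj⦄ (φ : z ⟶ W.1), R (𝒳.p.map φ ≫ eqToHom W.2) →
      ∃ (b : Bool) (q : 𝒳.p.obj z ⟶ C) (χ : z ⟶ (x b).1), q ≫ d.c b = 𝒳.p.map φ ≫ eqToHom W.2 ∧
        𝒳.p.IsHomLift q χ ∧ χ ≫ m b = φ := by
    intro z φ h
    obtain ⟨b, q, hq⟩ := hfac _ h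
    obtain ⟨χ, hχ, -⟩ := exists_fac hX q hq (m b) (hm b) φ (IsHomLift.of_fac' 𝒳.p _ φ rfl W.2 (by simp))
    exact ⟨b, q, χ, hq, hχ⟩
  choose bb qq χχ hqq hχl hχe using hex
  let θ : ∀ ⦃z : 𝒳.obj⦄ (φ : z ⟶ W.1), R (𝒳.p.map φ ≫ eqToHom W.2) → (z ⟶ y'.1) :=
    fun z φ h => χχ φ h ≫ n' (bb φ h)
  obtain ⟨k, ⟨hk, hkθ⟩, -⟩ := ((Fib44.isStack_iff.1 h𝒳).2 R hR).1 (x := W.1) (y := y'.1) W.2 y'.2 θ
    (fun z φ h => by
      haveI := hχl φ h
      haveI := hn'l (bb φ h)
      have h1 : 𝒳.p.IsHomLift (qq φ h ≫ d.c (bb φ h)) (θ φ h) := inferInstanceAs (𝒳.p.IsHomLift _ (χχ φ h ≫ n' (bb φ h)))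
      rwa [hqq φ h] at h1)
    (fun z' z u φ h h' => by
      haveI := hχl φ h
      haveI : 𝒳.p.IsHomLift (𝒳.p.map u) u := inferInstance
      show χχ (u ≫ φ) h' ≫ n' (bb (u ≫ φ) h') = u ≫ χχ φ h ≫ n' (bb φ h)
      rw [← Category.assoc]
      refine hwd (u ≫ φ) _ _ (qq _ h') (𝒳.p.map u ≫ qq φ h) _ _ ?_ (hχl _ h') inferInstance (hχe _ h') ?_
      · rw [hqq, Category.assoc, hqq, ← Category.assoc, ← Functor.map_comp]
      · rw [Category.assoc, hχe])
  haveI := hk
  have hl : 𝒳.p.IsHomLift f (k ≫ a) := inferInstance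
  refine ⟨k ≫ a, hl, fun b => ?_⟩
  haveI := hm b
  have hd : 𝒳.p.map (m b) ≫ eqToHom W.2 = eqToHom (x b).2 ≫ d.c b := by
    rw [IsHomLift.fac' 𝒳.p (d.c b) (m b)]; simp
  have hR' : R (𝒳.p.map (m b) ≫ eqToHom W.2) := by rw [hd]; exact R.downward_closed (hc b) _
  rw [← Category.assoc, hkθ (m b) hR', ← hn'e b]
  congr 1
  exact (hwd (m b) (bb _ hR') b (qq _ hR') (eqToHom (x b).2) (χχ _ hR') (𝟙 _) ((hqq _ hR').trans hd)
    (hχl _ hR') (IsHomLift.of_fac' 𝒳.p _ (𝟙 _) rfl (x b).2 (by simp)) (hχe _ hR')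
    (Category.id_comp _)).trans (Category.id_comp _)

end Groth.Agent.IsoNat97
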