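import Groth.Agent.IsoNat97.Lift
import Groth.Agent.Fib44.Glue

/-! Glueing objects given on charts by transition isomorphisms. -/

set_option autoImplicit false
set_option linter.unusedVariables false
set_option linter.style.haveILetI false
set_option backward.isDefEq.respectTransparency false
set_option backward.isDefEq.respectTransparency.types false
universe u

open CategoryTheory CategoryTheory.Limits AlgebraicGeometry Opposite AlgSt FibCat

namespace Groth.Agent.IsoNat97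

open AlgSt88

variable {S : Scheme.{u}} {𝒳 : AlgSt.Cat S} {ι : Type} {C : ι → Over S} {T : Over S} {c : ∀ i, C i ⟶ T}
  {Z : ∀ i, overCat (C i) ⥤ᵇ 𝒳}

/-- Transition isomorphisms between charts on a covering. -/
structure Trans (c : ∀ i, C i ⟶ T) (Z : ∀ i, overCat (C i) ⥤ᵇ 𝒳) where
  τ : ∀ {W : Over S} (i j : ι) (qi : W ⟶ C i) (qj : W ⟶ C j), qi ≫ c i = qj ≫ c j →
    ((chObj (Z i) qi).1 ⟶ (chObj (Z j) qj).1)
  lift : ∀ {W : Over S} (i j : ι) (qi : W ⟶ C i) (qj : W ⟶ C j) (h : qi ≫ c i = qj ≫ c j),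
    𝒳.p.IsHomLift (𝟙 W) (τ i j qi qj h)
  self : ∀ {W : Over S} (i : ι) (q : W ⟶ C i), τ i i q q rfl = 𝟙 _
  trans : ∀ {W : Over S} (i j k : ι) (qi : W ⟶ C i) (qj : W ⟶ C j) (qk : W ⟶ C k) (h : qi ≫ c i = qj ≫ c j)
    (h' : qj ≫ c j = qk ≫ c k), τ i j qi qj h ≫ τ j k qj qk h' = τ i k qi qk (h.trans h')
  natural : ∀ {W' W : Over S} (g : W' ⟶ W) (i j : ι) (qi : W ⟶ C i) (qj : W ⟶ C j) (qi' : W' ⟶ C i)
    (qj' : W' ⟶ C j) (hi : g ≫ qi = qi') (hj : g ≫ qj = qj') (h : qi ≫ c i = qj ≫ c j)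
    (h' : qi' ≫ c i = qj' ≫ c j),
    chMap (Z i) g hi ≫ τ i j qi qj h = τ i j qi' qj' h' ≫ chMap (Z j) g hj

theorem exists_glue_trans (J : GrothendieckTopology (Over S)) (h𝒳 : Stk.IsStack J 𝒳) (τ : Trans c Z)
    (R : Sieve T) (hR : R ∈ J T) (hc : ∀ i, R (c i))
    (hfac : ∀ ⦃W : Over S⦄ (g : W ⟶ T), R g → ∃ (i : ι) (q : W ⟶ C i), q ≫ c i = g) :
    ∃ (x : 𝒳.p.Fiber T) (m : ∀ i, (chObj (Z i) (𝟙 (C i))).1 ⟶ x.1), (∀ i, 𝒳.p.IsHomLift (c i) (m i)) ∧
      ∀ {W : Over S} (i j : ι) (qi : W ⟶ C i) (qj : W ⟶ C j) (h : qi ≫ c i = qj ≫ c j),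
        τ.τ i j qi qj h ≫ chMap (Z j) qj (Category.comp_id qj) ≫ m j =
          chMap (Z i) qi (Category.comp_id qi) ≫ m i := by
  have hsel : ∀ a : R.arrows.category, ∃ (i : ι) (q : a.obj.left ⟶ C i), q ≫ c i = a.obj.hom :=
    fun a => hfac a.obj.hom a.property
  choose sel q hq using hsel
  have hw : ∀ {a b : R.arrows.category} (f : a ⟶ b),
      q a ≫ c (sel a) = (f.hom.left ≫ q b) ≫ c (sel b) := fun {a b} f => by
    rw [hq a, Category.assoc, hq b]; exact (Over.w f.hom).symm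
  let mor : ∀ {a b : R.arrows.category} (f : a ⟶ b), (chObj (Z (sel a)) (q a)).1 ⟶ (chObj (Z (sel b)) (q b)).1 :=
    fun {a b} f => τ.τ (sel a) (sel b) (q a) (f.hom.left ≫ q b) (hw f) ≫ chMap (Z (sel b)) f.hom.left rfl
  have hmor : ∀ {a b : R.arrows.category} (f : a ⟶ b), 𝒳.p.IsHomLift f.hom.left (mor f) := fun {a b} f => by
    haveI := τ.lift _ _ (q a) (f.hom.left ≫ q b) (hw f)
    dsimp only [mor]
    infer_instance
  let G : Stk.sieveCat R ⥤ᵇ 𝒳 :=
    { toFunctor :=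
        { obj := fun a => (chObj (Z (sel a)) (q a)).1
          map := fun f => mor f
          map_id := fun a => by
            have key : ∀ (g : a.obj.left ⟶ a.obj.left) (hg : g = 𝟙 _) (h : q a ≫ c (sel a) = (g ≫ q a) ≫ c (sel a)),
                τ.τ (sel a) (sel a) (q a) (g ≫ q a) h ≫ chMap (Z (sel a)) g rfl = 𝟙 _ := by
              intro g hg h
              subst hg
              rw [← τ.natural (𝟙 _) (sel a) (sel a) (q a) (q a) (q a) (𝟙 _ ≫ q a) (Category.id_comp _) rfl rfl h,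
                τ.self, Category.comp_id]
              exact (Z (sel a)).map_id _
            exact key _ rfl _
          map_comp := fun {a b d} f g => by
            have h1 := τ.natural f.hom.left (sel b) (sel d) (q b) (g.hom.left ≫ q d) (f.hom.left ≫ q b)
              ((f ≫ g).hom.left ≫ q d) rfl (by rw [← Category.assoc]; rfl) (hw g)
              ((by rw [Category.assoc, hw g, ← Category.assoc, ← Category.assoc]; rfl :
                (f.hom.left ≫ q b) ≫ c (sel b) = ((f ≫ g).hom.left ≫ q d) ≫ c (sel d)))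
            show mor (f ≫ g) = mor f ≫ mor g
            show τ.τ (sel a) (sel d) (q a) ((f ≫ g).hom.left ≫ q d) _ ≫ chMap (Z (sel d)) (f ≫ g).hom.left rfl =
              (τ.τ (sel a) (sel b) (q a) (f.hom.left ≫ q b) _ ≫ chMap (Z (sel b)) f.hom.left rfl) ≫
                τ.τ (sel b) (sel d) (q b) (g.hom.left ≫ q d) _ ≫ chMap (Z (sel d)) g.hom.left rfl
            rw [Category.assoc, ← Category.assoc (chMap (Z (sel b)) f.hom.left rfl), h1, Category.assoc, ← Category.assoc,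
              τ.trans]
            congr 1
            exact (chMap_comp (Z (sel d)) f.hom.left g.hom.left (by rw [← Category.assoc]; rfl) rfl
              (f ≫ g).hom.left rfl rfl).symm }
      w := CategoryTheory.Functor.ext (fun (a : R.arrows.category) => (chObj (Z (sel a)) (q a)).2) (fun a b f => by
        haveI := hmor f
        exact IsHomLift.fac' 𝒳.p f.hom.left (mor f)) }
  obtain ⟨x, γ, hγ⟩ := ((Fib44.isStack_iff.1 h𝒳).2 R hR).2 G
  let a : ι → R.arrows.category := fun i => ⟨Over.mk (c i), hc i⟩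
  have hmem : ∀ {W : Over S} (i : ι) (qi : W ⟶ C i), R (qi ≫ c i) := fun i qi => R.downward_closed (hc i) qi
  let m : ∀ i, (chObj (Z i) (𝟙 (C i))).1 ⟶ x := fun i =>
    τ.τ i (sel (a i)) (𝟙 _) (q (a i)) ((Category.id_comp _).trans (hq (a i)).symm) ≫ γ (a i)
  refine ⟨⟨x, hγ.over⟩, m, fun i => ?_, fun {W} i j qi qj h => ?_⟩
  · haveI := τ.lift i (sel (a i)) (𝟙 _) (q (a i)) ((Category.id_comp _).trans (hq (a i)).symm)
    haveI : 𝒳.p.IsHomLift (c i) (γ (a i)) := hγ.lift (a i)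
    dsimp only [m]
    infer_instance
  · let o : R.arrows.category := ⟨Over.mk (qi ≫ c i), hmem i qi⟩
    have key : ∀ (k : ι) (qk : W ⟶ C k) (hk : qk ≫ c k = qi ≫ c i),
        chMap (Z k) qk (Category.comp_id qk) ≫ m k = τ.τ k (sel o) qk (q o) (hk.trans (hq o).symm) ≫ γ o := by
      intro k qk hk
      let f : o ⟶ a k := ObjectProperty.homMk (Over.homMk qk hk : Over.mk (qi ≫ c i) ⟶ Over.mk (c k))
      have hn : mor f ≫ γ (a k) = γ o := hγ.nat f
      have h2 : qk ≫ c k = (qk ≫ q (a k)) ≫ c (sel (a k)) := by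
        rw [Category.assoc, hq (a k)]; rfl
      show chMap (Z k) qk _ ≫ τ.τ k (sel (a k)) (𝟙 _) (q (a k)) _ ≫ γ (a k) = _
      rw [← Category.assoc, τ.natural qk k (sel (a k)) (𝟙 _) (q (a k)) qk (qk ≫ q (a k)) (Category.comp_id _) rfl _ h2,
        ← hn, Category.assoc]
      show _ = τ.τ k (sel o) qk (q o) _ ≫ (τ.τ (sel o) (sel (a k)) (q o) (qk ≫ q (a k)) _ ≫
        chMap (Z (sel (a k))) qk rfl) ≫ γ (a k)
      rw [Category.assoc, ← Category.assoc (τ.τ k (sel o) qk (q o) _), τ.trans]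
    rw [key j qj h.symm, key i qi rfl, ← Category.assoc, τ.trans]

end Groth.Agent.IsoNat97
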