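import Groth.Agent.IsoNat97.LiftSec
import Groth.Agent.S1488
import Groth.Agent.Henz21.SchemeSections

/-! Sections of smooth algebraic spaces lift from strictly henselian local rings to square-zero thickenings. -/

set_option autoImplicit false
set_option linter.unusedVariables false
set_option linter.style.haveILetI false
set_option backward.isDefEq.respectTransparency false
set_option backward.isDefEq.respectTransparency.types false
universe u

open CategoryTheory CategoryTheory.Limits AlgebraicGeometry Opposite AlgSp IsLocalRing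

namespace Groth.Agent.IsoNat97

variable {S : Scheme.{u}}

/-- A surjection from an etale cover has a section over a strictly henselian local ring. -/
theorem exists_lift_cover {A₀ : Type u} [CommRing A₀] [HenselianLocalRing A₀] [IsSepClosed (ResidueField A₀)]
    {W : Over S} {F : AlgSp.Sp S} {p : (yon S).obj W ⟶ F} (hp : RepWith @Etale p) (hps : RepWith @Surjective p)
    (str : Spec (CommRingCat.of A₀) ⟶ S) (s₀ : (yon S).obj (Over.mk str) ⟶ F) :
    ∃ w : Over.mk str ⟶ W, (yon S).map w ≫ p = s₀ := by
  let f : (hp.rep.pullback s₀).left ⟶ Spec (CommRingCat.of A₀) := (hp.rep.snd s₀).left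
  haveI : Etale f := hp.property_snd s₀
  haveI : Surjective f := hps.property _ _ _ (hp.rep.isPullback s₀)
  obtain ⟨x, hx⟩ := f.surjective (closedPoint A₀)
  obtain ⟨u, hu, -⟩ := Henz21.exists_section (hp.rep.pullback s₀).left f x hx
  let u' : Over.mk str ⟶ hp.rep.pullback s₀ := Over.homMk u (by
    rw [← Over.w (hp.rep.snd s₀), ← Category.assoc]
    exact (congrArg (· ≫ str) hu).trans (Category.id_comp _))
  have hu' : u' ≫ hp.rep.snd s₀ = 𝟙 _ := by ext : 1; exact hu
  obtain ⟨t, ht⟩ := (yon S).map_surjective ((yon S).map u' ≫ hp.rep.fst s₀)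
  refine ⟨t, ?_⟩
  rw [ht, Category.assoc, (hp.rep.isPullback s₀).w, ← Category.assoc, ← Functor.map_comp, hu',
    CategoryTheory.Functor.map_id, Category.id_comp]

/-- Smooth algebraic spaces have lifting of sections from strictly henselian local rings. -/
theorem secLifts_smooth {A A₀ : Type u} [CommRing A] [CommRing A₀] (q : A →+* A₀) (hq : Function.Surjective q)
    (hsq : RingHom.ker q ^ 2 = ⊥) [HenselianLocalRing A₀] [IsSepClosed (ResidueField A₀)]
    {str : Spec (CommRingCat.of A) ⟶ S} {str₀ : Spec (CommRingCat.of A₀) ⟶ S}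
    (i : Over.mk str₀ ⟶ Over.mk str) (hi : i.left = Spec.map (CommRingCat.ofHom q)) :
    SecLifts (AlgSp.LocP @Smooth) i := by
  intro F π hπ s₀ hs₀
  obtain ⟨W, p, hp, hps⟩ := F.property.atlas
  obtain ⟨n, hn⟩ := (yon S).map_surjective (p ≫ π)
  haveI : Smooth n.left :=
    hπ p (𝟙 _) n hp (AlgSp.repWith_id _ _) (by rw [Category.comp_id]; exact hn.symm)
  obtain ⟨w, hw⟩ := exists_lift_cover hp hps _ s₀
  have hwn : w ≫ n = i := (yon S).map_injective (by
    rw [Functor.map_comp, hn, ← Category.assoc, hw, hs₀])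
  let E := RingHom.quotientKerEquivOfSurjective hq
  have hE₁ : CommRingCat.ofHom (Ideal.Quotient.mk (RingHom.ker q)) ≫ CommRingCat.ofHom E.toRingHom =
      CommRingCat.ofHom q := by
    apply CommRingCat.hom_ext; ext a
    exact RingHom.quotientKerEquivOfSurjective_apply_mk hq a
  have hE₂ : CommRingCat.ofHom q ≫ CommRingCat.ofHom E.symm.toRingHom =
      CommRingCat.ofHom (Ideal.Quotient.mk (RingHom.ker q)) := by
    apply CommRingCat.hom_ext; ext a
    exact E.symm_apply_eq.2 (RingHom.quotientKerEquivOfSurjective_apply_mk hq a).symm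
  have hE₃ : CommRingCat.ofHom E.symm.toRingHom ≫ CommRingCat.ofHom E.toRingHom = 𝟙 _ := by
    apply CommRingCat.hom_ext; ext a
    exact E.apply_symm_apply a
  obtain ⟨l, hl₁, hl₂⟩ := ((Groth.Agent.S1488.result n.left).1 inferInstance).2 A (RingHom.ker q) hsq
    (Spec.map (CommRingCat.ofHom E.symm.toRingHom) ≫ w.left) (𝟙 _) (by
      rw [Category.comp_id, Category.assoc, ← Over.comp_left, hwn, hi, ← Spec.map_comp, hE₂])
  let l' : Over.mk str ⟶ W := Over.homMk l (by
    rw [← Over.w n, ← Category.assoc]
    exact (congrArg (· ≫ str) hl₂).trans (Category.id_comp _))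
  have h1 : i ≫ l' = w := by
    ext : 1
    show i.left ≫ l = w.left
    rw [hi, ← hE₁, Spec.map_comp, Category.assoc, hl₁, ← Category.assoc, ← Spec.map_comp, hE₃, Spec.map_id]
    exact Category.id_comp _
  have h2 : l' ≫ n = 𝟙 _ := by ext : 1; exact hl₂
  refine ⟨(yon S).map l' ≫ p, ?_, ?_⟩
  · rw [Category.assoc, ← hn, ← Functor.map_comp, h2, CategoryTheory.Functor.map_id]
  · rw [← Category.assoc, ← Functor.map_comp, h1, hw]

end Groth.Agent.IsoNat97
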