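import Groth.Agent.IsoNat97.AutSpace
import Groth.Agent.IsoNat97.SmoothSec
import Groth.Agent.SpFP87.InfRep
import Mathlib.Algebra.DualNumber

/-! Infinitesimal automorphisms of an object over a field are derivations, with addition as composition. -/

set_option autoImplicit false
set_option linter.unusedVariables false
set_option linter.style.haveILetI false
set_option backward.isDefEq.respectTransparency false
set_option backward.isDefEq.respectTransparency.types false
universe u

open CategoryTheory CategoryTheory.Limits AlgebraicGeometry Opposite AlgSt FibCat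

namespace Groth.Agent.IsoNat97

open AlgSt88

variable {S : Scheme.{u}}

section Pt

variable {k : Type u} [CommRing k] {s₀ : Spec (CommRingCat.of k) ⟶ S}

/-- The spectrum of an algebra over the field, over the base. -/
noncomputable abbrev aPt (s₀ : Spec (CommRingCat.of k) ⟶ S) (A : Type u) [CommRing A] [Algebra k A] : Over S :=
  Over.mk (Spec.map (CommRingCat.ofHom (algebraMap k A)) ≫ s₀)

/-- Its morphism to the point. -/
noncomputable abbrev aStr (s₀ : Spec (CommRingCat.of k) ⟶ S) (A : Type u) [CommRing A] [Algebra k A] :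
    aPt s₀ A ⟶ Over.mk s₀ :=
  Over.homMk (Spec.map (CommRingCat.ofHom (algebraMap k A))) rfl

/-- The morphism of an algebra homomorphism. -/
noncomputable abbrev aMap (s₀ : Spec (CommRingCat.of k) ⟶ S) {A A' : Type u} [CommRing A] [Algebra k A] [CommRing A']
    [Algebra k A'] (f : A →ₐ[k] A') : aPt s₀ A' ⟶ aPt s₀ A :=
  Over.homMk (Spec.map (CommRingCat.ofHom f.toRingHom)) (by
    show _ ≫ Spec.map _ ≫ s₀ = _
    rw [← Category.assoc, ← Spec.map_comp, ← CommRingCat.ofHom_comp]
    congr 3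
    exact RingHom.ext f.commutes)

theorem aMap_aStr {A A' : Type u} [CommRing A] [Algebra k A] [CommRing A'] [Algebra k A'] (f : A →ₐ[k] A') :
    aMap s₀ f ≫ aStr s₀ A = aStr s₀ A' := by
  ext : 1
  show Spec.map _ ≫ Spec.map _ = _
  rw [← Spec.map_comp, ← CommRingCat.ofHom_comp]
  congr 2
  exact RingHom.ext f.commutes

theorem aMap_comp {A A' A'' : Type u} [CommRing A] [Algebra k A] [CommRing A'] [Algebra k A'] [CommRing A'']
    [Algebra k A''] (f : A →ₐ[k] A') (g : A' →ₐ[k] A'') : aMap s₀ g ≫ aMap s₀ f = aMap s₀ (g.comp f) := by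
  ext : 1
  show Spec.map _ ≫ Spec.map _ = _
  rw [← Spec.map_comp, ← CommRingCat.ofHom_comp]
  rfl

theorem aMap_id {A : Type u} [CommRing A] [Algebra k A] : aMap s₀ (AlgHom.id k A) = 𝟙 _ := by
  ext : 1
  exact Spec.map_id _

end Pt

variable {k : Type u} [Field k] {s₀ : Spec (CommRingCat.of k) ⟶ S} {𝒳 : AlgSt.Cat S} {Z : overCat (Over.mk s₀) ⥤ᵇ 𝒳}

/-- An etale chart of the automorphism space through the identity. -/
structure Chart (hX : IsFibGrpd 𝒳.p) (Z : overCat (Over.mk s₀) ⥤ᵇ 𝒳) where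
  G : AlgSp.Space S
  e : ofSp G.obj ⥤ᵇ fp Z (inertiaToBase (toSelf 𝒳))
  he : IsEquivOver e
  W : Over S
  p : (AlgSp.yon S).obj W ⟶ G.obj
  hp : AlgSp.RepWith @Etale p
  n : W ⟶ Over.mk s₀
  hn : (AlgSp.yon S).map n = p ≫ spMapOfOver (BasedFunctor.comp e (fpFst Z (inertiaToBase (toSelf 𝒳))))
  O : W.left.Opens
  hO : IsAffineOpen O
  alg : Algebra k Γ(W.left, O)
  halg : Spec.map (CommRingCat.ofHom alg.algebraMap) = hO.fromSpec ≫ n.left
  ψ₀ : Γ(W.left, O) →ₐ[k] k
  hψ₀ : ∀ (h : Spec.map (CommRingCat.ofHom ψ₀.toRingHom) ≫ hO.fromSpec ≫ W.hom = s₀),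
    (AlgSp.yon S).map (Over.homMk (Spec.map (CommRingCat.ofHom ψ₀.toRingHom) ≫ hO.fromSpec)
      ((Category.assoc _ _ _).trans h) : Over.mk s₀ ⟶ W) ≫ p = autSec hX he (AutT.one (t := 𝟙 _))

attribute [instance] Chart.alg

theorem exists_chart [IsAlgClosed k] (hX : IsFibGrpd 𝒳.p) (hI : RepByAlgSp1 (inertiaToBase (toSelf 𝒳)))
    (Z : overCat (Over.mk s₀) ⥤ᵇ 𝒳) : Nonempty (Chart hX Z) := by
  obtain ⟨G, e, he⟩ := hI (Over.mk s₀) Z
  obtain ⟨W, p, hp, hps⟩ := G.property.atlas
  let π := spMapOfOver (BasedFunctor.comp e (fpFst Z (inertiaToBase (toSelf 𝒳))))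
  obtain ⟨n, hn⟩ := (AlgSp.yon S).map_surjective (p ≫ π)
  haveI : IsSepClosed (IsLocalRing.ResidueField k) :=
    IsSepClosed.of_exists_root _ fun q hq hirr hsep => by
      let E : k ≃+* IsLocalRing.ResidueField k := RingEquiv.ofBijective (IsLocalRing.residue k)
        ⟨RingHom.injective _, IsLocalRing.residue_surjective⟩
      obtain ⟨x, hx⟩ := IsAlgClosed.exists_root (q.map E.symm.toRingHom) (by
        rw [Polynomial.degree_map]; exact (Polynomial.degree_pos_of_irreducible hirr).ne')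
      refine ⟨E x, E.symm.injective ?_⟩
      rw [map_zero, ← RingEquiv.coe_toRingHom, ← Polynomial.eval_map_apply]
      simpa using hx
  obtain ⟨w, hw⟩ := exists_lift_cover hp hps s₀ (autSec hX he (AutT.one (t := 𝟙 _)))
  have hwn : w ≫ n = 𝟙 _ := (AlgSp.yon S).map_injective (by
    rw [Functor.map_comp, hn, ← Category.assoc, hw]
    exact autSec_proj hX he _)
  obtain ⟨O, hO, hwO, -⟩ := exists_isAffineOpen_mem_and_subset (U := (⊤ : W.left.Opens))
    (x := w.left (IsLocalRing.closedPoint k)) trivial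
  have hr : Set.range w.left ⊆ Set.range hO.fromSpec := by
    rintro _ ⟨x, rfl⟩
    rw [hO.range_fromSpec, show x = IsLocalRing.closedPoint k from @Subsingleton.elim (PrimeSpectrum k) _ _ _]
    exact hwO
  let ψ := Spec.preimage (IsOpenImmersion.lift hO.fromSpec w.left hr)
  have hψ : Spec.map ψ ≫ hO.fromSpec = w.left := by rw [Spec.map_preimage, IsOpenImmersion.lift_fac]
  let a := Spec.preimage (hO.fromSpec ≫ n.left)
  let alg : Algebra k Γ(W.left, O) := a.hom.toAlgebra
  have hψa : a ≫ ψ = 𝟙 _ := by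
    apply Spec.map_injective
    rw [Spec.map_comp, Spec.map_preimage (hO.fromSpec ≫ n.left), ← Category.assoc, hψ, Spec.map_id]
    exact congrArg CommaMorphism.left hwn
  refine ⟨⟨G, e, he, W, p, hp, n, hn, O, hO, alg, ?_,
    { ψ.hom with commutes' := fun r => RingHom.congr_fun (congrArg CommRingCat.Hom.hom hψa) r }, fun h => ?_⟩⟩
  · exact Spec.map_preimage (hO.fromSpec ≫ n.left)
  · rw [← hw]
    congr 2
    ext : 1
    exact hψ

namespace Chart

variable {hX : IsFibGrpd 𝒳.p} (c : Chart hX Z)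

/-- The point of the chart with given coordinates. -/
noncomputable def point {A : Type u} [CommRing A] [Algebra k A] (ψ : Γ(c.W.left, c.O) →ₐ[k] A) : aPt s₀ A ⟶ c.W :=
  Over.homMk (Spec.map (CommRingCat.ofHom ψ.toRingHom) ≫ c.hO.fromSpec) (by
    show _ = Spec.map (CommRingCat.ofHom (algebraMap k A)) ≫ s₀
    rw [← Over.w c.n, Category.assoc, ← Category.assoc c.hO.fromSpec, ← c.halg, ← Category.assoc, ← Spec.map_comp,
      ← CommRingCat.ofHom_comp]
    rw [show ψ.toRingHom.comp (Algebra.algebraMap (R := k) (A := Γ(c.W.left, c.O))) = algebraMap k A from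
      RingHom.ext ψ.commutes]
    rfl)

theorem point_n {A : Type u} [CommRing A] [Algebra k A] (ψ : Γ(c.W.left, c.O) →ₐ[k] A) :
    c.point ψ ≫ c.n = aStr s₀ A := by
  ext : 1
  show (Spec.map _ ≫ c.hO.fromSpec) ≫ c.n.left = Spec.map _
  rw [Category.assoc, ← c.halg, ← Spec.map_comp, ← CommRingCat.ofHom_comp]
  congr 2
  exact RingHom.ext ψ.commutes

theorem point_comp {A A' : Type u} [CommRing A] [Algebra k A] [CommRing A'] [Algebra k A']
    (ψ : Γ(c.W.left, c.O) →ₐ[k] A) (f : A →ₐ[k] A') : aMap s₀ f ≫ c.point ψ = c.point (f.comp ψ) := by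
  ext : 1
  show Spec.map _ ≫ Spec.map _ ≫ c.hO.fromSpec = Spec.map _ ≫ c.hO.fromSpec
  rw [← Category.assoc, ← Spec.map_comp, ← CommRingCat.ofHom_comp]
  rfl

/-- The coordinates of an automorphism. -/
def Coord {A : Type u} [CommRing A] [Algebra k A] (g : AutT Z (aStr s₀ A)) (ψ : Γ(c.W.left, c.O) →ₐ[k] A) : Prop :=
  (AlgSp.yon S).map (c.point ψ) ≫ c.p = autSec hX c.he g

theorem coord_restr {A A' : Type u} [CommRing A] [Algebra k A] [CommRing A'] [Algebra k A'] {f : A →ₐ[k] A'}
    {g : AutT Z (aStr s₀ A)} {g' : AutT Z (aStr s₀ A')} (h : IsRestr (aMap s₀ f) g' g)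
    {ψ : Γ(c.W.left, c.O) →ₐ[k] A} (hg : c.Coord g ψ) : c.Coord g' (f.comp ψ) := by
  unfold Coord
  rw [← c.point_comp, Functor.map_comp, Category.assoc, hg, autSec_restr hX c.he h]

theorem coord_one (A : Type u) [CommRing A] [Algebra k A] :
    c.Coord (AutT.one (t := aStr s₀ A)) ((Algebra.ofId k A).comp c.ψ₀) := by
  have hs : Spec.map (CommRingCat.ofHom c.ψ₀.toRingHom) ≫ c.hO.fromSpec ≫ c.W.hom = s₀ := by
    rw [← Over.w c.n, ← Category.assoc c.hO.fromSpec, ← c.halg, ← Category.assoc, ← Spec.map_comp,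
      ← CommRingCat.ofHom_comp]
    rw [show c.ψ₀.toRingHom.comp (Algebra.algebraMap (R := k) (A := Γ(c.W.left, c.O))) = RingHom.id k from
      RingHom.ext c.ψ₀.commutes]
    exact (congrArg (· ≫ s₀) (Spec.map_id _)).trans (Category.id_comp _)
  have h1 : IsRestr (aStr s₀ A) (AutT.one (t := aStr s₀ A)) (AutT.one (Z := Z) (t := 𝟙 _)) :=
    IsRestr.one (Category.comp_id _)
  rw [Coord, ← autSec_restr hX c.he h1, ← c.hψ₀ hs, ← Category.assoc, ← Functor.map_comp]
  congr 2
  ext : 1
  show Spec.map _ ≫ c.hO.fromSpec = Spec.map _ ≫ Spec.map _ ≫ c.hO.fromSpec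
  rw [← Category.assoc, ← Spec.map_comp, ← CommRingCat.ofHom_comp]
  rfl

theorem coord_inj {A : Type u} [CommRing A] [Algebra k A] {g g' : AutT Z (aStr s₀ A)}
    {ψ : Γ(c.W.left, c.O) →ₐ[k] A} (h : c.Coord g ψ) (h' : c.Coord g' ψ) : g = g' :=
  autSec_injective hX c.he (h.symm.trans h')

theorem exists_of_coord {A : Type u} [CommRing A] [Algebra k A] (ψ : Γ(c.W.left, c.O) →ₐ[k] A) :
    ∃ g : AutT Z (aStr s₀ A), c.Coord g ψ := by
  obtain ⟨g, hg⟩ := exists_autSec_eq hX c.he ((AlgSp.yon S).map (c.point ψ) ≫ c.p) (t := aStr s₀ A) (by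
    rw [Category.assoc, ← c.hn, ← Functor.map_comp, c.point_n])
  exact ⟨g, hg.symm⟩

variable {A R : Type u} [CommRing A] [Algebra k A] [CommRing R] [Algebra k R] (π : A →ₐ[k] R)

theorem exists_coord (hπ : Function.Surjective π) (hsq : RingHom.ker π.toRingHom ^ 2 = ⊥)
    {g : AutT Z (aStr s₀ A)} (hg : IsRestr (aMap s₀ π) (AutT.one (t := aStr s₀ R)) g) :
    ∃ ψ : Γ(c.W.left, c.O) →ₐ[k] A, π.comp ψ = (Algebra.ofId k R).comp c.ψ₀ ∧ c.Coord g ψ ∧
      ∀ ψ', π.comp ψ' = (Algebra.ofId k R).comp c.ψ₀ → c.Coord g ψ' → ψ' = ψ := by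
  let q := π.toRingHom
  let E := RingHom.quotientKerEquivOfSurjective (f := q) hπ
  have hE₁ : CommRingCat.ofHom (Ideal.Quotient.mk (RingHom.ker q)) ≫ CommRingCat.ofHom E.toRingHom =
      CommRingCat.ofHom q := by
    apply CommRingCat.hom_ext; ext t
    exact RingHom.quotientKerEquivOfSurjective_apply_mk (f := q) hπ t
  have hE₂ : CommRingCat.ofHom q ≫ CommRingCat.ofHom E.symm.toRingHom =
      CommRingCat.ofHom (Ideal.Quotient.mk (RingHom.ker q)) := by
    apply CommRingCat.hom_ext; ext t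
    exact E.symm_apply_eq.2 (RingHom.quotientKerEquivOfSurjective_apply_mk (f := q) hπ t).symm
  have hE₃ : CommRingCat.ofHom E.symm.toRingHom ≫ CommRingCat.ofHom E.toRingHom = 𝟙 _ := by
    apply CommRingCat.hom_ext; ext t
    exact E.apply_symm_apply t
  let str := Spec.map (CommRingCat.ofHom (algebraMap k A)) ≫ s₀
  let j : Over.mk (Spec.map (CommRingCat.ofHom (Ideal.Quotient.mk (RingHom.ker q))) ≫ str) ⟶ aPt s₀ R :=
    Over.homMk (Spec.map (CommRingCat.ofHom E.symm.toRingHom)) (by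
      show _ ≫ Spec.map _ ≫ s₀ = _ ≫ Spec.map _ ≫ s₀
      rw [← Category.assoc, ← Category.assoc, ← Spec.map_comp, ← Spec.map_comp]
      congr 2
      rw [← hE₂, ← Category.assoc]
      congr 1
      exact CommRingCat.hom_ext (RingHom.ext fun r => (π.commutes r).symm))
  let i := aMap s₀ π
  let w₀ := c.point ((Algebra.ofId k R).comp c.ψ₀)
  have hw₀ : (AlgSp.yon S).map w₀ ≫ c.p = (AlgSp.yon S).map i ≫ autSec hX c.he g := by
    rw [autSec_restr hX c.he hg]; exact c.coord_one R
  let sqd : AlgSp.InfSq c.p :=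
    { A := A
      I := RingHom.ker q
      sq_zero := hsq
      str := str
      top := (AlgSp.yon S).map (j ≫ w₀)
      bot := autSec hX c.he g
      comm := by
        rw [Functor.map_comp, Category.assoc, hw₀]
        refine (Category.assoc _ _ _).symm.trans (congrArg (· ≫ autSec hX c.he g) ?_)
        refine ((AlgSp.yon S).map_comp j i).symm.trans (congrArg (AlgSp.yon S).map ?_)
        ext : 1
        exact (Spec.map_comp _ _).symm.trans (congrArg Spec.map hE₂) }
  have hlift := ((SpFP87.isFormallyEtaleMor_iff c.p).1 (SpFP87.isFormallyEtaleMor_of_repWith_etale c.p c.hp))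
  obtain ⟨l, hl₁, hl₂⟩ := hlift.1 sqd
  obtain ⟨l', rfl⟩ := (AlgSp.yon S).map_surjective l
  have hj : sqd.j ≫ l' = j ≫ w₀ := (AlgSp.yon S).map_injective (by rw [Functor.map_comp]; exact hl₁)
  have hil : i ≫ l' = w₀ := by
    ext : 1
    have h2 : Spec.map (CommRingCat.ofHom (Ideal.Quotient.mk (RingHom.ker q))) ≫ l'.left =
        Spec.map (CommRingCat.ofHom E.symm.toRingHom) ≫ w₀.left := congrArg CommaMorphism.left hj
    show Spec.map (CommRingCat.ofHom q) ≫ l'.left = w₀.left
    rw [← hE₁, Spec.map_comp, Category.assoc, h2, ← Category.assoc, ← Spec.map_comp, hE₃, Spec.map_id]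
    exact Category.id_comp _
  have hsurj : ∀ x : Spec (CommRingCat.of A), ∃ y, (Spec.map (CommRingCat.ofHom q)) y = x := fun x => by
    have hle : RingHom.ker q ≤ x.asIdeal := fun a ha => x.isPrime.mem_of_pow_mem 2 (by
      have h := Ideal.mul_mem_mul ha ha
      rw [← pow_two (RingHom.ker q), hsq, Ideal.mem_bot] at h
      rw [pow_two, h]; exact x.asIdeal.zero_mem)
    obtain ⟨y, hy⟩ := (range_comap_of_surjective _ q hπ).symm.subset (show x ∈ PrimeSpectrum.zeroLocus _ from hle)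
    exact ⟨y, hy⟩
  have hr : Set.range l'.left ⊆ Set.range c.hO.fromSpec := by
    rintro _ ⟨x, rfl⟩
    obtain ⟨y, rfl⟩ := hsurj x
    exact ⟨(Spec.map (CommRingCat.ofHom ((Algebra.ofId k R).comp c.ψ₀).toRingHom)) y,
      (congrArg (fun f : aPt s₀ R ⟶ c.W => f.left y) hil).symm⟩
  let ψr := Spec.preimage (IsOpenImmersion.lift c.hO.fromSpec l'.left hr)
  have hψr : Spec.map ψr ≫ c.hO.fromSpec = l'.left := by rw [Spec.map_preimage, IsOpenImmersion.lift_fac]
  have hln : l' ≫ c.n = aStr s₀ A := (AlgSp.yon S).map_injective (by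
    rw [Functor.map_comp, c.hn, ← Category.assoc]
    exact (congrArg (· ≫ _) hl₂).trans (autSec_proj hX c.he g))
  have hcomm : CommRingCat.ofHom (Algebra.algebraMap (R := k) (A := Γ(c.W.left, c.O))) ≫ ψr =
      CommRingCat.ofHom (algebraMap k A) := by
    apply Spec.map_injective
    rw [Spec.map_comp, c.halg, ← Category.assoc, hψr]
    exact congrArg CommaMorphism.left hln
  let ψ : Γ(c.W.left, c.O) →ₐ[k] A :=
    { ψr.hom with commutes' := fun r => RingHom.congr_fun (congrArg CommRingCat.Hom.hom hcomm) r }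
  have hpt : c.point ψ = l' := Over.OverMorphism.ext hψr
  have hπψ : π.comp ψ = (Algebra.ofId k R).comp c.ψ₀ := by
    apply AlgHom.coe_ringHom_injective
    have h1 : Spec.map (ψr ≫ CommRingCat.ofHom q) ≫ c.hO.fromSpec = w₀.left := by
      rw [Spec.map_comp, Category.assoc, hψr]
      exact congrArg CommaMorphism.left hil
    exact congrArg CommRingCat.Hom.hom (Spec.map_injective ((cancel_mono c.hO.fromSpec).1 h1))
  refine ⟨ψ, hπψ, ?_, fun ψ' h1 h2 => ?_⟩
  · show (AlgSp.yon S).map (c.point ψ) ≫ c.p = _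
    rw [hpt]; exact hl₂
  · have h3 : (AlgSp.yon S).map (c.point ψ') = (AlgSp.yon S).map l' := by
      refine hlift.2 sqd _ _ ?_ h2 hl₁ hl₂
      rw [← Functor.map_comp]
      congr 1
      ext : 1
      show Spec.map _ ≫ (c.point ψ').left = Spec.map _ ≫ w₀.left
      rw [← hE₂, Spec.map_comp, Category.assoc]
      congr 1
      have := c.point_comp ψ' π
      rw [h1] at this
      exact congrArg CommaMorphism.left this
    have h4 : Spec.map (CommRingCat.ofHom ψ'.toRingHom) ≫ c.hO.fromSpec = Spec.map ψr ≫ c.hO.fromSpec :=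
      (congrArg CommaMorphism.left ((AlgSp.yon S).map_injective h3)).trans hψr.symm
    exact AlgHom.coe_ringHom_injective (congrArg CommRingCat.Hom.hom (Spec.map_injective ((cancel_mono c.hO.fromSpec).1 h4)))

end Chart

end Groth.Agent.IsoNat97
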