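import Groth.Agent.IsoNat97.Lie

/-! The tangent space of the automorphisms of an object at a geometric point. -/

set_option autoImplicit false
set_option linter.unusedVariables false
set_option linter.style.haveILetI false
set_option backward.isDefEq.respectTransparency false
set_option backward.isDefEq.respectTransparency.types false
universe u

open CategoryTheory CategoryTheory.Limits AlgebraicGeometry Opposite AlgSt FibCat

namespace Groth.Agent.IsoNat97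

open AlgSt88 TrivSqZeroExt

variable {S : Scheme.{u}} {k : Type u} [Field k] {s₀ : Spec (CommRingCat.of k) ⟶ S}
  {𝒳 : AlgSt.Cat S} {Z : overCat (Over.mk s₀) ⥤ᵇ 𝒳}

/-- First order deformations with values in `R`. -/
abbrev Dual (R : Type u) [CommRing R] : Type u := TrivSqZeroExt R R

theorem ker_fstHom_sq (R M : Type u) [CommRing R] [AddCommGroup M] [Module R M] [Module Rᵐᵒᵖ M] [IsCentralScalar R M]
    [Algebra k R] [Module k M] [IsScalarTower k R M] [IsScalarTower k Rᵐᵒᵖ M] :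
    RingHom.ker (fstHom k R M).toRingHom ^ 2 = ⊥ := by
  rw [eq_bot_iff, pow_two, Ideal.mul_le]
  intro a ha b hb
  rw [Ideal.mem_bot]
  have ha' : fst a = 0 := ha
  have hb' : fst b = 0 := hb
  refine TrivSqZeroExt.ext (by simp [ha']) (by simp [ha', hb'])

/-- The automorphisms trivial modulo the square-zero part. -/
def Ker {R M : Type u} [CommRing R] [AddCommGroup M] [Module R M] [Module Rᵐᵒᵖ M] [IsCentralScalar R M]
    [Algebra k R] [Module k M] [IsScalarTower k R M] [IsScalarTower k Rᵐᵒᵖ M]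
    (g : AutT Z (aStr s₀ (TrivSqZeroExt R M))) : Prop :=
  IsRestr (aMap s₀ (fstHom k R M)) (AutT.one (t := aStr s₀ R)) g

theorem ker_restr (hX : IsFibGrpd 𝒳.p) {R M R' M' : Type u} [CommRing R] [AddCommGroup M] [Module R M]
    [Module Rᵐᵒᵖ M] [IsCentralScalar R M] [Algebra k R] [Module k M] [IsScalarTower k R M] [IsScalarTower k Rᵐᵒᵖ M]
    [CommRing R'] [AddCommGroup M'] [Module R' M'] [Module R'ᵐᵒᵖ M'] [IsCentralScalar R' M'] [Algebra k R']
    [Module k M'] [IsScalarTower k R' M'] [IsScalarTower k R'ᵐᵒᵖ M']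
    (f : TrivSqZeroExt R M →ₐ[k] TrivSqZeroExt R' M') (f₀ : R →ₐ[k] R')
    (hf : (fstHom k R' M').comp f = f₀.comp (fstHom k R M))
    {g : AutT Z (aStr s₀ (TrivSqZeroExt R M))} (hg : Ker g) {g' : AutT Z (aStr s₀ (TrivSqZeroExt R' M'))}
    (h : IsRestr (aMap s₀ f) g' g) : Ker g' := by
  obtain ⟨r, hr⟩ := IsRestr.exists_of hX (aMap_aStr (fstHom k R' M')) g'
  have h1 : IsRestr (aMap s₀ ((fstHom k R' M').comp f)) r g := hr.trans h (aMap_comp f (fstHom k R' M'))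
  have h2 : IsRestr (aMap s₀ ((fstHom k R' M').comp f)) (AutT.one (t := aStr s₀ R')) g := by
    rw [hf]
    exact (IsRestr.one (aMap_aStr f₀)).trans hg (aMap_comp (fstHom k R M) f₀)
  obtain rfl := IsRestr.unique hX h1 h2
  exact hr

theorem ker_one (R M : Type u) [CommRing R] [AddCommGroup M] [Module R M] [Module Rᵐᵒᵖ M] [IsCentralScalar R M]
    [Algebra k R] [Module k M] [IsScalarTower k R M] [IsScalarTower k Rᵐᵒᵖ M] :
    Ker (AutT.one (Z := Z) (t := aStr s₀ (TrivSqZeroExt R M))) :=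
  IsRestr.one (aMap_aStr (fstHom k R M))

theorem ker_mul {R M : Type u} [CommRing R] [AddCommGroup M] [Module R M] [Module Rᵐᵒᵖ M] [IsCentralScalar R M]
    [Algebra k R] [Module k M] [IsScalarTower k R M] [IsScalarTower k Rᵐᵒᵖ M]
    {g h : AutT Z (aStr s₀ (TrivSqZeroExt R M))} (hg : Ker g) (hh : Ker h) : Ker (g.mul h) := by
  have := IsRestr.mul hg hh
  rwa [AutT.one_mul'] at this

theorem ker_inv (hX : IsFibGrpd 𝒳.p) {R M : Type u} [CommRing R] [AddCommGroup M] [Module R M] [Module Rᵐᵒᵖ M]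
    [IsCentralScalar R M] [Algebra k R] [Module k M] [IsScalarTower k R M] [IsScalarTower k Rᵐᵒᵖ M]
    {g : AutT Z (aStr s₀ (TrivSqZeroExt R M))} (hg : Ker g) : Ker (g.inv hX) := by
  have := IsRestr.inv hX hg
  rwa [show (AutT.one (Z := Z) (t := aStr s₀ R)).inv hX = AutT.one from
    (AutT.one_mul' _).symm.trans (AutT.mul_inv hX _)] at this

namespace Chart

variable {hX : IsFibGrpd 𝒳.p} (c : Chart hX Z) {R : Type u} [CommRing R] [Algebra k R]

/-- The derivation of an infinitesimal automorphism. -/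
def IsDer {R : Type u} [CommRing R] [Algebra k R] (g : AutT Z (aStr s₀ (Dual R))) (D : Γ(c.W.left, c.O) → R) : Prop :=
  ∃ ψ : Γ(c.W.left, c.O) →ₐ[k] Dual R, (fstHom k R R).comp ψ = (Algebra.ofId k R).comp c.ψ₀ ∧ c.Coord g ψ ∧
    ∀ b, D b = snd (ψ b)

theorem exists_isDer {g : AutT Z (aStr s₀ (Dual R))} (hg : Ker g) :
    ∃! D, c.IsDer g D := by
  obtain ⟨ψ, h1, h2, h3⟩ := c.exists_coord (fstHom k R R) (fun r => ⟨inl r, rfl⟩) (ker_fstHom_sq R R) hg
  refine ⟨fun b => snd (ψ b), ⟨ψ, h1, h2, fun b => rfl⟩, fun D ⟨ψ', h1', h2', hD⟩ => funext fun b => ?_⟩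
  rw [hD, h3 ψ' h1' h2']

theorem eq_one_of_isDer_zero {g : AutT Z (aStr s₀ (Dual R))} (h : c.IsDer g 0) : g = AutT.one := by
  obtain ⟨ψ, h1, h2, h3⟩ := h
  refine c.coord_inj h2 ?_
  rw [show ψ = (Algebra.ofId k (Dual R)).comp c.ψ₀ from AlgHom.ext fun b => TrivSqZeroExt.ext
    ((DFunLike.congr_fun h1 b).trans (by simp [Algebra.ofId_apply, algebraMap_eq_inl']))
    ((h3 b).symm.trans (by simp [Algebra.ofId_apply, algebraMap_eq_inl']))]
  exact c.coord_one _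

theorem isDer_one : c.IsDer (AutT.one (t := aStr s₀ (Dual R))) 0 :=
  ⟨(Algebra.ofId k (Dual R)).comp c.ψ₀, AlgHom.ext fun b => by simp [Algebra.ofId_apply, algebraMap_eq_inl'],
    c.coord_one _, fun b => by simp [Algebra.ofId_apply, algebraMap_eq_inl']⟩

/-- Composition is addition of derivations. -/
theorem isDer_mul {g h : AutT Z (aStr s₀ (Dual R))} (hg : Ker g) (hh : Ker h) {D E : Γ(c.W.left, c.O) → R}
    (hD : c.IsDer g D) (hE : c.IsDer h E) : c.IsDer (g.mul h) (D + E) := by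
  obtain ⟨ψ, hψ₁, hψ₂, hψ₃⟩ := hD
  obtain ⟨χ, hχ₁, hχ₂, hχ₃⟩ := hE
  let π₁ : TrivSqZeroExt R (R × R) →ₐ[k] Dual R := (TrivSqZeroExt.map (LinearMap.fst R R R)).restrictScalars k
  let π₂ : TrivSqZeroExt R (R × R) →ₐ[k] Dual R := (TrivSqZeroExt.map (LinearMap.snd R R R)).restrictScalars k
  let pa : TrivSqZeroExt R (R × R) →ₐ[k] Dual R :=
    (TrivSqZeroExt.map (LinearMap.fst R R R + LinearMap.snd R R R)).restrictScalars k
  let i₁ : Dual R →ₐ[k] TrivSqZeroExt R (R × R) := (TrivSqZeroExt.map (LinearMap.inl R R R)).restrictScalars k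
  let i₂ : Dual R →ₐ[k] TrivSqZeroExt R (R × R) := (TrivSqZeroExt.map (LinearMap.inr R R R)).restrictScalars k
  let z : Dual R →ₐ[k] Dual R := (inlAlgHom k R R).comp (fstHom k R R)
  obtain ⟨g₁, hg₁⟩ := IsRestr.exists_of hX (aMap_aStr i₁) g
  obtain ⟨h₂, hh₂⟩ := IsRestr.exists_of hX (aMap_aStr i₂) h
  have k₁ : Ker g₁ := ker_restr hX i₁ (AlgHom.id k R) (AlgHom.ext fun x => by simp [i₁]) hg hg₁
  have k₂ : Ker h₂ := ker_restr hX i₂ (AlgHom.id k R) (AlgHom.ext fun x => by simp [i₂]) hh hh₂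
  obtain ⟨ξ, hξ₁, hξ₂, -⟩ := c.exists_coord (fstHom k R (R × R)) (fun r => ⟨inl r, rfl⟩) (ker_fstHom_sq R (R × R))
    (ker_mul k₁ k₂)
  -- the effect of the projections
  have hz : ∀ {a : AutT Z (aStr s₀ (Dual R))}, Ker a → IsRestr (aMap s₀ z) (AutT.one (t := aStr s₀ (Dual R))) a := fun ha =>
    (IsRestr.one (aMap_aStr (inlAlgHom k R R))).trans ha (aMap_comp (fstHom k R R) (inlAlgHom k R R))
  have proj : ∀ (π : TrivSqZeroExt R (R × R) →ₐ[k] Dual R) (a b : AutT Z (aStr s₀ (Dual R))),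
      IsRestr (aMap s₀ (π.comp i₁)) a g → IsRestr (aMap s₀ (π.comp i₂)) b h → c.Coord (a.mul b) (π.comp ξ) := by
    intro π a b ha hb
    obtain ⟨a', ha'⟩ := IsRestr.exists_of hX (aMap_aStr π) g₁
    obtain ⟨b', hb'⟩ := IsRestr.exists_of hX (aMap_aStr π) h₂
    obtain rfl := IsRestr.unique hX (ha'.trans hg₁ (aMap_comp i₁ π)) ha
    obtain rfl := IsRestr.unique hX (hb'.trans hh₂ (aMap_comp i₂ π)) hb
    exact c.coord_restr (IsRestr.mul ha' hb') hξ₂
  have e₁₁ : π₁.comp i₁ = AlgHom.id k (Dual R) := AlgHom.ext fun x => TrivSqZeroExt.ext (by simp [π₁, i₁]) (by simp [π₁, i₁])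
  have e₁₂ : π₁.comp i₂ = z := AlgHom.ext fun x => TrivSqZeroExt.ext (by simp [π₁, i₂, z]) (by simp [π₁, i₂, z])
  have e₂₁ : π₂.comp i₁ = z := AlgHom.ext fun x => TrivSqZeroExt.ext (by simp [π₂, i₁, z]) (by simp [π₂, i₁, z])
  have e₂₂ : π₂.comp i₂ = AlgHom.id k (Dual R) := AlgHom.ext fun x => TrivSqZeroExt.ext (by simp [π₂, i₂]) (by simp [π₂, i₂])
  have e₃₁ : pa.comp i₁ = AlgHom.id k (Dual R) := AlgHom.ext fun x => TrivSqZeroExt.ext (by simp [pa, i₁]) (by simp [pa, i₁])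
  have e₃₂ : pa.comp i₂ = AlgHom.id k (Dual R) := AlgHom.ext fun x => TrivSqZeroExt.ext (by simp [pa, i₂]) (by simp [pa, i₂])
  have hid : ∀ a : AutT Z (aStr s₀ (Dual R)), IsRestr (aMap s₀ (AlgHom.id k (Dual R))) a a := fun a => by
    rw [aMap_id]; exact IsRestr.refl a
  have c₁ : c.Coord g (π₁.comp ξ) := by
    have := proj π₁ g AutT.one (e₁₁ ▸ hid g) (e₁₂ ▸ hz hh)
    rwa [AutT.mul_one'] at this
  have c₂ : c.Coord h (π₂.comp ξ) := by
    have := proj π₂ AutT.one h (e₂₁ ▸ hz hg) (e₂₂ ▸ hid h)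
    rwa [AutT.one_mul'] at this
  have c₃ : c.Coord (g.mul h) (pa.comp ξ) := proj pa g h (e₃₁ ▸ hid g) (e₃₂ ▸ hid h)
  have hf : ∀ (π : R × R →ₗ[R] R), (fstHom k R R).comp (((TrivSqZeroExt.map π).restrictScalars k).comp ξ) =
      (Algebra.ofId k R).comp c.ψ₀ := fun π => by
    rw [← hξ₁]; exact AlgHom.ext fun b => by simp
  obtain ⟨ψ', -, -, hu⟩ := c.exists_coord (fstHom k R R) (fun r => ⟨inl r, rfl⟩) (ker_fstHom_sq R R) hg
  obtain ⟨χ', -, -, hv⟩ := c.exists_coord (fstHom k R R) (fun r => ⟨inl r, rfl⟩) (ker_fstHom_sq R R) hh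
  have hψ : π₁.comp ξ = ψ := (hu _ (hf _) c₁).trans (hu ψ hψ₁ hψ₂).symm
  have hχ : π₂.comp ξ = χ := (hv _ (hf _) c₂).trans (hv χ hχ₁ hχ₂).symm
  refine ⟨pa.comp ξ, hf _, c₃, fun b => ?_⟩
  rw [Pi.add_apply, hψ₃, hχ₃, ← hψ, ← hχ]
  simp [π₁, π₂, pa]

theorem isDer_restr {R' : Type u} [CommRing R'] [Algebra k R'] (f : Dual R →ₐ[k] Dual R') (f₀ : R →ₐ[k] R')
    (m : R → R') (hf₁ : ∀ x, fst (f x) = f₀ (fst x)) (hf₂ : ∀ (r : k) (x : R), snd (f (inl (algebraMap k R r) + inr x)) = m x)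
    {g : AutT Z (aStr s₀ (Dual R))} {g' : AutT Z (aStr s₀ (Dual R'))} (h : IsRestr (aMap s₀ f) g' g)
    {D : Γ(c.W.left, c.O) → R} (hD : c.IsDer g D) : c.IsDer g' (fun b => m (D b)) := by
  obtain ⟨ψ, h1, h2, h3⟩ := hD
  refine ⟨f.comp ψ, AlgHom.ext fun b => ?_, c.coord_restr h h2, fun b => ?_⟩
  · show fst (f (ψ b)) = algebraMap k R' (c.ψ₀ b)
    rw [hf₁, show fst (ψ b) = algebraMap k R (c.ψ₀ b) from DFunLike.congr_fun h1 b, AlgHom.commutes]
  · show m (D b) = snd (f (ψ b))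
    rw [← hf₂ (c.ψ₀ b) (D b), h3, ← show fst (ψ b) = algebraMap k R (c.ψ₀ b) from DFunLike.congr_fun h1 b,
      inl_fst_add_inr_snd_eq]

theorem isDer_inv {g : AutT Z (aStr s₀ (Dual R))} (hg : Ker g) {D : Γ(c.W.left, c.O) → R} (hD : c.IsDer g D) :
    c.IsDer (g.inv hX) (-D) := by
  obtain ⟨E, hE, -⟩ := c.exists_isDer (ker_inv hX hg)
  have h1 := c.isDer_mul hg (ker_inv hX hg) hD hE
  rw [AutT.mul_inv] at h1
  obtain ⟨F, -, huniq⟩ := c.exists_isDer (ker_one (Z := Z) R R)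
  have : D + E = 0 := (huniq _ h1).trans (huniq _ c.isDer_one).symm
  rwa [eq_neg_of_add_eq_zero_right this] at hE

end Chart

/-- There are no infinitesimal automorphisms over the field. -/
def LieTriv (Z : overCat (Over.mk s₀) ⥤ᵇ 𝒳) : Prop :=
  ∀ g : AutT Z (aStr s₀ (Dual k)), Ker g → g = AutT.one

/-- Then there are none with values in any algebra. -/
theorem lieTriv_all [IsAlgClosed k] (hX : IsFibGrpd 𝒳.p) (hI : RepByAlgSp1 (inertiaToBase (toSelf 𝒳)))
    (hL : LieTriv Z) {R : Type u} [CommRing R] [Algebra k R] (g : AutT Z (aStr s₀ (Dual R))) (hg : Ker g) :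
    g = AutT.one := by
  obtain ⟨c⟩ := exists_chart hX hI Z
  obtain ⟨D, hD, -⟩ := c.exists_isDer hg
  refine c.eq_one_of_isDer_zero ?_
  convert hD
  by_contra hne
  obtain ⟨b₀, hb₀⟩ := Function.ne_iff.1 (Ne.symm hne)
  obtain ⟨l, hl⟩ : ∃ l : R →ₗ[k] k, l (D b₀) ≠ 0 := by
    by_contra h
    push Not at h
    exact hb₀ ((Module.forall_dual_apply_eq_zero_iff k _).1 h)
  obtain ⟨ψ, hψ₁, -, hψD⟩ := hD
  have hfst : ∀ b, fst (ψ b) = algebraMap k R (c.ψ₀ b) := fun b => DFunLike.congr_fun hψ₁ b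
  let ψ' : Γ(c.W.left, c.O) →ₐ[k] Dual k :=
    { toFun := fun b => inl (c.ψ₀ b) + inr (l (snd (ψ b)))
      map_one' := by simp
      map_mul' := fun a b => TrivSqZeroExt.ext (by simp) (by
        simp only [map_mul, snd_add, snd_inl, snd_inr, zero_add, snd_mul, hfst, fst_add, fst_inl, fst_inr, add_zero,
          op_smul_eq_smul, smul_eq_mul]
        rw [show algebraMap k R (c.ψ₀ a) * snd (ψ b) = c.ψ₀ a • snd (ψ b) from (Algebra.smul_def _ _).symm,
          show algebraMap k R (c.ψ₀ b) * snd (ψ a) = c.ψ₀ b • snd (ψ a) from (Algebra.smul_def _ _).symm,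
          map_add, map_smul, map_smul, smul_eq_mul, smul_eq_mul])
      map_zero' := by simp
      map_add' := fun a b => TrivSqZeroExt.ext (by simp) (by simp)
      commutes' := fun r => TrivSqZeroExt.ext (by simp [algebraMap_eq_inl']) (by simp [algebraMap_eq_inl']) }
  obtain ⟨g', hg'⟩ := c.exists_of_coord ψ'
  have hk' : Ker g' := by
    obtain ⟨r, hr⟩ := IsRestr.exists_of hX (aMap_aStr (fstHom k k k)) g'
    have h1 := c.coord_restr hr hg'
    rw [show (fstHom k k k).comp ψ' = (Algebra.ofId k k).comp c.ψ₀ from AlgHom.ext fun b => by simp [ψ']] at h1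
    obtain rfl := c.coord_inj h1 (c.coord_one k)
    exact hr
  have hD' : c.IsDer g' (fun b => l (snd (ψ b))) :=
    ⟨ψ', AlgHom.ext fun b => by simp [ψ'], hg', fun b => by simp [ψ']⟩
  have h0 := hL g' hk'
  subst h0
  obtain ⟨F, -, huniq⟩ := c.exists_isDer (ker_one (Z := Z) k k)
  have h2 := congrFun ((huniq _ hD').trans (huniq _ c.isDer_one).symm) b₀
  rw [← hψD] at h2
  exact hl h2

end Groth.Agent.IsoNat97
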