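import Groth.Agent.IsoNat97.Twist
import Groth.Agent.IsoNat97.Tangent
import Mathlib.RingTheory.Localization.Away.Basic

/-! Triviality of infinitesimal automorphisms passes between corresponding objects. -/

set_option autoImplicit false
set_option linter.unusedVariables false
set_option linter.style.haveILetI false
set_option backward.isDefEq.respectTransparency false
set_option backward.isDefEq.respectTransparency.types false
universe u

open CategoryTheory CategoryTheory.Limits AlgebraicGeometry Opposite AlgSt FibCat TrivSqZeroExt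

namespace Groth.Agent.IsoNat97

open AlgSt88 IsoNat Polynomial

variable {S : Scheme.{u}} {𝒳 𝒴 : AlgSt.Cat S} {B C O : Over S}

/-- An automorphism on the overlap which dies on a retract extends, if for the corresponding object
every automorphism on the overlap comes from the retract. -/
theorem extend_of_corr (h𝒳 : Stk.IsStack (AlgSp.J S) 𝒳) (h𝒴 : Stk.IsStack (AlgSp.J S) 𝒴) (φ : FIso 𝒳 𝒴)
    {X : overCat B ⥤ᵇ 𝒳} {Y : overCat B ⥤ᵇ 𝒴} (hXY : φ.toEquiv B (objCls X) = objCls Y) (o : O ⟶ C)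
    [IsOpenImmersion o.left] (t : C ⟶ B) (z : C ⟶ C) (zO : O ⟶ O) (hz : z ≫ t = t) (hzo : zO ≫ o = o ≫ z)
    (σ : AutT Y (o ≫ t)) (hσ : IsRestr zO (AutT.one (t := o ≫ t)) σ)
    (H : ∀ τ τ' : AutT X (o ≫ t), IsRestr zO τ' τ → τ = τ') : ∃ g : AutT Y t, IsRestr o σ g := by
  have hX := h𝒳.1
  have hY := h𝒴.1
  let ψ := symm hX hY φ
  have hψ : ∀ {T : Over S} (a : T ⟶ B), ψ.toEquiv T (cls (chObj Y a)) = cls (chObj X a) := fun {T} a =>
    (Equiv.symm_apply_eq _).2 (corr_chObj hY φ hXY a).symm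
  obtain ⟨D, π, d, ζ, m, hπ, hm, hrel⟩ := exists_twist h𝒴 Y o t σ
  obtain ⟨ρ, hρ⟩ := d.exists_desc₂ (fun b => z ≫ d.c b) (by
    rw [← Category.assoc, ← hzo, ← Category.assoc, ← hzo, Category.assoc, Category.assoc, d.agree])
  -- the twisted object is trivial along the retraction
  have hmY : ∀ b, 𝒴.p.IsHomLift (d.c b) (chMap Y (d.c b) (hπ b)) := fun b => inferInstance
  have hagree : chMap Y o (rfl : o ≫ t = o ≫ t) ≫ chMap Y (d.c true) (hπ true) =
      chMap Y o (rfl : o ≫ t = o ≫ t) ≫ chMap Y (d.c false) (hπ false) := by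
    rw [chMap_comp Y o (d.c true) rfl (hπ true) (o ≫ d.c false) d.agree.symm (by rw [Category.assoc, hπ]),
      chMap_comp Y o (d.c false) rfl (hπ false) (o ≫ d.c false) rfl (by rw [Category.assoc, hπ])]
  obtain ⟨hzO, eσ⟩ := hσ
  have eσ' : chMap Y zO hzO ≫ σ.1 = chMap Y zO hzO := eσ.symm.trans (Category.id_comp _)
  obtain ⟨k, hk, -⟩ := exists_hom_glue h𝒴 Y d (AutT.one (t := o ≫ t)) (x := chObj Y π)
    (fun b => chMap Y (d.c b) (hπ b)) hmY ((Category.id_comp _).trans hagree) (y := ζ) ρ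
    (fun b => chMap Y z hz ≫ m b) (fun b => by
      haveI := hm b
      rw [hρ b]
      infer_instance) (by
    refine (Category.id_comp _).trans ?_
    have e : chMap Y o (rfl : o ≫ t = o ≫ t) ≫ chMap Y z hz = chMap Y zO hzO ≫ chMap Y o rfl := by
      rw [chMap_comp Y o z rfl hz (o ≫ z) rfl (by rw [Category.assoc, hz]),
        chMap_comp Y zO o hzO rfl (o ≫ z) hzo (by rw [Category.assoc, hz])]
    rw [← Category.assoc, e, ← Category.assoc (chMap Y o rfl), e, Category.assoc, Category.assoc, ← hrel,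
      ← Category.assoc (chMap Y zO hzO) σ.1, eσ'])
  -- transport
  let ξ : 𝒳.p.Fiber D := rep (ψ.toEquiv D (cls ζ))
  have hξ : ψ.toEquiv D (cls ζ) = cls ξ := (cls_rep _).symm
  obtain ⟨k', hk'⟩ := natural' ψ ρ k hk (y' := chObj X π) (y := ξ) (hψ π) hξ
  have hμ : ∀ b, ∃ μ : (chObj X t).1 ⟶ ξ.1, 𝒳.p.IsHomLift (d.c b) μ := fun b =>
    natural' ψ (d.c b) (m b) (hm b) (y' := chObj X t) (y := ξ) (hψ t) hξ
  choose μ hμ using hμ
  haveI := hμ true
  haveI := hμ false
  obtain ⟨τ₁, ⟨hτ₁, hτe⟩, -⟩ := exists_fac hX (𝟙 O) (Category.id_comp (o ≫ d.c true))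
    (chMap X o rfl ≫ μ true) inferInstance (chMap X o (rfl : o ≫ t = o ≫ t) ≫ μ false) (by
      rw [← d.agree]; infer_instance)
  let τ : AutT X (o ≫ t) := ⟨τ₁, hτ₁⟩
  have hh : ∀ b, ∃ h : AutT X t, h.1 ≫ chMap X z hz ≫ μ b = chMap X (d.c b) (hπ b) ≫ k' := fun b => by
    haveI := hμ b
    haveI := hk'
    obtain ⟨c, ⟨hc, hce⟩, -⟩ := exists_fac hX (𝟙 C) (Category.id_comp (z ≫ d.c b))
      (chMap X z hz ≫ μ b) inferInstance (chMap X (d.c b) (hπ b) ≫ k') (by rw [← hρ b]; infer_instance)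
    exact ⟨⟨c, hc⟩, hce⟩
  choose h hhe using hh
  obtain ⟨r₀, hr₀⟩ := IsRestr.exists_of hX (rfl : o ≫ t = o ≫ t) (h false)
  obtain ⟨r₁, hr₁⟩ := IsRestr.exists_of hX (rfl : o ≫ t = o ≫ t) (h true)
  obtain ⟨τz, hτz⟩ := IsRestr.exists_of hX hzO τ
  have hA : r₁.1 ≫ chMap X zO hzO ≫ chMap X o rfl ≫ μ true =
      (r₀.mul τz).1 ≫ chMap X zO hzO ≫ chMap X o rfl ≫ μ true := by
    have e : ∀ b, chMap X o (rfl : o ≫ t = o ≫ t) ≫ chMap X z hz ≫ μ b = chMap X zO hzO ≫ chMap X o rfl ≫ μ b :=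
      fun b => by
      rw [← Category.assoc, chMap_comp X o z rfl hz (o ≫ z) rfl (by rw [Category.assoc, hz]),
        ← Category.assoc (chMap X zO hzO), chMap_comp X zO o hzO rfl (o ≫ z) hzo (by rw [Category.assoc, hz])]
    obtain ⟨_, e₀⟩ := hr₀
    obtain ⟨_, e₁⟩ := hr₁
    obtain ⟨_, ez⟩ := hτz
    have q : ∀ (b : Bool) (r : AutT X (o ≫ t)),
        r.1 ≫ chMap X o (rfl : o ≫ t = o ≫ t) = chMap X o rfl ≫ (h b).1 →
        r.1 ≫ chMap X zO hzO ≫ chMap X o rfl ≫ μ b = chMap X o rfl ≫ chMap X (d.c b) (hπ b) ≫ k' := fun b r er => by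
      rw [← e, ← Category.assoc r.1, er, Category.assoc, hhe]
    have hag : chMap X o (rfl : o ≫ t = o ≫ t) ≫ chMap X (d.c true) (hπ true) ≫ k' =
        chMap X o (rfl : o ≫ t = o ≫ t) ≫ chMap X (d.c false) (hπ false) ≫ k' := by
      rw [← Category.assoc, ← Category.assoc (chMap X o rfl),
        chMap_comp X o (d.c true) rfl (hπ true) (o ≫ d.c false) d.agree.symm (by rw [Category.assoc, hπ]),
        chMap_comp X o (d.c false) rfl (hπ false) (o ≫ d.c false) rfl (by rw [Category.assoc, hπ])]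
    rw [q true r₁ e₁, hag, ← q false r₀ e₀]
    show _ = (r₀.1 ≫ τz.1) ≫ _
    rw [Category.assoc, ← Category.assoc τz.1, ez, Category.assoc, ← hτe]
  have hr : r₁ = r₀.mul τz := by
    have hl : 𝒳.p.IsHomLift (zO ≫ o ≫ d.c true) (chMap X zO hzO ≫ chMap X o rfl ≫ μ true) := inferInstance
    haveI := r₁.2
    have hl' : 𝒳.p.IsHomLift (zO ≫ o ≫ d.c true) (r₁.1 ≫ chMap X zO hzO ≫ chMap X o rfl ≫ μ true) :=
      inferInstance
    obtain ⟨χ, -, huniq⟩ := exists_fac hX (𝟙 O) (Category.id_comp _) _ hl _ hl'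
    exact Subtype.ext ((huniq _ r₁.2 rfl).trans (huniq _ (r₀.mul τz).2 hA.symm).symm)
  have hτG : IsRestr o τ (((h false).inv hX).mul (h true)) := by
    have hg := IsRestr.mul (hr₀.inv hX) hr₁
    rwa [hr, ← AutT.mul_assoc', AutT.inv_mul, AutT.one_mul', ← H τ τz hτz] at hg
  -- hence the twisted object is trivial
  obtain ⟨_, eG⟩ := hτG
  let G := ((h false).inv hX).mul (h true)
  obtain ⟨n, hn, -⟩ := exists_hom_glue h𝒳 X d τ (x := ξ) μ hμ hτe (y := chObj X (𝟙 B)) π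
    (fun b => bif b then chMap X t (Category.comp_id t) else G.1 ≫ chMap X t (Category.comp_id t))
    (fun b => by
      rw [hπ b]
      haveI := G.2
      cases b
      · exact inferInstanceAs (𝒳.p.IsHomLift t (G.1 ≫ chMap X t (Category.comp_id t)))
      · exact inferInstanceAs (𝒳.p.IsHomLift t (chMap X t (Category.comp_id t))))
    (by
      show τ.1 ≫ chMap X o rfl ≫ chMap X t _ = chMap X o rfl ≫ G.1 ≫ chMap X t _
      rw [← Category.assoc, eG, Category.assoc])
  obtain ⟨n', hn'⟩ := natural' φ π n hn (y' := ζ) (y := chObj Y (𝟙 B))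
    (by rw [← hξ]; exact Equiv.apply_symm_apply _ _) (corr_chObj hY φ hXY _)
  exact exists_extend_of_hom hY Y o d π hπ σ m hm hrel n' hn'

section Scale

variable {k : Type u} [Field k] {R R' : Type u} [CommRing R] [Algebra k R] [CommRing R'] [Algebra k R']

/-- The map of first order deformations scaling the infinitesimal part. -/
noncomputable def scale (f₀ : R →ₐ[k] R') (u : R') : Dual R →ₐ[k] Dual R' :=
  TrivSqZeroExt.lift ((inlAlgHom k R' R').comp f₀)
    { toFun := fun m => inr (u * f₀ m)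
      map_add' := fun a b => TrivSqZeroExt.ext (by simp) (by simp [mul_add])
      map_smul' := fun c a => TrivSqZeroExt.ext (by simp) (by simp) }
    (fun a b => by simp)
    (fun r a => TrivSqZeroExt.ext (by simp) (by simp; ring))
    (fun r a => TrivSqZeroExt.ext (by simp) (by simp; ring))

theorem fst_scale (f₀ : R →ₐ[k] R') (u : R') (x : Dual R) : fst (scale f₀ u x) = f₀ (fst x) := by
  simp [scale, TrivSqZeroExt.lift_def]

theorem snd_scale (f₀ : R →ₐ[k] R') (u : R') (x : Dual R) : snd (scale f₀ u x) = u * f₀ (snd x) := by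
  simp [scale, TrivSqZeroExt.lift_def]

theorem isLocalization_scale (Rf : Type u) [CommRing Rf] [Algebra k Rf] [Algebra R Rf] [IsScalarTower k R Rf] (f : R)
    [IsLocalization.Away f Rf] (hf : f ∈ nonZeroDivisors R) :
    letI := (scale (IsScalarTower.toAlgHom k R Rf) 1).toRingHom.toAlgebra
    IsLocalization.Away (inl f : Dual R) (Dual Rf) := by
  letI := (scale (IsScalarTower.toAlgHom k R Rf) 1).toRingHom.toAlgebra
  have h1 : ∀ x : Dual R, fst (algebraMap (Dual R) (Dual Rf) x) = algebraMap R Rf (fst x) := fun x =>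
    fst_scale _ _ x
  have h2 : ∀ x : Dual R, snd (algebraMap (Dual R) (Dual Rf) x) = algebraMap R Rf (snd x) := fun x =>
    (snd_scale _ _ x).trans (one_mul _)
  have hfe : ∀ n : ℕ, algebraMap (Dual R) (Dual Rf) (inl f) ^ n = inl (algebraMap R Rf f ^ n) := fun n => by
    rw [show algebraMap (Dual R) (Dual Rf) (inl f) = inl (algebraMap R Rf f) from
      TrivSqZeroExt.ext (by rw [h1]; simp) (by rw [h2]; simp), inl_pow]
  refine IsLocalization.Away.mk _ ?_ (fun z => ?_) (fun x y h => ⟨0, ?_⟩)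
  · have := hfe 1
    rw [pow_one, pow_one] at this
    rw [this]
    exact (IsLocalization.Away.algebraMap_isUnit f).map (inlHom Rf Rf)
  · obtain ⟨n, p, hp⟩ := IsLocalization.Away.surj f (fst z)
    obtain ⟨m, q, hq⟩ := IsLocalization.Away.surj f (snd z)
    refine ⟨n + m, inl (p * f ^ m) + inr (q * f ^ n), TrivSqZeroExt.ext ?_ ?_⟩
    · rw [hfe, h1]; simp [← hp, pow_add]; ring
    · rw [hfe, h2]; simp [← hq, pow_add]; ring
  · rw [pow_zero, one_mul, one_mul]
    have inj := IsLocalization.injective Rf (Submonoid.powers_le.2 hf)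
    exact TrivSqZeroExt.ext (inj (by rw [← h1, ← h1, h])) (inj (by rw [← h2, ← h2, h]))

end Scale

variable {k : Type u} [Field k] [IsAlgClosed k] {s₀ : Spec (CommRingCat.of k) ⟶ S}

theorem lieTriv_of_corr (h𝒳 : Stk.IsStack (AlgSp.J S) 𝒳) (h𝒴 : Stk.IsStack (AlgSp.J S) 𝒴)
    (hIX : RepByAlgSp1 (inertiaToBase (toSelf 𝒳))) (hIY : RepByAlgSp1 (inertiaToBase (toSelf 𝒴))) (φ : FIso 𝒳 𝒴)
    {X : overCat (Over.mk s₀) ⥤ᵇ 𝒳} {Y : overCat (Over.mk s₀) ⥤ᵇ 𝒴}
    (hXY : φ.toEquiv (Over.mk s₀) (objCls X) = objCls Y) (hL : LieTriv X) : LieTriv Y := by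
  intro g hg
  have hX := h𝒳.1
  have hY := h𝒴.1
  let Rf := Localization.Away (Polynomial.X : k[X])
  let l : k[X] →ₐ[k] Rf := IsScalarTower.toAlgHom k k[X] Rf
  let b : Dual k[X] →ₐ[k] Dual Rf := scale l 1
  let o := aMap s₀ b
  haveI : IsOpenImmersion o.left := by
    letI := (scale l 1).toRingHom.toAlgebra
    haveI := isLocalization_scale (k := k) Rf (Polynomial.X : k[X]) (Polynomial.monic_X (R := k)).mem_nonZeroDivisors
    exact IsOpenImmersion.of_isLocalization (S := Dual Rf) (inl (Polynomial.X : k[X]))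
  let v : Rf := IsLocalization.Away.invSelf (Polynomial.X : k[X])
  let f : Dual k →ₐ[k] Dual Rf := scale (Algebra.ofId k Rf) v
  obtain ⟨σ, hσ⟩ := IsRestr.exists_of hY (t' := aStr s₀ (Dual Rf)) (aMap_aStr f) g
  have kσ : Ker σ := ker_restr hY f (Algebra.ofId k Rf) (AlgHom.ext fun x => fst_scale _ _ x) hg hσ
  let z : Dual k[X] →ₐ[k] Dual k[X] := (inlAlgHom k k[X] k[X]).comp (fstHom k k[X] k[X])
  let zf : Dual Rf →ₐ[k] Dual Rf := (inlAlgHom k Rf Rf).comp (fstHom k Rf Rf)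
  have hot : o ≫ aStr s₀ (Dual k[X]) = aStr s₀ (Dual Rf) := aMap_aStr b
  have hzo : aMap s₀ zf ≫ o = o ≫ aMap s₀ z := by
    rw [aMap_comp, aMap_comp]
    congr 1
    exact AlgHom.ext fun x => TrivSqZeroExt.ext (by simp [zf, z, b, fst_scale]) (by simp [zf, z, b, fst_scale, snd_scale])
  have hσz : IsRestr (aMap s₀ zf) (AutT.one (t := aStr s₀ (Dual Rf))) σ :=
    (IsRestr.one (aMap_aStr (inlAlgHom k Rf Rf))).trans kσ (aMap_comp (fstHom k Rf Rf) (inlAlgHom k Rf Rf))
  have hext : ∀ (s : aPt s₀ (Dual Rf) ⟶ Over.mk s₀), o ≫ aStr s₀ (Dual k[X]) = s →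
      ∀ σ₀ : AutT Y s, IsRestr (aMap s₀ zf) (AutT.one (t := s)) σ₀ →
      (∀ τ τ' : AutT X s, IsRestr (aMap s₀ zf) τ' τ → τ = τ') →
      ∃ g' : AutT Y (aStr s₀ (Dual k[X])), IsRestr o σ₀ g' := by
    intro s hs
    subst hs
    intro σ₀ h1 h2
    exact extend_of_corr h𝒳 h𝒴 φ hXY o _ (aMap s₀ z) (aMap s₀ zf) (aMap_aStr z) hzo σ₀ h1 h2
  obtain ⟨g', hg'⟩ := hext _ hot σ hσz (fun τ τ' h => by
    obtain ⟨τf, hτf⟩ := IsRestr.exists_of hX (aMap_aStr (fstHom k Rf Rf)) τ
    obtain ⟨τ₂, hτ₂⟩ := IsRestr.exists_of hX (aMap_aStr (fstHom k Rf Rf)) τ'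
    have e : aMap s₀ (fstHom k Rf Rf) ≫ aMap s₀ zf = aMap s₀ (fstHom k Rf Rf) := by
      rw [aMap_comp]; rfl
    obtain rfl := IsRestr.unique hX (hτ₂.trans h e) hτf
    have hk : Ker (τ.mul (τ'.inv hX)) := by
      have := IsRestr.mul hτf (hτ₂.inv hX)
      rwa [AutT.mul_inv] at this
    have h1 := congrArg (fun a => a.mul τ') (lieTriv_all hX hIX hL _ hk)
    simpa only [AutT.mul_assoc', AutT.inv_mul, AutT.mul_one', AutT.one_mul'] using h1)
  -- normalise the extension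
  obtain ⟨gz, hgz⟩ := IsRestr.exists_of hY (aMap_aStr z) g'
  obtain ⟨gf, hgf⟩ := IsRestr.exists_of hY (aMap_aStr (fstHom k k[X] k[X])) g'
  obtain ⟨gzf, hgzf⟩ := IsRestr.exists_of hY (aMap_aStr (fstHom k k[X] k[X])) gz
  have e : aMap s₀ (fstHom k k[X] k[X]) ≫ aMap s₀ z = aMap s₀ (fstHom k k[X] k[X]) := by
    rw [aMap_comp]; rfl
  obtain rfl := IsRestr.unique hY (hgzf.trans hgz e) hgf
  let G := g'.mul (gz.inv hY)
  have kG : Ker G := by
    have := IsRestr.mul hgf (hgzf.inv hY)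
    rwa [AutT.mul_inv] at this
  obtain ⟨r, hr⟩ := IsRestr.exists_of hY hot gz
  obtain rfl : r = AutT.one := IsRestr.unique hY (hr.trans hgz rfl) (hσz.trans hg' hzo)
  have hGσ : IsRestr o σ G := by
    have := IsRestr.mul hg' (hr.inv hY)
    rwa [show (AutT.one (Z := Y) (t := aStr s₀ (Dual Rf))).inv hY = AutT.one from
      (AutT.one_mul' _).symm.trans (AutT.mul_inv hY _), AutT.mul_one'] at this
  -- derivations
  obtain ⟨c⟩ := exists_chart hY hIY Y
  obtain ⟨D, hD, -⟩ := c.exists_isDer hg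
  obtain ⟨E, hE, -⟩ := c.exists_isDer kG
  obtain ⟨F, -, huniq⟩ := c.exists_isDer kσ
  have h1 : c.IsDer σ (fun a => v * algebraMap k Rf (D a)) :=
    c.isDer_restr f (Algebra.ofId k Rf) (fun x => v * algebraMap k Rf x) (fun x => fst_scale _ _ x)
      (fun r x => by rw [snd_scale]; simp [Algebra.ofId_apply]) hσ hD
  have h2 : c.IsDer σ (fun a => l (E a)) :=
    c.isDer_restr b l l (fun x => fst_scale _ _ x) (fun r x => by rw [snd_scale]; simp) hGσ hE
  refine c.eq_one_of_isDer_zero ?_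
  convert hD
  funext a
  have h3 := congrFun ((huniq _ h2).trans (huniq _ h1).symm) a
  have h4 : algebraMap k[X] Rf (Polynomial.X * E a) = algebraMap k[X] Rf (Polynomial.C (D a)) := by
    rw [map_mul, show algebraMap k[X] Rf (E a) = v * algebraMap k Rf (D a) from h3, ← mul_assoc,
      show algebraMap k[X] Rf Polynomial.X * v = 1 from IsLocalization.Away.mul_invSelf _, one_mul,
      IsScalarTower.algebraMap_apply k k[X] Rf, Polynomial.algebraMap_eq]
  have h5 := congrArg (fun p : k[X] => p.coeff 0)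
    (IsLocalization.injective Rf (Submonoid.powers_le.2 (Polynomial.monic_X (R := k)).mem_nonZeroDivisors) h4)
  simpa using h5

end Groth.Agent.IsoNat97
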