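import Groth.Agent.IsoNat97.Sec
import Groth.Agent.AlgSt88.Fibred

/-! Liftings for charts are liftings of sections of their fibre spaces. -/

set_option autoImplicit false
set_option linter.unusedVariables false
set_option linter.style.haveILetI false
set_option backward.isDefEq.respectTransparency false
set_option backward.isDefEq.respectTransparency.types false
universe u

open CategoryTheory CategoryTheory.Limits AlgebraicGeometry Opposite AlgSt FibCat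

namespace Groth.Agent.IsoNat97

open AlgSt88

variable {S : Scheme.{u}} {𝒳 𝒲 : AlgSt.Cat S} {U : Over S}

/-- Sections of a space with property `P` over `T` lift along `i`. -/
def SecLifts (P : MorphismProperty (AlgSp.Sp S)) {T₀ T : Over S} (i : T₀ ⟶ T) : Prop :=
  ∀ (F : AlgSp.Space S) (π : F.obj ⟶ (AlgSp.yon S).obj T), P π →
    ∀ s₀ : (AlgSp.yon S).obj T₀ ⟶ F.obj, s₀ ≫ π = (AlgSp.yon S).map i →
      ∃ s : (AlgSp.yon S).obj T ⟶ F.obj, s ≫ π = 𝟙 _ ∧ (AlgSp.yon S).map i ≫ s = s₀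

/-- An object of a fibre product with a slice. -/
noncomputable def mkObj (hX : IsFibGrpd 𝒳.p) {T₁ T : Over S} {c : overCat T₁ ⥤ᵇ 𝒳} (x : overCat U ⥤ᵇ 𝒳)
    (b : T ⟶ T₁) (a : T ⟶ U) (θ : (chObj c b).1 ⟶ (chObj x a).1) (hθ : 𝒳.p.IsHomLift (𝟙 T) θ) : (fp c x).obj :=
  haveI := hθ
  haveI := fg_isIso_of_lift_id hX θ T
  ⟨{ fst := Over.mk b, snd := Over.mk a, iso := asIso θ }, hθ⟩

theorem liftsAt_of_secLifts (hX : IsFibGrpd 𝒳.p) {x : overCat U ⥤ᵇ 𝒳} {P : MorphismProperty (AlgSp.Sp S)}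
    (hx : RepByAlgSpWith P x) {T₀ T : Over S} {i : T₀ ⟶ T} (H : SecLifts P i) : LiftsAt x i := by
  intro ζ a₀ m₀ hm₀
  haveI := hm₀
  have hζ : 𝒳.p.obj ζ = T := IsHomLift.codomain_eq 𝒳.p i m₀
  let c := classify hX ζ hζ
  obtain ⟨ε, hε⟩ := classify_mk_id hX ζ hζ
  haveI := hε
  obtain ⟨F, e, he, hπ⟩ := hx T c
  have hP : IsFibGrpd (fp c x).p := isFibGrpd_fp (isFibGrpd_overCat T) (isFibGrpd_overCat U) hX c x
  let ψ : (chObj x a₀).1 ⟶ ζ := m₀
  obtain ⟨θ, ⟨hθ, hθe⟩, -⟩ := exists_fac hX (𝟙 T₀) (Category.id_comp i) ψ hm₀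
    (chMap c i (a := 𝟙 T) (Category.comp_id i) ≫ ε.hom) inferInstance
  let o₀ := mkObj hX x i a₀ θ hθ
  obtain ⟨s₀, k₀, hk₀⟩ := exists_sec he (T := T₀) o₀ rfl
  have hs₀ : s₀ ≫ spMapOfOver (BasedFunctor.comp e (fpFst c x)) = (AlgSp.yon S).map i :=
    (sec_proj e s₀ o₀ rfl k₀ hk₀).trans (congrArg _ (Category.id_comp i))
  obtain ⟨s, hs, his⟩ := H F _ hπ s₀ hs₀
  subst his
  -- the object of the lifted section
  let o := e.obj (secObj s)
  have ho₁ : o.obj.fst.left = T := e.w_obj (secObj s)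
  have ho₂ : o.obj.snd.left = T := ((fpSnd c x).w_obj o).trans ho₁
  obtain ⟨r, hr⟩ := exists_res (P := fp c x) (e := e) i s
  haveI := hr
  haveI := hk₀
  haveI := fg_isIso_of_lift_id hP k₀ T₀
  let q : o₀ ⟶ o := inv k₀ ≫ r
  haveI hq : (fp c x).p.IsHomLift i q := by dsimp only [q]; infer_instance
  have hq₁ : q.hom.fst.left = i ≫ eqToHom ho₁.symm := by
    have h := IsHomLift.fac' (fp c x).p i q
    exact h.trans (by simp)
  have hq₂ : q.hom.snd.left = i ≫ eqToHom ho₂.symm := by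
    refine (p_map_eq (fpSnd c x) q).trans ?_
    change _ ≫ q.hom.fst.left ≫ _ = _
    rw [hq₁]; simp
  let a : T ⟶ U := eqToHom ho₂.symm ≫ o.obj.snd.hom
  have ha : i ≫ a = a₀ := by
    have h := Over.w q.hom.snd
    rw [hq₂, Category.assoc] at h
    exact h
  let J : Over.mk a ⟶ o.obj.snd := Over.homMk (eqToHom ho₂.symm) rfl
  let K : o.obj.fst ⟶ Over.mk (𝟙 T) := Over.homMk (eqToHom ho₁) (by
    have h1 := congrArg (fun t : (AlgSp.yon S).obj T ⟶ (AlgSp.yon S).obj T => (secVal t).down) hs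
    simp only [secVal] at h1
    have h2 : secHom (BasedFunctor.comp e (fpFst c x)) (secObj s) = 𝟙 T := h1
    have h3 : eqToHom ho₁.symm ≫ o.obj.fst.hom = 𝟙 T := h2
    show eqToHom ho₁ ≫ 𝟙 T = _
    rw [← h3]; simp)
  refine ⟨a, ha, x.map J ≫ o.obj.iso.inv ≫ c.map K ≫ ε.hom, ?_, ?_⟩
  · refine IsHomLift.of_fac' 𝒳.p (𝟙 T) _ (chObj x a).2 hζ ?_
    simp only [Functor.map_comp, IsHomLift.fac' 𝒳.p (𝟙 T) ε.hom]
    rw [p_map_eq, p_map_eq, show 𝒳.p.map o.obj.iso.inv = inv (𝒳.p.map o.obj.iso.hom) by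
      rw [← Functor.map_inv]; simp]
    rw [show (overCat U).p.map J = eqToHom ho₂.symm from rfl, show (overCat T).p.map K = eqToHom ho₁ from rfl]
    simp [fp_iso_map]
  · haveI := hθ
    haveI := fg_isIso_of_lift_id hX θ T₀
    have hw : c.map q.hom.fst ≫ o.obj.iso.hom = θ ≫ x.map q.hom.snd := q.hom.w
    have hJ : x.map q.hom.snd = chMap x i ha ≫ x.map J := by
      rw [← Functor.map_comp]; congr 1; exact Over.OverMorphism.ext hq₂
    have hK : c.map q.hom.fst ≫ c.map K = chMap c i (a := 𝟙 T) (Category.comp_id i) := by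
      rw [← Functor.map_comp]; congr 1; exact Over.OverMorphism.ext (by
        show q.hom.fst.left ≫ eqToHom ho₁ = i
        rw [hq₁]; simp)
    rw [← cancel_epi θ, hθe, ← hK, ← Category.assoc (chMap x i ha), ← hJ, ← Category.assoc θ, ← hw]
    simp only [Category.assoc, Iso.hom_inv_id_assoc]

/-- Lifting of objects gives lifting of sections. -/
theorem secLift_of_lift (hX : IsFibGrpd 𝒳.p) {T₁ : Over S} {c : overCat T₁ ⥤ᵇ 𝒳} {x : overCat U ⥤ᵇ 𝒳}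
    {F : AlgSp.Space S} {e : ofSp F.obj ⥤ᵇ fp c x} (he : IsEquivOver e) {T₀ T : Over S} (i : T₀ ⟶ T) (b : T ⟶ T₁)
    (H : ∀ (a₀ : T₀ ⟶ U) (m₀ : (chObj x a₀).1 ⟶ (chObj c b).1), 𝒳.p.IsHomLift i m₀ →
      ∃ (a : T ⟶ U) (h : i ≫ a = a₀) (n : (chObj x a).1 ⟶ (chObj c b).1),
        𝒳.p.IsHomLift (𝟙 T) n ∧ chMap x i h ≫ n = m₀)
    (s₀ : (AlgSp.yon S).obj T₀ ⟶ F.obj)
    (hs₀ : s₀ ≫ spMapOfOver (BasedFunctor.comp e (fpFst c x)) = (AlgSp.yon S).map (i ≫ b)) :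
    ∃ s : (AlgSp.yon S).obj T ⟶ F.obj, (AlgSp.yon S).map i ≫ s = s₀ ∧
      s ≫ spMapOfOver (BasedFunctor.comp e (fpFst c x)) = (AlgSp.yon S).map b := by
  have hP : IsFibGrpd (fp c x).p := isFibGrpd_fp (isFibGrpd_overCat T₁) (isFibGrpd_overCat U) hX c x
  let o₀ := e.obj (secObj s₀)
  have ho₁ : o₀.obj.fst.left = T₀ := e.w_obj (secObj s₀)
  have ho₂ : o₀.obj.snd.left = T₀ := ((fpSnd c x).w_obj o₀).trans ho₁
  let a₀ : T₀ ⟶ U := eqToHom ho₂.symm ≫ o₀.obj.snd.hom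
  let J : Over.mk a₀ ⟶ o₀.obj.snd := Over.homMk (eqToHom ho₂.symm) rfl
  let J' : o₀.obj.snd ⟶ Over.mk a₀ := Over.homMk (eqToHom ho₂) (by simp [a₀])
  have hb₀ : o₀.obj.fst.hom = eqToHom ho₁ ≫ i ≫ b := by
    have h1 := congrArg (fun t : (AlgSp.yon S).obj T₀ ⟶ (AlgSp.yon S).obj T₁ => (secVal t).down) hs₀
    have h2 : eqToHom ho₁.symm ≫ o₀.obj.fst.hom = 𝟙 T₀ ≫ i ≫ b := h1
    rw [Category.id_comp] at h2
    rw [← h2]; simp
  let K : o₀.obj.fst ⟶ Over.mk b := Over.homMk (eqToHom ho₁ ≫ i) (by rw [hb₀]; simp)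
  let m₀ : (chObj x a₀).1 ⟶ (chObj c b).1 := x.map J ≫ o₀.obj.iso.inv ≫ c.map K
  have hm₀ : 𝒳.p.IsHomLift i m₀ := by
    refine IsHomLift.of_fac' 𝒳.p i _ (chObj x a₀).2 (chObj c b).2 ?_
    simp only [m₀, Functor.map_comp]
    rw [p_map_eq, p_map_eq, show 𝒳.p.map o₀.obj.iso.inv = inv (𝒳.p.map o₀.obj.iso.hom) by
      rw [← Functor.map_inv]; simp]
    rw [show (overCat U).p.map J = eqToHom ho₂.symm from rfl,
      show (overCat T₁).p.map K = eqToHom ho₁ ≫ i from rfl]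
    simp [fp_iso_map]
  obtain ⟨a, ha, n, hn, hne⟩ := H a₀ m₀ hm₀
  haveI := hn
  haveI := fg_isIso_of_lift_id hX n T
  let o := mkObj hX x b a (inv n) inferInstance
  obtain ⟨s, k, hk⟩ := exists_sec he (T := T) o rfl
  let q : o₀ ⟶ o := fpHom (x := o₀) (y := o) K (J' ≫ (Over.homMk i ha : Over.mk a₀ ⟶ Over.mk a)) (by
    show c.map K ≫ inv n = o₀.obj.iso.hom ≫ x.map (J' ≫ (Over.homMk i ha : Over.mk a₀ ⟶ Over.mk a))
    rw [Functor.map_comp, ← cancel_mono n]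
    simp only [Category.assoc, IsIso.inv_hom_id, Category.comp_id, m₀] at hne ⊢
    rw [show x.map (Over.homMk i ha : Over.mk a₀ ⟶ Over.mk a) ≫ n = _ from hne, ← Functor.map_comp_assoc,
      show J' ≫ J = 𝟙 _ from Over.OverMorphism.ext (by
        change eqToHom ho₂ ≫ eqToHom ho₂.symm = 𝟙 _
        simp)]
    simp)
  have hq : (fp c x).p.IsHomLift i q := IsHomLift.of_fac' (fp c x).p i q ho₁ rfl (by
    show K.left = _
    simp [K])
  refine ⟨s, ?_, ?_⟩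
  · exact sec_eq he hP i (o' := o₀) (o := o) (𝟙 _) (map_eqToHom_lift (𝒳 := fp c x) ho₁) k hk q hq
  · exact (sec_proj e s o rfl k hk).trans (congrArg _ (Category.id_comp b))

end Groth.Agent.IsoNat97
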