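import Groth.Agent.IsoNat97.AbelTransfer

/-! Loops: forms on doubled crossing lines recording an automorphism of the base point. -/

set_option autoImplicit false
set_option linter.unusedVariables false
set_option linter.style.haveILetI false
set_option backward.isDefEq.respectTransparency false
set_option backward.isDefEq.respectTransparency.types false
universe u

open CategoryTheory CategoryTheory.Limits AlgebraicGeometry Opposite AlgSt FibCat Polynomial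

namespace Groth.Agent.IsoNat97

open AlgSt88 IsoNat

variable {S : Scheme.{u}} {𝒳 𝒴 : AlgSt.Cat S} {A : Type u} [CommRing A] {s₀ : Spec (CommRingCat.of A) ⟶ S}
  {B : Over S} {Z : overCat B ⥤ᵇ 𝒳}

/-- The origin of the line. -/
noncomputable def zeroPt (s₀ : Spec (CommRingCat.of A) ⟶ S) : Over.mk s₀ ⟶ aPt s₀ A[X] :=
  basePt s₀ ≫ aMap s₀ (aeval (0 : A))

theorem zeroPt_aStr : zeroPt s₀ ≫ aStr s₀ A[X] = 𝟙 _ := by
  rw [zeroPt, Category.assoc, aMap_aStr, basePt_aStr]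

theorem zeroPt_str (b : Over.mk s₀ ⟶ B) : zeroPt s₀ ≫ aStr s₀ A[X] ≫ b = b := by
  rw [← Category.assoc, zeroPt_aStr, Category.id_comp]

/-- The origin of a star. -/
noncomputable def starPt (s₀ : Spec (CommRingCat.of A) ⟶ S) (n : ℕ) : Over.mk s₀ ⟶ aPt s₀ (Star A n) :=
  basePt s₀ ≫ aMap s₀ starOrigin

theorem zeroPt_starLine {n : ℕ} (i : Fin (n + 1)) : zeroPt s₀ ≫ aMap s₀ (starLine i) = starPt s₀ n := by
  rw [zeroPt, starPt, Category.assoc, aMap_comp, aeval_comp_starLine]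

theorem starPt_str {n : ℕ} (b : Over.mk s₀ ⟶ B) : starPt s₀ n ≫ aStr s₀ (Star A n) ≫ b = b := by
  rw [starPt, Category.assoc, ← Category.assoc (aMap s₀ starOrigin), aMap_aStr, ← Category.assoc, basePt_aStr,
    Category.id_comp]

theorem puncLine_str (b : Over.mk s₀ ⟶ B) :
    puncLine s₀ ≫ aStr s₀ A[X] ≫ b = aStr s₀ (Localization.Away (X : A[X])) ≫ b := by
  rw [← Category.assoc, aMap_aStr]

theorem starLine_str {n : ℕ} (i : Fin (n + 1)) (b : Over.mk s₀ ⟶ B) :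
    aMap s₀ (starLine i) ≫ aStr s₀ (Star A n) ≫ b = aStr s₀ A[X] ≫ b := by
  rw [← Category.assoc, aMap_aStr]

theorem puncMem_str {n : ℕ} (i : Fin (n + 1)) (b : Over.mk s₀ ⟶ B) :
    puncMem s₀ n i ≫ starOpen s₀ n ≫ aStr s₀ (Star A n) ≫ b = aStr s₀ (Localization.Away (X : A[X])) ≫ b := by
  rw [← Category.assoc, ← Category.assoc, puncMem_starOpen]
  show (puncIncl s₀ i ≫ _) ≫ b = _
  rw [puncIncl, aMap_aStr]

/-- A punctured-line automorphism extends with the given value at the origin. -/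
def HasVal (b : Over.mk s₀ ⟶ B) (σ : AutT Z (aStr s₀ (Localization.Away (X : A[X])) ≫ b)) (e : AutT Z b) : Prop :=
  ∃ l : AutT Z (aStr s₀ A[X] ≫ b), IsRestr (puncLine s₀) σ l ∧ IsRestr (zeroPt s₀) e l

variable {b : Over.mk s₀ ⟶ B} {σ σ' : AutT Z (aStr s₀ (Localization.Away (X : A[X])) ≫ b)} {e e' : AutT Z b}

theorem HasVal.unique (hX : IsFibGrpd 𝒳.p) (hIs : RepByAlgSpWith AlgSp.IsSeparatedMor (inertiaToBase (toSelf 𝒳)))
    (h : HasVal b σ e) (h' : HasVal b σ e') : e = e' := by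
  obtain ⟨l, h1, h2⟩ := h
  obtain ⟨l', h1', h2'⟩ := h'
  obtain rfl := autT_eq_of_dense hX hIs (puncLine s₀) puncLine_injective h1 h1'
  exact IsRestr.unique hX h2 h2'

theorem HasVal.mul (h : HasVal b σ e) (h' : HasVal b σ' e') : HasVal b (σ.mul σ') (e.mul e') := by
  obtain ⟨l, h1, h2⟩ := h
  obtain ⟨l', h1', h2'⟩ := h'
  exact ⟨l.mul l', IsRestr.mul h1 h1', IsRestr.mul h2 h2'⟩

theorem HasVal.inv (hX : IsFibGrpd 𝒳.p) (h : HasVal b σ e) : HasVal b (σ.inv hX) (e.inv hX) := by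
  obtain ⟨l, h1, h2⟩ := h
  exact ⟨l.inv hX, h1.inv hX, h2.inv hX⟩

theorem HasVal.const (hX : IsFibGrpd 𝒳.p)
    (h : IsRestr (aStr s₀ (Localization.Away (X : A[X]))) σ e) : HasVal b σ e := by
  obtain ⟨l, hl⟩ := IsRestr.exists_of hX (rfl : aStr s₀ A[X] ≫ b = _) e
  obtain ⟨e₁, he₁⟩ := IsRestr.exists_of hX (puncLine_str b) l
  obtain ⟨e₂, he₂⟩ := IsRestr.exists_of hX (zeroPt_str b) l
  refine ⟨l, ?_, ?_⟩
  · obtain rfl := IsRestr.unique hX (he₁.trans hl (aMap_aStr _)) h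
    exact he₁
  · obtain rfl := IsRestr.unique hX (he₂.trans hl zeroPt_aStr) (IsRestr.refl e)
    exact he₂

/-- A form on a doubled star with constant transition along each line. -/
def Cst {n : ℕ} {D : Over S} (b : Over.mk s₀ ⟶ B) (d : Doubling (starOpen s₀ n) D) (ξ : 𝒳.p.Fiber D)
    (fam : Fin (n + 1) → AutT Z b) : Prop :=
  ∃ τ : AutT Z (starOpen s₀ n ≫ aStr s₀ (Star A n) ≫ b),
    Nonempty (Triv Z d (aStr s₀ (Star A n) ≫ b) rfl ξ τ) ∧
      ∀ i, ∃ σ : AutT Z (aStr s₀ (Localization.Away (X : A[X])) ≫ b),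
        IsRestr (puncMem s₀ n i) σ τ ∧ IsRestr (aStr s₀ (Localization.Away (X : A[X]))) σ (fam i)

theorem exists_cst (h𝒳 : Stk.IsStack (AlgSp.J S) 𝒳) {n : ℕ} {D : Over S} (d : Doubling (starOpen s₀ n) D)
    (fam : Fin (n + 1) → AutT Z b) : ∃ ξ : 𝒳.p.Fiber D, Cst b d ξ fam := by
  have hX := h𝒳.1
  choose σ hσ using fun i => IsRestr.exists_of hX (rfl : aStr s₀ (Localization.Away (X : A[X])) ≫ b = _) (fam i)
  obtain ⟨τ, hτ⟩ := exists_autT_glue h𝒳 Z _ (fun i => puncMem s₀ n i)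
    (fun i => SpFP87.sigmaIncl_isOpenImmersion (fun _ : ULift.{u} (Fin (n + 1)) => puncPt s₀) ⟨i⟩)
    (puncSigma_cover s₀) (fun i j a b h => puncSigma_disj s₀ i j a b h) (fun i => puncMem_str i b) σ
  obtain ⟨ξ, hT⟩ := exists_triv h𝒳 Z d (aStr s₀ (Star A n) ≫ b) rfl τ
  exact ⟨ξ, τ, hT, fun i => ⟨σ i, hτ i, hσ i⟩⟩

theorem Cst.isForm {n : ℕ} {D : Over S} {d : Doubling (starOpen s₀ n) D} {ξ : 𝒳.p.Fiber D}
    {fam : Fin (n + 1) → AutT Z b} (h : Cst b d ξ fam) : IsForm Z d (aStr s₀ (Star A n) ≫ b) ξ := by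
  obtain ⟨τ, ⟨T⟩, -⟩ := h
  exact T.isForm

section Map

variable {O C D : Over S} {o : O ⟶ C} {d : Doubling o D} {t : C ⟶ B} {s : O ⟶ B} {hs : o ≫ t = s}
  {m : ℕ} {D' : Over S} {d' : Doubling (starOpen s₀ m) D'} {oo : puncSigma s₀ m ⟶ O}
  {cc : aPt s₀ (Star A m) ⟶ C} {ρ : D' ⟶ D}

/-- Morphisms into a form with constant restrictions. -/
theorem Cst.exists_hom (h𝒳 : Stk.IsStack (AlgSp.J S) 𝒳) {ξ : 𝒳.p.Fiber D} {τ : AutT Z s} (T : Triv Z d t hs ξ τ)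
    {z : 𝒳.p.Fiber D'} {fam' : Fin (m + 1) → AutT Z b} (hz : Cst b d' z fam')
    (hcc : cc ≫ t = aStr s₀ (Star A m) ≫ b) (hoc : starOpen s₀ m ≫ cc = oo ≫ o)
    (hρ : ∀ c, d'.c c ≫ ρ = cc ≫ d.c c) {ev : Fin (m + 1) → AutT Z b}
    (hev : ∀ k, ∃ σ : AutT Z (aStr s₀ (Localization.Away (X : A[X])) ≫ b), IsRestr (puncMem s₀ m k ≫ oo) σ τ ∧
      IsRestr (aStr s₀ (Localization.Away (X : A[X]))) σ (ev k))
    (qf qt : AutT Z b) (h : ∀ k, (fam' k).mul qt = qf.mul (ev k)) :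
    ∃ a : z.1 ⟶ ξ.1, 𝒳.p.IsHomLift ρ a := by
  have hX := h𝒳.1
  obtain ⟨τ', ⟨T'⟩, hσ'⟩ := hz
  have hoot : oo ≫ s = starOpen s₀ m ≫ aStr s₀ (Star A m) ≫ b := by
    rw [← hs, ← Category.assoc, ← hoc, Category.assoc, hcc]
  obtain ⟨τ₁, hτ₁⟩ := IsRestr.exists_of hX hoot τ
  obtain ⟨gt, hgt⟩ := IsRestr.exists_of hX (rfl : aStr s₀ (Star A m) ≫ b = _) qt
  obtain ⟨gf, hgf⟩ := IsRestr.exists_of hX (rfl : aStr s₀ (Star A m) ≫ b = _) qf
  obtain ⟨rt, hrt⟩ := IsRestr.exists_of hX (rfl : starOpen s₀ m ≫ aStr s₀ (Star A m) ≫ b = _) gt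
  obtain ⟨rf, hrf⟩ := IsRestr.exists_of hX (rfl : starOpen s₀ m ≫ aStr s₀ (Star A m) ≫ b = _) gf
  refine exists_hom_of_rel h𝒳 T T' oo cc hcc hoc ρ hρ hτ₁ (fun c => bif c then gt else gf)
    (fun c => bif c then rt else rf) (fun c => by cases c <;> assumption) ?_
  choose σ' hσ'1 hσ'2 using hσ'
  choose σ hσ1 hσ2 using hev
  choose pt hpt using fun i => IsRestr.exists_of hX (puncMem_str i b) rt
  choose pf hpf using fun i => IsRestr.exists_of hX (puncMem_str i b) rf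
  refine autT_ext_cover h𝒳 (fun i => puncMem s₀ m i)
    (fun i => SpFP87.sigmaIncl_isOpenImmersion (fun _ : ULift.{u} (Fin (m + 1)) => puncPt s₀) ⟨i⟩)
    (puncSigma_cover s₀) (σ := fun i => (σ' i).mul (pt i)) (fun i => IsRestr.mul (hσ'1 i) (hpt i)) fun i => ?_
  have hP : puncMem s₀ m i ≫ starOpen s₀ m ≫ aStr s₀ (Star A m) = aStr s₀ (Localization.Away (X : A[X])) :=
    starOpen_aStr s₀ i
  have h1 : IsRestr (aStr s₀ (Localization.Away (X : A[X]))) (pt i) qt :=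
    ((hpt i).trans hrt rfl).trans hgt ((Category.assoc _ _ _).trans hP)
  have h2 : IsRestr (aStr s₀ (Localization.Away (X : A[X]))) (pf i) qf :=
    ((hpf i).trans hrf rfl).trans hgf ((Category.assoc _ _ _).trans hP)
  obtain ⟨σ₁, hσ₁⟩ := IsRestr.exists_of hX (puncMem_str i b) τ₁
  obtain rfl := IsRestr.unique hX (hσ₁.trans hτ₁ rfl) (hσ1 i)
  have e : (σ' i).mul (pt i) = (pf i).mul (σ i) := by
    have h3 := IsRestr.mul (hσ'2 i) h1
    rw [h i] at h3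
    exact IsRestr.unique hX h3 (IsRestr.mul h2 (hσ2 i))
  rw [e]
  exact IsRestr.mul (hpf i) hσ₁

/-- A morphism from a form with constant transition gives values of the transition at the origin. -/
theorem Cst.exists_val (hX : IsFibGrpd 𝒳.p) {ξ : 𝒳.p.Fiber D} {τ : AutT Z s} (T : Triv Z d t hs ξ τ)
    {z : 𝒳.p.Fiber D'} {fam' : Fin (m + 1) → AutT Z b} (hz : Cst b d' z fam')
    (hcc : cc ≫ t = aStr s₀ (Star A m) ≫ b) (hoc : starOpen s₀ m ≫ cc = oo ≫ o)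
    (hρ : ∀ c, d'.c c ≫ ρ = cc ≫ d.c c) (a : z.1 ⟶ ξ.1) (ha : 𝒳.p.IsHomLift ρ a)
    {σ : Fin (m + 1) → AutT Z (aStr s₀ (Localization.Away (X : A[X])) ≫ b)}
    (hσ : ∀ k, IsRestr (puncMem s₀ m k ≫ oo) (σ k) τ) :
    ∃ U V : AutT Z b, ∀ k, HasVal b (σ k) (((V.inv hX).mul (fam' k)).mul U) := by
  obtain ⟨τ', ⟨T'⟩, hσ'⟩ := hz
  have hoot : oo ≫ s = starOpen s₀ m ≫ aStr s₀ (Star A m) ≫ b := by
    rw [← hs, ← Category.assoc, ← hoc, Category.assoc, hcc]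
  obtain ⟨τ₁, hτ₁⟩ := IsRestr.exists_of hX hoot τ
  obtain ⟨T₁⟩ := T.pullback hX (d' := d') (hs' := rfl) oo cc hcc hoc ρ hρ hτ₁ a ha
  obtain ⟨g, r, hr, hrel⟩ := rel_of_hom hX T' T₁ (𝟙 z.1) (IsHomLift.id z.2)
  obtain ⟨U, hU⟩ := IsRestr.exists_of hX (starPt_str b) (g true)
  obtain ⟨V, hV⟩ := IsRestr.exists_of hX (starPt_str b) (g false)
  refine ⟨U, V, fun k => ?_⟩
  have hv : ∀ (c : Bool) (W : AutT Z b), IsRestr (starPt s₀ m) W (g c) →
      ∃ p, IsRestr (puncMem s₀ m k) p (r c) ∧ HasVal b p W := by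
    intro c W hW
    obtain ⟨l, hl⟩ := IsRestr.exists_of hX (starLine_str k b) (g c)
    obtain ⟨p, hp⟩ := IsRestr.exists_of hX (puncMem_str k b) (r c)
    refine ⟨p, hp, l, ?_, ?_⟩
    · obtain ⟨e₁, he₁⟩ := IsRestr.exists_of hX (puncLine_str b) l
      obtain rfl := IsRestr.unique hX (he₁.trans hl (puncIncl_eq s₀ k)) (hp.trans (hr c) (puncMem_starOpen s₀ k))
      exact he₁
    · obtain ⟨e₁, he₁⟩ := IsRestr.exists_of hX (zeroPt_str b) l
      obtain rfl := IsRestr.unique hX (he₁.trans hl (zeroPt_starLine k)) hW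
      exact he₁
  obtain ⟨pt, hpt, vt⟩ := hv true U hU
  obtain ⟨pf, hpf, vf⟩ := hv false V hV
  obtain ⟨σ', hσ'1, hσ'2⟩ := hσ' k
  obtain ⟨σ₁, hσ₁⟩ := IsRestr.exists_of hX (puncMem_str k b) τ₁
  obtain rfl := IsRestr.unique hX (hσ₁.trans hτ₁ rfl) (hσ k)
  have e : σ'.mul pt = pf.mul (σ k) := by
    have h1 := IsRestr.mul hσ'1 hpt
    rw [hrel] at h1
    exact IsRestr.unique hX h1 (IsRestr.mul hpf hσ₁)
  have e2 : σ k = ((pf.inv hX).mul σ').mul pt := by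
    rw [AutT.mul_assoc', e, ← AutT.mul_assoc', AutT.inv_mul, AutT.one_mul']
  rw [e2]
  exact ((vf.inv hX).mul (HasVal.const hX hσ'2)).mul vt

end Map

end Groth.Agent.IsoNat97
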