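import Groth.Agent.IsoNat97.LoopTriv

/-! The correspondence of automorphisms through loops. -/

set_option autoImplicit false
set_option linter.unusedVariables false
set_option linter.style.haveILetI false
set_option backward.isDefEq.respectTransparency false
set_option backward.isDefEq.respectTransparency.types false
universe u

open CategoryTheory CategoryTheory.Limits AlgebraicGeometry Opposite AlgSt FibCat Polynomial

namespace Groth.Agent.IsoNat97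

open AlgSt88 IsoNat

variable {S : Scheme.{u}} {𝒳 𝒴 : AlgSt.Cat S} {B : Over S}

/-- Corresponding charts with commutative automorphisms on both sides. -/
structure AbPair (φ : FIso 𝒳 𝒴) (Z : overCat B ⥤ᵇ 𝒳) (Y : overCat B ⥤ᵇ 𝒴) : Prop where
  stkX : Stk.IsStack (AlgSp.J S) 𝒳
  stkY : Stk.IsStack (AlgSp.J S) 𝒴
  sepX : RepByAlgSpWith AlgSp.IsSeparatedMor (inertiaToBase (toSelf 𝒳))
  sepY : RepByAlgSpWith AlgSp.IsSeparatedMor (inertiaToBase (toSelf 𝒴))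
  corr : φ.toEquiv B (objCls Z) = objCls Y
  abX : Abel Z
  abY : Abel Y

variable {φ : FIso 𝒳 𝒴} {Z : overCat B ⥤ᵇ 𝒳} {Y : overCat B ⥤ᵇ 𝒴}
variable {A : Type u} [CommRing A] {s₀ : Spec (CommRingCat.of A) ⟶ S}

/-- Loops of two automorphisms correspond. -/
def LoopR (φ : FIso 𝒳 𝒴) (b : Over.mk s₀ ⟶ B) (g : AutT Z b) (g' : AutT Y b) : Prop :=
  ∃ (D : Over S) (d : Doubling (starOpen s₀ 1) D) (ξ : 𝒳.p.Fiber D) (η : 𝒴.p.Fiber D),
    Cst b d ξ ![AutT.one, g] ∧ Cst b d η ![AutT.one, g'] ∧ φ.toEquiv D (cls ξ) = cls η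

theorem abel_conj (hY : IsFibGrpd 𝒴.p) (hab : Abel Y) {T : Over S} {t : T ⟶ B} (U V x : AutT Y t) :
    ((V.inv hY).mul x).mul U = (((V.inv hY).mul AutT.one).mul U).mul x := by
  rw [AutT.mul_one', AutT.mul_assoc', hab _ x U, ← AutT.mul_assoc']

theorem exists_sub (s₀ : Spec (CommRingCat.of A) ⟶ S) {m n : ℕ} (f : Fin (m + 1) → Fin (n + 1)) :
    ∃ oo : puncSigma s₀ m ⟶ puncSigma s₀ n, (∀ k, puncMem s₀ m k ≫ oo = puncMem s₀ n (f k)) ∧
      starOpen s₀ m ≫ aMap s₀ (starSub f) = oo ≫ starOpen s₀ n := by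
  obtain ⟨oo, hoo⟩ := exists_puncSigmaHom s₀ (n := m) fun k => puncMem s₀ n (f k)
  refine ⟨oo, hoo, puncSigma_hom_ext s₀ fun k => ?_⟩
  rw [← Category.assoc, puncMem_starOpen, ← Category.assoc, hoo, puncMem_starOpen]
  exact aMap_comp _ _

/-- The values of constant transitions seen through a morphism from a loop. -/
theorem eq_of_hom (hY : IsFibGrpd 𝒴.p) (hYs : RepByAlgSpWith AlgSp.IsSeparatedMor (inertiaToBase (toSelf 𝒴)))
    (hab : Abel Y) {b : Over.mk s₀ ⟶ B} {O C D D' : Over S} {o : O ⟶ C} {d : Doubling o D} {t : C ⟶ B} {s : O ⟶ B}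
    {hs : o ≫ t = s} {η : 𝒴.p.Fiber D} {τ : AutT Y s} (T : Triv Y d t hs η τ) {d' : Doubling (starOpen s₀ 1) D'}
    {z : 𝒴.p.Fiber D'} {x : AutT Y b} (hz : Cst b d' z ![AutT.one, x]) {oo : puncSigma s₀ 1 ⟶ O}
    {cc : aPt s₀ (Star A 1) ⟶ C} {ρ : D' ⟶ D} (hcc : cc ≫ t = aStr s₀ (Star A 1) ≫ b)
    (hoc : starOpen s₀ 1 ≫ cc = oo ≫ o) (hρ : ∀ c, d'.c c ≫ ρ = cc ≫ d.c c) (a : z.1 ⟶ η.1)
    (ha : 𝒴.p.IsHomLift ρ a) {e : Fin 2 → AutT Y b}
    (he : ∀ k, ∃ σ : AutT Y (aStr s₀ (Localization.Away (X : A[X])) ≫ b),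
      IsRestr (puncMem s₀ 1 k ≫ oo) σ τ ∧ HasVal b σ (e k)) : (e 0).mul x = e 1 := by
  choose σ hσ1 hσ2 using he
  obtain ⟨U, V, hUV⟩ := hz.exists_val hY T hcc hoc hρ a ha hσ1
  have h0 : e 0 = ((V.inv hY).mul AutT.one).mul U := (hσ2 0).unique hY hYs (hUV 0)
  have h1 : e 1 = ((V.inv hY).mul x).mul U := (hσ2 1).unique hY hYs (hUV 1)
  rw [h1, abel_conj hY hab, ← h0]

theorem exists_loopR (P : AbPair φ Z Y) (b : Over.mk s₀ ⟶ B) (g : AutT Z b) : ∃ g' : AutT Y b, LoopR φ b g g' := by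
  have hX := P.stkX.1
  have hY := P.stkY.1
  obtain ⟨D, ⟨d⟩⟩ := exists_doubling (starOpen s₀ 1)
  obtain ⟨ξ, hξ⟩ := exists_cst P.stkX d ![AutT.one, g]
  obtain ⟨η, hη⟩ := cls_surjective 𝒴 D (φ.toEquiv D (cls ξ))
  obtain ⟨g', hg'⟩ := cst_of_trivAt hY P.abY (isForm_corr hX hY φ P.corr hη.symm hξ.isForm) fun i => by
    obtain ⟨D₀, d₀, ρ, π, a, hπ, hρ, ha⟩ := trivAt_of_cst P.stkX hξ i
    obtain ⟨a', ha'⟩ := natural' φ ρ a ha (corr_chObj hY φ P.corr π) hη.symm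
    exact ⟨D₀, d₀, ρ, π, a', hπ, hρ, ha'⟩
  exact ⟨g', D, d, ξ, η, hξ, hg', hη.symm⟩

/-- Corresponding loops over a map of bases. -/
theorem loopR_push (P : AbPair φ Z Y) {b : Over.mk s₀ ⟶ B} {O C D : Over S} {o : O ⟶ C} {d : Doubling o D}
    {t : C ⟶ B} {s : O ⟶ B} {hs : o ≫ t = s} {ξ : 𝒳.p.Fiber D} {η : 𝒴.p.Fiber D}
    (hcls : φ.toEquiv D (cls ξ) = cls η) {τ : AutT Z s} (T : Triv Z d t hs ξ τ) {τ' : AutT Y s}
    (T' : Triv Y d t hs η τ') {oo : puncSigma s₀ 1 ⟶ O} {cc : aPt s₀ (Star A 1) ⟶ C}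
    (hcc : cc ≫ t = aStr s₀ (Star A 1) ≫ b) (hoc : starOpen s₀ 1 ≫ cc = oo ≫ o)
    {e : Fin 2 → AutT Z b}
    (he : ∀ k, ∃ σ : AutT Z (aStr s₀ (Localization.Away (X : A[X])) ≫ b),
      IsRestr (puncMem s₀ 1 k ≫ oo) σ τ ∧ IsRestr (aStr s₀ (Localization.Away (X : A[X]))) σ (e k))
    {e' : Fin 2 → AutT Y b}
    (he' : ∀ k, ∃ σ : AutT Y (aStr s₀ (Localization.Away (X : A[X])) ≫ b),
      IsRestr (puncMem s₀ 1 k ≫ oo) σ τ' ∧ HasVal b σ (e' k))
    {g : AutT Z b} {g' : AutT Y b} (hg : LoopR φ b g g') (h : (e 0).mul g = e 1) : (e' 0).mul g' = e' 1 := by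
  have hX := P.stkX.1
  have hY := P.stkY.1
  obtain ⟨D', d', z, z', hz, hz', hzc⟩ := hg
  obtain ⟨ρ, hρ⟩ := d'.exists_desc₂ (fun c => cc ≫ d.c c) (by
    rw [← Category.assoc, hoc, Category.assoc, d.agree, ← Category.assoc, ← hoc, Category.assoc])
  obtain ⟨a, ha⟩ := hz.exists_hom P.stkX T hcc hoc hρ he AutT.one (e 0) fun k => by
    rw [AutT.one_mul']
    fin_cases k
    · exact AutT.one_mul' _
    · show g.mul (e 0) = e 1
      rw [P.abX _ g, h]
  obtain ⟨a', ha'⟩ := natural' φ ρ a ha hzc hcls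
  exact eq_of_hom hY P.sepY P.abY T' hz' hcc hoc hρ a' ha' he'

theorem loopR_unique (P : AbPair φ Z Y) {b : Over.mk s₀ ⟶ B} {g : AutT Z b} {g' g'' : AutT Y b}
    (h' : LoopR φ b g g') (h'' : LoopR φ b g g'') : g' = g'' := by
  have hY := P.stkY.1
  obtain ⟨D, d, ξ, η, ⟨τ, ⟨T⟩, hσ⟩, ⟨τ', ⟨T'⟩, hσ'⟩, hc⟩ := h''
  have h := loopR_push P hc T T' (oo := 𝟙 _) (cc := 𝟙 _) (Category.id_comp _)
    ((Category.comp_id _).trans (Category.id_comp _).symm) (e := ![AutT.one, g]) (fun k => by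
      obtain ⟨σ, h1, h2⟩ := hσ k
      exact ⟨σ, by rwa [Category.comp_id], h2⟩) (e' := ![AutT.one, g'']) (fun k => by
      obtain ⟨σ, h1, h2⟩ := hσ' k
      exact ⟨σ, by rwa [Category.comp_id], HasVal.const hY h2⟩) h' (AutT.one_mul' g)
  exact (AutT.one_mul' g').symm.trans h

theorem loopR_mul (P : AbPair φ Z Y) {b : Over.mk s₀ ⟶ B} {g k : AutT Z b} {g' k' l' : AutT Y b}
    (hg : LoopR φ b g g') (hk : LoopR φ b k k') (hl : LoopR φ b (g.mul k) l') : l' = g'.mul k' := by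
  have hX := P.stkX.1
  have hY := P.stkY.1
  obtain ⟨D, ⟨d⟩⟩ := exists_doubling (starOpen s₀ 2)
  obtain ⟨ξ, hξ⟩ := exists_cst P.stkX d ![AutT.one, g, g.mul k]
  obtain ⟨η, hη⟩ := cls_surjective 𝒴 D (φ.toEquiv D (cls ξ))
  obtain ⟨τ', ⟨T'⟩⟩ := exists_triv_of_isForm hY (t := aStr s₀ (Star A 2) ≫ b) rfl
    (isForm_corr hX hY φ P.corr hη.symm hξ.isForm)
  obtain ⟨τ, ⟨T⟩, hσ⟩ := hξ
  choose σ' hσ' using fun i => IsRestr.exists_of hY (puncMem_str i b) τ'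
  have key : ∀ (f : Fin 2 → Fin 3) (x : AutT Z b) (x' : AutT Y b), LoopR φ b x x' →
      (![AutT.one, g, g.mul k] (f 0)).mul x = ![AutT.one, g, g.mul k] (f 1) →
      ∀ e' : Fin 3 → AutT Y b, (∀ j : Fin 2, HasVal b (σ' (f j)) (e' (f j))) → (e' (f 0)).mul x' = e' (f 1) := by
    intro f x x' hx hxe e' he'
    obtain ⟨oo, hoo, hsq⟩ := exists_sub s₀ f
    exact loopR_push P hη.symm T T' (by rw [← Category.assoc, aMap_aStr]) hsq
      (e := fun j => ![AutT.one, g, g.mul k] (f j))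
      (fun j => by
        obtain ⟨σ, h1, h2⟩ := hσ (f j)
        exact ⟨σ, by rwa [hoo], h2⟩)
      (e' := fun j => e' (f j)) (fun j => ⟨σ' (f j), by rw [hoo]; exact hσ' _, he' j⟩) hx hxe
  have hval : ∀ (f : Fin 2 → Fin 3) (x : AutT Z b) (x' : AutT Y b), LoopR φ b x x' →
      (![AutT.one, g, g.mul k] (f 0)).mul x = ![AutT.one, g, g.mul k] (f 1) →
      ∀ j : Fin 2, ∃ e : AutT Y b, HasVal b (σ' (f j)) e := by
    intro f x x' hx hxe j
    obtain ⟨oo, hoo, hsq⟩ := exists_sub s₀ f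
    obtain ⟨D', d', z, z', hz, hz', hzc⟩ := hx
    obtain ⟨ρ, hρ⟩ := d'.exists_desc₂ (fun c => aMap s₀ (starSub f) ≫ d.c c) (by
      rw [← Category.assoc, hsq, Category.assoc, d.agree, ← Category.assoc, ← hsq, Category.assoc])
    have hcc : aMap s₀ (starSub f) ≫ aStr s₀ (Star A 2) ≫ b = aStr s₀ (Star A 1) ≫ b := by
      rw [← Category.assoc, aMap_aStr]
    obtain ⟨a, ha⟩ := hz.exists_hom P.stkX T hcc hsq hρ (ev := fun j => ![AutT.one, g, g.mul k] (f j))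
      (fun j => by
        obtain ⟨σ, h1, h2⟩ := hσ (f j)
        exact ⟨σ, by rwa [hoo], h2⟩) AutT.one (![AutT.one, g, g.mul k] (f 0)) (fun j => by
        rw [AutT.one_mul']
        fin_cases j
        · exact AutT.one_mul' _
        · exact (P.abX _ x _).trans hxe)
    obtain ⟨a', ha'⟩ := natural' φ ρ a ha hzc hη.symm
    obtain ⟨U, V, hUV⟩ := hz'.exists_val hY T' hcc hsq hρ a' ha' (σ := fun j => σ' (f j))
      (fun j => by rw [hoo]; exact hσ' _)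
    exact ⟨_, hUV j⟩
  obtain ⟨e0, he0⟩ := hval ![0, 1] g g' hg (AutT.one_mul' g) 0
  obtain ⟨e1, he1⟩ := hval ![0, 1] g g' hg (AutT.one_mul' g) 1
  obtain ⟨e2, he2⟩ := hval ![1, 2] k k' hk rfl 1
  let e : Fin 3 → AutT Y b := ![e0, e1, e2]
  have he : ∀ i, HasVal b (σ' i) (e i) := fun i => by
    fin_cases i
    exacts [he0, he1, he2]
  have h01 := key ![0, 1] g g' hg (AutT.one_mul' g) e fun j => he _
  have h12 := key ![1, 2] k k' hk rfl e fun j => he _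
  have h02 := key ![0, 2] (g.mul k) l' hl (AutT.one_mul' _) e fun j => he _
  have h : e0.mul l' = e0.mul (g'.mul k') := by
    rw [← AutT.mul_assoc', show e0.mul g' = e1 from h01, show e1.mul k' = e2 from h12]
    exact h02
  have h' := congrArg (fun x => (e0.inv hY).mul x) h
  simpa only [← AutT.mul_assoc', AutT.inv_mul, AutT.one_mul'] using h'

section BaseChange

variable {A' : Type u} [CommRing A'] {s₁ : Spec (CommRingCat.of A') ⟶ S} (ι : A →+* A')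
  (l : Over.mk s₁ ⟶ Over.mk s₀) (hl : l.left = Spec.map (CommRingCat.ofHom ι))

/-- The map of spectra of algebras over a map of bases. -/
noncomputable def bMap {R R' : Type u} [CommRing R] [Algebra A R] [CommRing R'] [Algebra A' R'] (ψ : R →+* R')
    (hψ : ψ.comp (algebraMap A R) = (algebraMap A' R').comp ι) : aPt s₁ R' ⟶ aPt s₀ R :=
  Over.homMk (Spec.map (CommRingCat.ofHom ψ)) (by
    show Spec.map _ ≫ Spec.map _ ≫ s₀ = Spec.map _ ≫ s₁
    rw [← Category.assoc, ← Spec.map_comp, ← CommRingCat.ofHom_comp, hψ, CommRingCat.ofHom_comp, Spec.map_comp,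
      Category.assoc, ← hl]
    exact congrArg _ (Over.w l))

theorem bMap_aStr {R R' : Type u} [CommRing R] [Algebra A R] [CommRing R'] [Algebra A' R'] (ψ : R →+* R')
    (hψ : ψ.comp (algebraMap A R) = (algebraMap A' R').comp ι) : bMap ι l hl ψ hψ ≫ aStr s₀ R = aStr s₁ R' ≫ l := by
  ext : 1
  show Spec.map _ ≫ Spec.map _ = Spec.map _ ≫ l.left
  rw [hl, ← Spec.map_comp, ← Spec.map_comp, ← CommRingCat.ofHom_comp, ← CommRingCat.ofHom_comp, hψ]

theorem bMap_aMap {R R' P P' : Type u} [CommRing R] [Algebra A R] [CommRing R'] [Algebra A' R'] [CommRing P]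
    [Algebra A P] [CommRing P'] [Algebra A' P'] (ψ : R →+* R')
    (hψ : ψ.comp (algebraMap A R) = (algebraMap A' R').comp ι) (ψ₁ : P →+* P')
    (hψ₁ : ψ₁.comp (algebraMap A P) = (algebraMap A' P').comp ι) (f : P →ₐ[A] R) (f' : P' →ₐ[A'] R')
    (h : ψ.comp f.toRingHom = f'.toRingHom.comp ψ₁) :
    bMap ι l hl ψ hψ ≫ aMap s₀ f = aMap s₁ f' ≫ bMap ι l hl ψ₁ hψ₁ := by
  ext : 1
  show Spec.map _ ≫ Spec.map _ = Spec.map _ ≫ Spec.map _
  rw [← Spec.map_comp, ← Spec.map_comp, ← CommRingCat.ofHom_comp, ← CommRingCat.ofHom_comp, h]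

/-- Base change of stars. -/
noncomputable def starFun (n : ℕ) : Star A n →+* Star A' n :=
  ((RingHom.compLeft (Polynomial.mapRingHom ι) (Fin (n + 1))).comp (Star A n).val.toRingHom).codRestrict _
    fun p => mem_star.2 fun i => by
      show ((p.1 i).map ι).eval 0 = ((p.1 0).map ι).eval 0
      rw [← map_zero ι, eval_map_apply, eval_map_apply, mem_star.1 p.2 i]

theorem starFun_algebraMap (n : ℕ) :
    (starFun ι n).comp (algebraMap A (Star A n)) = (algebraMap A' (Star A' n)).comp ι :=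
  RingHom.ext fun a => Subtype.ext (funext fun i => by
    show (C a).map ι = C (ι a)
    simp)

theorem mapRingHom_algebraMap : (Polynomial.mapRingHom ι).comp (algebraMap A A[X]) = (algebraMap A' A'[X]).comp ι :=
  RingHom.ext fun a => by
    show (C a).map ι = C (ι a)
    simp

include hl in
theorem loopR_restr (P : AbPair φ Z Y) {b : Over.mk s₀ ⟶ B} {g : AutT Z b} {g' : AutT Y b} (hg : LoopR φ b g g')
    {b₁ : Over.mk s₁ ⟶ B} {g₁ : AutT Z b₁} {g₁' : AutT Y b₁} (h : IsRestr l g₁ g) (h' : IsRestr l g₁' g') :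
    LoopR φ b₁ g₁ g₁' := by
  have hX := P.stkX.1
  have hY := P.stkY.1
  have hb : l ≫ b = b₁ := h.choose
  obtain ⟨g₁'', hg₁⟩ := exists_loopR P b₁ g₁
  obtain ⟨D, d, ξ, η, ⟨τ, ⟨T⟩, hσ⟩, ⟨τ', ⟨T'⟩, hσ'⟩, hc⟩ := hg
  let ψX : Localization.Away (X : A[X]) →+* Localization.Away (X : A'[X]) :=
    IsLocalization.Away.lift (X : A[X]) (g := (algebraMap A'[X] _).comp (Polynomial.mapRingHom ι)) (by
      simpa using IsLocalization.Away.algebraMap_isUnit (S := Localization.Away (X : A'[X])) (X : A'[X]))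
  have hψX : ψX.comp (algebraMap A[X] _) = (algebraMap A'[X] _).comp (Polynomial.mapRingHom ι) :=
    IsLocalization.Away.lift_comp _ _
  have hψA : ψX.comp (algebraMap A _) = (algebraMap A' (Localization.Away (X : A'[X]))).comp ι := by
    rw [IsScalarTower.algebraMap_eq A A[X] (Localization.Away (X : A[X])),
      IsScalarTower.algebraMap_eq A' A'[X] (Localization.Away (X : A'[X])), ← RingHom.comp_assoc, hψX,
      RingHom.comp_assoc, mapRingHom_algebraMap, ← RingHom.comp_assoc]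
  let cc : aPt s₁ (Star A' 1) ⟶ aPt s₀ (Star A 1) := bMap ι l hl (starFun ι 1) (starFun_algebraMap ι 1)
  let bp : puncPt s₁ ⟶ puncPt s₀ := bMap ι l hl ψX hψA
  obtain ⟨oo, hoo⟩ := exists_puncSigmaHom s₁ (n := 1) fun i => bp ≫ puncMem s₀ 1 i
  have hoc : starOpen s₁ 1 ≫ cc = oo ≫ starOpen s₀ 1 := puncSigma_hom_ext s₁ fun i => by
    rw [← Category.assoc, puncMem_starOpen, ← Category.assoc, hoo, Category.assoc, puncMem_starOpen]
    refine (bMap_aMap ι l hl ψX hψA (starFun ι 1) (starFun_algebraMap ι 1) _ _ ?_).symm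
    exact RingHom.ext fun p => DFunLike.congr_fun hψX (p.1 i)
  have hcc : cc ≫ aStr s₀ (Star A 1) ≫ b = aStr s₁ (Star A' 1) ≫ b₁ := by
    rw [← Category.assoc, bMap_aStr, Category.assoc, hb]
  have hbp : bp ≫ aStr s₀ (Localization.Away (X : A[X])) ≫ b =
      aStr s₁ (Localization.Away (X : A'[X])) ≫ b₁ := by
    rw [← Category.assoc, bMap_aStr, Category.assoc, hb]
  -- restrictions of constant transitions
  have push : ∀ {𝒵 : AlgSt.Cat S} {W : overCat B ⥤ᵇ 𝒵} (hW : IsFibGrpd 𝒵.p)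
      {τ : AutT W (starOpen s₀ 1 ≫ aStr s₀ (Star A 1) ≫ b)} {x : AutT W b} {x₁ : AutT W b₁}
      (i : Fin 2), (∃ σ : AutT W (aStr s₀ (Localization.Away (X : A[X])) ≫ b),
        IsRestr (puncMem s₀ 1 i) σ τ ∧ IsRestr (aStr s₀ (Localization.Away (X : A[X]))) σ x) → IsRestr l x₁ x →
      ∃ σ : AutT W (aStr s₁ (Localization.Away (X : A'[X])) ≫ b₁),
        IsRestr (puncMem s₁ 1 i ≫ oo) σ τ ∧ IsRestr (aStr s₁ (Localization.Away (X : A'[X]))) σ x₁ := by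
    intro 𝒵 W hW τ x x₁ i ⟨σ, h1, h2⟩ hx
    obtain ⟨σ₁, hσ₁⟩ := IsRestr.exists_of hW hbp σ
    refine ⟨σ₁, hσ₁.trans h1 (hoo i).symm, ?_⟩
    obtain ⟨e₁, he₁⟩ := IsRestr.exists_of hW (rfl : aStr s₁ (Localization.Away (X : A'[X])) ≫ b₁ = _) x₁
    obtain rfl := IsRestr.unique hW (he₁.trans hx (bMap_aStr ι l hl ψX hψA).symm) (hσ₁.trans h2 rfl)
    exact he₁
  have hone : ∀ {𝒵 : AlgSt.Cat S} {W : overCat B ⥤ᵇ 𝒵},
      IsRestr l (AutT.one : AutT W b₁) (AutT.one : AutT W b) := fun {𝒵 W} => IsRestr.one hb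
  have hpt : ∀ i : Fin 2, IsRestr l (![AutT.one, g₁] i) (![AutT.one, g] i) := fun i => by
    fin_cases i; exacts [hone, h]
  have hpt' : ∀ i : Fin 2, IsRestr l (![AutT.one, g₁'] i) (![AutT.one, g'] i) := fun i => by
    fin_cases i; exacts [hone, h']
  have e := loopR_push P hc T T' hcc hoc (e := ![AutT.one, g₁]) (fun i => push hX i (hσ i) (hpt i))
    (e' := ![AutT.one, g₁']) (fun i => by
      obtain ⟨σ, h1, h2⟩ := push hY i (hσ' i) (hpt' i)
      exact ⟨σ, h1, HasVal.const hY h2⟩) hg₁ (AutT.one_mul' g₁)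
  rwa [show g₁' = g₁'' from e.symm.trans (AutT.one_mul' g₁'')]

end BaseChange

end Groth.Agent.IsoNat97
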