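import Groth.Agent.IsoNat97.Loop

/-! Loops are the forms on the doubled crossing lines which are trivial on each doubled line. -/

set_option autoImplicit false
set_option linter.unusedVariables false
set_option linter.style.haveILetI false
set_option backward.isDefEq.respectTransparency false
set_option backward.isDefEq.respectTransparency.types false
universe u

open CategoryTheory CategoryTheory.Limits AlgebraicGeometry Opposite AlgSt FibCat Polynomial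

namespace Groth.Agent.IsoNat97

open AlgSt88 IsoNat

variable {S : Scheme.{u}} {𝒳 𝒴 : AlgSt.Cat S} {A : Type u} [CommRing A] {s₀ : Spec (CommRingCat.of A) ⟶ S}
  {B : Over S} {Z : overCat B ⥤ᵇ 𝒳}

instance isOpenImmersion_puncLine : IsOpenImmersion (puncLine s₀).left :=
  IsOpenImmersion.of_isLocalization (S := Localization.Away (X : A[X])) (X : A[X])

/-- The constant line. -/
noncomputable def cstHom (A : Type u) [CommRing A] : A[X] →ₐ[A] A[X] := (Algebra.ofId A A[X]).comp (aeval (0 : A))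

theorem aeval_comp_cstHom : (aeval (0 : A)).comp (cstHom A) = aeval (0 : A) :=
  Polynomial.algHom_ext (by simp [cstHom])

theorem aMap_cstHom : aMap s₀ (cstHom A) = aStr s₀ A[X] ≫ zeroPt s₀ := by
  rw [cstHom, ← aMap_comp, zeroPt, ← Category.assoc]
  congr 1

/-- Automorphisms on the two lines agreeing at the origin glue on the crossing. -/
theorem exists_autT_crossing (hX : IsFibGrpd 𝒳.p) (b : Over.mk s₀ ⟶ B) (l : Fin 2 → AutT Z (aStr s₀ A[X] ≫ b))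
    (c : AutT Z b) (hl : ∀ i, IsRestr (zeroPt s₀) c (l i)) :
    ∃ W : AutT Z (aStr s₀ (Star A 1) ≫ b), ∀ i, IsRestr (aMap s₀ (starLine i)) (l i) W := by
  let R₀ : A[X] →ₐ[A] Star A 1 := starMap (n := 1) ![AlgHom.id A A[X], cstHom A] fun i => by
    fin_cases i <;> simp [aeval_comp_cstHom]
  let R₁ : A[X] →ₐ[A] Star A 1 := starMap (n := 1) ![cstHom A, AlgHom.id A A[X]] fun i => by
    fin_cases i <;> simp [aeval_comp_cstHom]
  have hstr : ∀ (R : A[X] →ₐ[A] Star A 1), aMap s₀ R ≫ aStr s₀ A[X] ≫ b = aStr s₀ (Star A 1) ≫ b := fun R => by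
    rw [← Category.assoc, aMap_aStr]
  obtain ⟨V₀, hV₀⟩ := IsRestr.exists_of hX (hstr R₀) (l 0)
  obtain ⟨V₁, hV₁⟩ := IsRestr.exists_of hX (hstr R₁) (l 1)
  obtain ⟨C, hC⟩ := IsRestr.exists_of hX (rfl : aStr s₀ (Star A 1) ≫ b = _) c
  obtain ⟨cl, hcl⟩ := IsRestr.exists_of hX (rfl : aStr s₀ A[X] ≫ b = _) c
  have hCl : ∀ i, IsRestr (aMap s₀ (starLine i)) cl C := fun i => by
    obtain ⟨e₁, he₁⟩ := IsRestr.exists_of hX (starLine_str i b) C
    obtain rfl := IsRestr.unique hX (he₁.trans hC (aMap_aStr _)) hcl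
    exact he₁
  have hid : ∀ (i k : Fin 2) (R : A[X] →ₐ[A] Star A 1) (V : AutT Z (aStr s₀ (Star A 1) ≫ b)),
      IsRestr (aMap s₀ R) V (l k) → (starLine i).comp R = AlgHom.id A A[X] →
      IsRestr (aMap s₀ (starLine i)) (l k) V := by
    intro i k R V hV hR
    obtain ⟨e₁, he₁⟩ := IsRestr.exists_of hX (starLine_str i b) V
    obtain rfl := IsRestr.unique hX
      (he₁.trans hV ((aMap_comp R (starLine i)).trans ((congrArg (fun f : A[X] →ₐ[A] A[X] => aMap s₀ f) hR).trans aMap_id)))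
      (IsRestr.refl _)
    exact he₁
  have hcst : ∀ (i k : Fin 2) (R : A[X] →ₐ[A] Star A 1) (V : AutT Z (aStr s₀ (Star A 1) ≫ b)),
      IsRestr (aMap s₀ R) V (l k) → (starLine i).comp R = cstHom A →
      IsRestr (aMap s₀ (starLine i)) cl V := by
    intro i k R V hV hR
    obtain ⟨e₁, he₁⟩ := IsRestr.exists_of hX (starLine_str i b) V
    obtain rfl := IsRestr.unique hX
      (he₁.trans hV ((aMap_comp R (starLine i)).trans (congrArg (fun f : A[X] →ₐ[A] A[X] => aMap s₀ f) hR)))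
      (hcl.trans (hl k) aMap_cstHom.symm)
    exact he₁
  refine ⟨(V₀.mul (C.inv hX)).mul V₁, fun i => ?_⟩
  fin_cases i
  · have h := IsRestr.mul (IsRestr.mul (hid 0 0 R₀ V₀ hV₀ rfl) ((hCl 0).inv hX)) (hcst 0 1 R₁ V₁ hV₁ rfl)
    rw [AutT.mul_assoc', AutT.inv_mul, AutT.mul_one'] at h
    exact h
  · have h := IsRestr.mul (IsRestr.mul (hcst 1 0 R₀ V₀ hV₀ rfl) ((hCl 1).inv hX)) (hid 1 1 R₁ V₁ hV₁ rfl)
    rw [AutT.mul_inv, AutT.one_mul'] at h
    exact h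

theorem Triv.exists_twist' (hX : IsFibGrpd 𝒳.p) {O C D : Over S} {o : O ⟶ C} {d : Doubling o D} {t : C ⟶ B}
    {s : O ⟶ B} {hs : o ≫ t = s} {ξ : 𝒳.p.Fiber D} {τ : AutT Z s} (T : Triv Z d t hs ξ τ) {W : AutT Z t}
    {w : AutT Z s} (hw : IsRestr o w W) : Nonempty (Triv Z d t hs ξ (τ.mul w)) := by
  haveI := W.2
  haveI := fg_isIso_of_lift_id hX W.1 C
  refine ⟨⟨fun c => bif c then inv W.1 ≫ T.μ true else T.μ false, fun c => ?_, ?_⟩⟩
  · haveI := T.lift c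
    cases c
    · exact T.lift false
    · show 𝒳.p.IsHomLift (d.c true) (inv W.1 ≫ T.μ true)
      infer_instance
  · obtain ⟨_, e⟩ := hw
    show (τ.1 ≫ w.1) ≫ chMap Z o hs ≫ inv W.1 ≫ T.μ true = chMap Z o hs ≫ T.μ false
    rw [Category.assoc, ← Category.assoc w.1, e, Category.assoc, IsIso.hom_inv_id_assoc, T.rel]

/-- The pullback of the chart object along the structure map of a doubled line maps to the form. -/
def TrivAt {D : Over S} (b : Over.mk s₀ ⟶ B) (d : Doubling (starOpen s₀ 1) D) (ξ : 𝒳.p.Fiber D) (Z : overCat B ⥤ᵇ 𝒳)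
    (i : Fin 2) : Prop :=
  ∃ (D₀ : Over S) (d₀ : Doubling (puncLine s₀) D₀) (ρ : D₀ ⟶ D) (π : D₀ ⟶ B) (a : (chObj Z π).1 ⟶ ξ.1),
    (∀ c, d₀.c c ≫ π = aStr s₀ A[X] ≫ b) ∧ (∀ c, d₀.c c ≫ ρ = aMap s₀ (starLine i) ≫ d.c c) ∧ 𝒳.p.IsHomLift ρ a

/-- The chart object on a doubling, trivialised. -/
theorem exists_triv_chObj {O C D : Over S} {o : O ⟶ C} (d : Doubling o D) {t : C ⟶ B} {s : O ⟶ B} (hs : o ≫ t = s)
    {π : D ⟶ B} (hπ : ∀ c, d.c c ≫ π = t) : Nonempty (Triv Z d t hs (chObj Z π) (AutT.one : AutT Z s)) := by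
  refine ⟨⟨fun c => chMap Z (d.c c) (hπ c), fun c => inferInstance, ?_⟩⟩
  have hc : (o ≫ d.c false) ≫ π = s := by rw [Category.assoc, hπ, hs]
  show 𝟙 _ ≫ _ = _
  rw [Category.id_comp, chMap_comp Z o (d.c true) hs (hπ true) (o ≫ d.c false) d.agree.symm hc,
    chMap_comp Z o (d.c false) hs (hπ false) (o ≫ d.c false) rfl hc]

theorem trivAt_of_cst (h𝒳 : Stk.IsStack (AlgSp.J S) 𝒳) {b : Over.mk s₀ ⟶ B} {D : Over S}
    {d : Doubling (starOpen s₀ 1) D} {ξ : 𝒳.p.Fiber D} {fam : Fin 2 → AutT Z b} (h : Cst b d ξ fam) (i : Fin 2) :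
    TrivAt b d ξ Z i := by
  have hX := h𝒳.1
  obtain ⟨τ, ⟨T⟩, hσ⟩ := h
  obtain ⟨D₀, ⟨d₀⟩⟩ := exists_doubling (puncLine s₀)
  have hsq : puncLine s₀ ≫ aMap s₀ (starLine i) = puncMem s₀ 1 i ≫ starOpen s₀ 1 := by
    rw [puncMem_starOpen, puncIncl_eq]
  obtain ⟨ρ, hρ⟩ := d₀.exists_desc₂ (fun c => aMap s₀ (starLine i) ≫ d.c c) (by
    rw [← Category.assoc, hsq, Category.assoc, d.agree, ← Category.assoc, ← hsq, Category.assoc])
  obtain ⟨π, hπ⟩ := d₀.exists_desc (aStr s₀ A[X] ≫ b)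
  obtain ⟨T₀⟩ := exists_triv_chObj (Z := Z) d₀ (puncLine_str b) hπ
  obtain ⟨σ, hσ1, hσ2⟩ := hσ i
  obtain ⟨l, hl1, -⟩ := HasVal.const hX hσ2
  obtain ⟨a, ha⟩ := exists_hom_of_rel h𝒳 T T₀ (puncMem s₀ 1 i) (aMap s₀ (starLine i)) (starLine_str i b) hsq ρ hρ hσ1
    (fun c => bif c then l else AutT.one) (fun c => bif c then σ else AutT.one)
    (fun c => by cases c; exacts [IsRestr.one (puncLine_str b), hl1]) (by
      show (AutT.one : AutT Z _).mul σ = AutT.one.mul σ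
      rfl)
  exact ⟨D₀, d₀, ρ, π, a, hπ, hρ, ha⟩

theorem cst_of_trivAt (hX : IsFibGrpd 𝒳.p) (hab : Abel Z) {b : Over.mk s₀ ⟶ B} {D : Over S}
    {d : Doubling (starOpen s₀ 1) D} {ξ : 𝒳.p.Fiber D} (hξ : IsForm Z d (aStr s₀ (Star A 1) ≫ b) ξ)
    (h : ∀ i, TrivAt b d ξ Z i) : ∃ g : AutT Z b, Cst b d ξ ![AutT.one, g] := by
  obtain ⟨τ, ⟨T⟩⟩ := exists_triv_of_isForm hX (t := aStr s₀ (Star A 1) ≫ b) rfl hξ
  choose σ hσ using fun i => IsRestr.exists_of hX (puncMem_str i b) τ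
  have hval : ∀ i, ∃ l : AutT Z (aStr s₀ A[X] ≫ b), IsRestr (puncLine s₀) (σ i) l := by
    intro i
    obtain ⟨D₀, d₀, ρ, π, a, hπ, hρ, ha⟩ := h i
    have hsq : puncLine s₀ ≫ aMap s₀ (starLine i) = puncMem s₀ 1 i ≫ starOpen s₀ 1 := by
      rw [puncMem_starOpen, puncIncl_eq]
    obtain ⟨T₀⟩ := exists_triv_chObj (Z := Z) d₀ (puncLine_str b) hπ
    obtain ⟨T₁⟩ := T.pullback hX (d' := d₀) (hs' := puncLine_str b) (puncMem s₀ 1 i) (aMap s₀ (starLine i))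
      (starLine_str i b) hsq ρ hρ (hσ i) a ha
    obtain ⟨g, r, hr, hrel⟩ := rel_of_hom hX T₀ T₁ (𝟙 _) (IsHomLift.id (chObj Z π).2)
    refine ⟨((g false).inv hX).mul (g true), ?_⟩
    have e : σ i = ((r false).inv hX).mul (r true) := by
      rw [AutT.one_mul'] at hrel
      rw [hrel, ← AutT.mul_assoc', AutT.inv_mul, AutT.one_mul']
    rw [e]
    exact IsRestr.mul ((hr false).inv hX) (hr true)
  choose l hl using hval
  choose c hc using fun i => IsRestr.exists_of hX (zeroPt_str b) (l i)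
  let K : AutT Z b := ((c 1).inv hX).mul (c 0)
  obtain ⟨Kl, hKl⟩ := IsRestr.exists_of hX (rfl : aStr s₀ A[X] ≫ b = _) K
  obtain ⟨Kp, hKp⟩ := IsRestr.exists_of hX (rfl : aStr s₀ (Localization.Away (X : A[X])) ≫ b = _) K
  have hKl0 : IsRestr (zeroPt s₀) K Kl := by
    obtain ⟨e₁, he₁⟩ := IsRestr.exists_of hX (zeroPt_str b) Kl
    obtain rfl := IsRestr.unique hX (he₁.trans hKl zeroPt_aStr) (IsRestr.refl K)
    exact he₁
  have hKpl : IsRestr (puncLine s₀) Kp Kl := by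
    obtain ⟨e₁, he₁⟩ := IsRestr.exists_of hX (puncLine_str b) Kl
    obtain rfl := IsRestr.unique hX (he₁.trans hKl (aMap_aStr _)) hKp
    exact he₁
  obtain ⟨W, hW⟩ := exists_autT_crossing hX b ![l 0, (l 1).mul Kl] (c 0) (fun i => by
    fin_cases i
    · exact hc 0
    · have h := IsRestr.mul (hc 1) hKl0
      rwa [show (c 1).mul K = c 0 by rw [← AutT.mul_assoc', AutT.mul_inv, AutT.one_mul']] at h)
  obtain ⟨w, hw⟩ := IsRestr.exists_of hX (rfl : starOpen s₀ 1 ≫ aStr s₀ (Star A 1) ≫ b = _) W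
  obtain ⟨T'⟩ := T.exists_twist' hX (hw.inv hX)
  refine ⟨K.inv hX, τ.mul (w.inv hX), ⟨T'⟩, fun i => ?_⟩
  obtain ⟨wi, hwi⟩ := IsRestr.exists_of hX (puncMem_str i b) w
  refine ⟨(σ i).mul (wi.inv hX), IsRestr.mul (hσ i) (hwi.inv hX), ?_⟩
  fin_cases i
  · obtain rfl : wi = σ 0 := by
      exact IsRestr.unique hX (hwi.trans hw (puncMem_starOpen s₀ 0)) ((hl 0).trans (hW 0) (puncIncl_eq s₀ 0))
    show IsRestr _ ((σ 0).mul ((σ 0).inv hX)) (AutT.one : AutT Z b)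
    rw [AutT.mul_inv]
    exact IsRestr.one rfl
  · obtain rfl : wi = (σ 1).mul Kp := by
      exact IsRestr.unique hX (hwi.trans hw (puncMem_starOpen s₀ 1))
        ((IsRestr.mul (hl 1) hKpl).trans (hW 1) (puncIncl_eq s₀ 1))
    show IsRestr _ ((σ 1).mul (((σ 1).mul Kp).inv hX)) (K.inv hX)
    rw [show (σ 1).mul (((σ 1).mul Kp).inv hX) = Kp.inv hX by
      have h1 : ((σ 1).mul Kp).inv hX = (((σ 1).mul Kp).inv hX).mul (((σ 1).mul Kp).mul ((Kp.inv hX).mul ((σ 1).inv hX))) := by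
        rw [AutT.mul_assoc', ← AutT.mul_assoc' Kp, AutT.mul_inv, AutT.one_mul', AutT.mul_inv, AutT.mul_one']
      rw [h1, ← AutT.mul_assoc' (((σ 1).mul Kp).inv hX), AutT.inv_mul, AutT.one_mul', hab _ (σ 1), AutT.mul_assoc',
        AutT.inv_mul, AutT.mul_one']]
    exact hKp.inv hX

end Groth.Agent.IsoNat97
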