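import Groth.Agent.IsoNat97.Lie
import Groth.Agent.IsoNat97.Twist
import Groth.Agent.IsoNat97.AutSep
import Mathlib.RingTheory.Localization.Away.Basic

/-! Classes are separated exactly when there are no automorphisms. -/

set_option autoImplicit false
set_option linter.unusedVariables false
set_option linter.style.haveILetI false
set_option backward.isDefEq.respectTransparency false
set_option backward.isDefEq.respectTransparency.types false
universe u

open CategoryTheory CategoryTheory.Limits AlgebraicGeometry Opposite AlgSt FibCat Polynomial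

namespace Groth.Agent.IsoNat97

open AlgSt88 IsoNat

variable {S : Scheme.{u}} {𝒳 : AlgSt.Cat S}

theorem hom_unique_of_clean (hX : IsFibGrpd 𝒳.p) (hc : ∀ η : 𝒳.obj, IsClean η) {W T : Over S} {z x : 𝒳.obj}
    (f : W ⟶ T) (u v : z ⟶ x) (hu : 𝒳.p.IsHomLift f u) (hv : 𝒳.p.IsHomLift f v) : u = v := by
  obtain ⟨χ, ⟨hχ, he⟩, -⟩ := exists_fac hX (𝟙 W) (Category.id_comp f) v hv u hu
  haveI := hχ
  have hz : 𝒳.p.obj z = W := IsHomLift.domain_eq 𝒳.p f u
  have h1 : χ = 𝟙 z := hc z z (𝟙 z) χ ((IsHomLift.fac' 𝒳.p (𝟙 W) χ).trans (by simp))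
  rw [← he, h1, Category.id_comp]

theorem clsSep_of_clean (h𝒳 : Stk.IsStack (AlgSp.J S) 𝒳) (hc : ∀ η : 𝒳.obj, IsClean η) : ClsSep 𝒳 := by
  intro T T' π hF hS hL x₁ x₂ x₁' x₂' a₁ a₂ ha₁ ha₂ ⟨e⟩
  have hX := h𝒳.1
  let R : Sieve T := Sieve.generate (Presieve.singleton π)
  have hR : R ∈ AlgSp.J S T := SpFP87.generate_singleton_mem π ((SpFP87.fppfSurj_iff _).2 ⟨hS, hF, hL⟩)
  have hex : ∀ ⦃z : 𝒳.obj⦄ (φ : z ⟶ x₁.1), R (𝒳.p.map φ ≫ eqToHom x₁.2) →
      ∃ χ : z ⟶ x₂.1, 𝒳.p.IsHomLift (𝒳.p.map φ ≫ eqToHom x₁.2) χ := by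
    intro z φ h
    obtain ⟨Y, q, g, ⟨⟩, hg⟩ := h
    haveI := ha₂
    haveI := e.hom.2
    have hφ : 𝒳.p.IsHomLift (𝒳.p.map φ ≫ eqToHom x₁.2) φ :=
      IsHomLift.of_fac' 𝒳.p _ φ rfl x₁.2 (by simp)
    obtain ⟨r, ⟨hr, -⟩, -⟩ := exists_fac hX q hg a₁ ha₁ φ hφ
    haveI := hr
    refine ⟨(r ≫ e.hom.1) ≫ a₂, ?_⟩
    have h : 𝒳.p.IsHomLift (q ≫ π) ((r ≫ e.hom.1) ≫ a₂) := inferInstance
    rwa [hg] at h
  choose θ hθ using hex
  obtain ⟨k, ⟨hk, -⟩, -⟩ := ((Fib44.isStack_iff.1 h𝒳).2 R hR).1 (x := x₁.1) (y := x₂.1) x₁.2 x₂.2 θ hθ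
    (fun z' z t φ h h' => by
      haveI := hθ φ h
      haveI ht : 𝒳.p.IsHomLift (𝒳.p.map t) t := inferInstance
      refine hom_unique_of_clean hX hc (𝒳.p.map (t ≫ φ) ≫ eqToHom x₁.2) _ _ (hθ _ h') ?_
      have h1 : 𝒳.p.IsHomLift (𝒳.p.map t ≫ 𝒳.p.map φ ≫ eqToHom x₁.2) (t ≫ θ φ h) := inferInstance
      rwa [← Category.assoc, ← Functor.map_comp] at h1)
  haveI := hk
  haveI := fg_isIso_of_lift_id hX k T
  exact ⟨Fib44.fiberIso (asIso k) hk x₁.2 x₂.2⟩

/-- Automorphisms glue along a disjoint open covering. -/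
theorem exists_autT_glue (h𝒳 : Stk.IsStack (AlgSp.J S) 𝒳) {B T : Over S} (Z : overCat B ⥤ᵇ 𝒳) (t : T ⟶ B) {κ : Type}
    {W : κ → Over S} (i : ∀ k, W k ⟶ T) (hi : ∀ k, IsOpenImmersion (i k).left)
    (hcov : ∀ x : T.left, ∃ k y, (i k).left y = x)
    (hdisj : ∀ k l (a : (W k).left) (b : (W l).left), (i k).left a = (i l).left b → k = l)
    {s : ∀ k, W k ⟶ B} (hs : ∀ k, i k ≫ t = s k) (σ : ∀ k, AutT Z (s k)) :
    ∃ g : AutT Z t, ∀ k, IsRestr (i k) (σ k) g := by
  let Y := BasedFunctor.comp (overMap t) Z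
  obtain ⟨h, hl, hh⟩ := exists_glue_disjoint h𝒳 Y i hi hcov hdisj (chObj Z t) (𝟙 T)
    (fun k => chMap Z (𝟙 (W k)) (a' := i k ≫ t) (a := s k) ((Category.id_comp _).trans (hs k).symm) ≫ (σ k).1 ≫
      chMap Z (i k) (hs k))
    (fun k => by
      haveI := (σ k).2
      have h : 𝒳.p.IsHomLift (𝟙 (W k) ≫ 𝟙 (W k) ≫ i k) (chMap Z (𝟙 (W k)) (a' := i k ≫ t) (a := s k)
        ((Category.id_comp _).trans (hs k).symm) ≫ (σ k).1 ≫ chMap Z (i k) (hs k)) := inferInstance
      rw [Category.id_comp, Category.id_comp] at h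
      rwa [Category.comp_id])
  haveI := hl
  let j : (chObj Z t).1 ⟶ (chObj Y (𝟙 T)).1 :=
    chMap Z (𝟙 T) ((Category.id_comp _).trans (Category.id_comp _) : 𝟙 T ≫ 𝟙 T ≫ t = t)
  refine ⟨⟨j ≫ h, inferInstance⟩, fun k => ⟨hs k, ?_⟩⟩
  have h1 : chMap Z (i k) (hs k) ≫ j =
      chMap Z (𝟙 (W k)) (a' := s k) (a := i k ≫ t) ((Category.id_comp _).trans (hs k)) ≫
        chMap Y (i k) (Category.comp_id _) := by
    dsimp only [j, chMap, Y]
    rw [← Functor.map_comp]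
    refine (congrArg Z.map ?_).trans (Z.map_comp _ _)
    refine Over.OverMorphism.ext ?_
    show i k ≫ 𝟙 T = 𝟙 (W k) ≫ i k
    simp
  show (σ k).1 ≫ _ = _ ≫ j ≫ h
  rw [← Category.assoc (chMap Z (i k) (hs k)), h1, Category.assoc, hh k, ← Category.assoc,
    chMap_comp Z (𝟙 (W k)) (𝟙 (W k)) _ _ (𝟙 (W k)) (Category.id_comp _) (Category.id_comp _), chMap_id,
    Category.id_comp]

section Lines

variable (A : Type u) [CommRing A]

/-- Functions on two lines meeting at the origin. -/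
noncomputable abbrev TwoLines : Subalgebra A (A[X] × A[X]) :=
  AlgHom.equalizer ((aeval (0 : A)).comp (AlgHom.fst A A[X] A[X])) ((aeval (0 : A)).comp (AlgHom.snd A A[X] A[X]))

variable {A}

/-- A line. -/
noncomputable def lineHom (b : Bool) : TwoLines A →ₐ[A] A[X] :=
  (bif b then AlgHom.snd A A[X] A[X] else AlgHom.fst A A[X] A[X]).comp (TwoLines A).val

/-- The function vanishing on the other line. -/
noncomputable def lineEq (b : Bool) : TwoLines A :=
  ⟨bif b then (0, X) else (X, 0), by cases b <;> simp [TwoLines]⟩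

theorem lineEq_mul : (lineEq false : TwoLines A) * lineEq true = 0 :=
  Subtype.ext (by simp [lineEq])

theorem lineHom_lineEq (b : Bool) : lineHom b (lineEq b : TwoLines A) = X := by
  cases b <;> simp [lineHom, lineEq]

theorem isLocalization_line (b : Bool) :
    letI := ((IsScalarTower.toAlgHom A A[X] (Localization.Away (X : A[X]))).comp (lineHom b)).toRingHom.toAlgebra
    IsLocalization.Away (lineEq b : TwoLines A) (Localization.Away (X : A[X])) := by
  letI := ((IsScalarTower.toAlgHom A A[X] (Localization.Away (X : A[X]))).comp (lineHom b)).toRingHom.toAlgebra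
  have halg : ∀ x : TwoLines A, algebraMap (TwoLines A) (Localization.Away (X : A[X])) x =
      algebraMap A[X] _ (lineHom b x) := fun x => rfl
  have hX : IsUnit (algebraMap A[X] (Localization.Away (X : A[X])) X) := IsLocalization.Away.algebraMap_isUnit _
  have hlift : ∀ p : A[X], ∃ x : TwoLines A, lineHom b x = X * p := fun p =>
    ⟨⟨bif b then (0, X * p) else (X * p, 0), by cases b <;> simp [TwoLines]⟩,
      by cases b <;> simp [lineHom]⟩
  refine IsLocalization.Away.mk (lineEq b) (by rw [halg, lineHom_lineEq]; exact hX) (fun z => ?_) (fun x y h => ?_)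
  · obtain ⟨n, p, hp⟩ := IsLocalization.Away.surj (X : A[X]) z
    obtain ⟨x, hx⟩ := hlift p
    refine ⟨n + 1, x, ?_⟩
    rw [halg, halg, lineHom_lineEq, hx, map_mul, pow_succ, ← mul_assoc, hp, mul_comm]
  · rw [halg, halg] at h
    have h' : lineHom b x = lineHom b y := IsLocalization.injective _
      (Submonoid.powers_le.2 Polynomial.monic_X.mem_nonZeroDivisors) h
    refine ⟨1, Subtype.ext ?_⟩
    cases b <;> simp [lineHom, lineEq] at h' ⊢ <;> ext : 1 <;> simp [h']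

end Lines

/-- Restrictions along algebra homomorphisms compose. -/
theorem isRestr_aMap_comp {k : Type u} [CommRing k] {s₀ : Spec (CommRingCat.of k) ⟶ S}
    {Z : overCat (Over.mk s₀) ⥤ᵇ 𝒳} {R R' R'' : Type u} [CommRing R] [Algebra k R] [CommRing R'] [Algebra k R']
    [CommRing R''] [Algebra k R''] (f : R →ₐ[k] R') (g : R' →ₐ[k] R'') {t'' : aPt s₀ R'' ⟶ Over.mk s₀}
    {t' : aPt s₀ R' ⟶ Over.mk s₀} {t : aPt s₀ R ⟶ Over.mk s₀} {a : AutT Z t''} {b : AutT Z t'} {c : AutT Z t}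
    (h₁ : IsRestr (aMap s₀ g) a b) (h₂ : IsRestr (aMap s₀ f) b c) : IsRestr (aMap s₀ (g.comp f)) a c :=
  h₁.trans h₂ (aMap_comp f g)

theorem autT_eq_one (h𝒳 : Stk.IsStack (AlgSp.J S) 𝒳)
    (hIs : RepByAlgSpWith AlgSp.IsSeparatedMor (inertiaToBase (toSelf 𝒳))) (hsep : ClsSep 𝒳)
    {A : Type u} [CommRing A] {s₀ : Spec (CommRingCat.of A) ⟶ S} (Z : overCat (Over.mk s₀) ⥤ᵇ 𝒳)
    (u : AutT Z (𝟙 (Over.mk s₀))) : u = AutT.one := by
  have hX := h𝒳.1
  let Pl := Localization.Away (X : A[X])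
  let loc : A[X] →ₐ[A] Pl := IsScalarTower.toAlgHom A A[X] Pl
  let W : Bool → Over S := fun _ => aPt s₀ Pl
  let j : ∀ b, W b ⟶ aPt s₀ (TwoLines A) := fun b => aMap s₀ (loc.comp (lineHom b))
  haveI hj : ∀ b, IsOpenImmersion (j b).left := fun b => by
    letI := (loc.comp (lineHom b)).toRingHom.toAlgebra
    haveI := isLocalization_line (A := A) b
    exact IsOpenImmersion.of_isLocalization (S := Pl) (lineEq b : TwoLines A)
  have hne : ∀ (b : Bool) (x : (W b).left), lineEq b ∉ ((j b).left x).asIdeal := fun b x hx => by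
    refine x.isPrime.ne_top (Ideal.eq_top_of_isUnit_mem _ hx ?_)
    show IsUnit (loc (lineHom b (lineEq b)))
    rw [lineHom_lineEq]
    exact IsLocalization.Away.algebraMap_isUnit _
  have hdisj : ∀ k l (a : (W k).left) (b : (W l).left), (j k).left a = (j l).left b → k = l := by
    intro k l a b h
    by_contra hkl
    have h0 : (lineEq false : TwoLines A) * lineEq true ∈ ((j k).left a).asIdeal := by
      rw [lineEq_mul]; exact zero_mem _
    rcases ((j k).left a).isPrime.mem_or_mem h0 with h1 | h1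
    · rcases k with _ | _
      · exact hne false a h1
      · rcases l with _ | _
        · exact hne false b (h ▸ h1)
        · exact hkl rfl
    · rcases k with _ | _
      · rcases l with _ | _
        · exact hkl rfl
        · exact hne true b (h ▸ h1)
      · exact hne true a h1
  let W' : ULift.{u} Bool → Over S := fun k => W k.down
  let o : SpFP87.sigmaOver W' ⟶ aPt s₀ (TwoLines A) :=
    Over.homMk (Sigma.desc fun k => (j k.down).left) (Sigma.hom_ext _ _ fun k => by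
      show Sigma.ι (fun k => (W' k).left) k ≫ _ ≫ _ = Sigma.ι (fun k => (W' k).left) k ≫ Sigma.desc _
      rw [← Category.assoc, Sigma.ι_desc, Sigma.ι_desc]
      exact Over.w (j k.down))
  have hio : ∀ b : Bool, SpFP87.sigmaIncl W' ⟨b⟩ ≫ o = j b := fun b =>
    Over.OverMorphism.ext (Sigma.ι_desc (fun k : ULift.{u} Bool => (j k.down).left) ⟨b⟩)
  haveI : IsOpenImmersion o.left :=
    isOpenImmersion_sigmaDesc (g := fun k => (W' k).left) (fun k : ULift.{u} Bool => (j k.down).left) fun k l hkl => by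
      refine Set.disjoint_left.2 ?_
      rintro _ ⟨a, ha⟩ ⟨b, hb⟩
      exact hkl (ULift.ext _ _ (hdisj k.down l.down a b (ha.trans hb.symm)))
  obtain ⟨uP, huP⟩ := IsRestr.exists_of hX (Category.comp_id (aStr s₀ A[X])) u
  obtain ⟨uPl, huPl⟩ := IsRestr.exists_of hX (Category.comp_id (aStr s₀ Pl)) u
  have hs : ∀ b, SpFP87.sigmaIncl W' ⟨b⟩ ≫ o ≫ aStr s₀ (TwoLines A) = aStr s₀ Pl := fun b => by
    rw [← Category.assoc, hio b]; exact aMap_aStr _
  obtain ⟨σ, hσ⟩ := exists_autT_glue h𝒳 Z (o ≫ aStr s₀ (TwoLines A)) (fun b : Bool => SpFP87.sigmaIncl W' ⟨b⟩)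
    (fun b => SpFP87.sigmaIncl_isOpenImmersion W' ⟨b⟩)
    (fun z => by
      obtain ⟨⟨b⟩, y, hy⟩ := SpFP87.exists_sigmaIncl W' z
      exact ⟨b, y, hy⟩)
    (fun k l a b h => congrArg ULift.down (SpFP87.sigmaIncl_range_eq W' h)) (s := fun _ => aStr s₀ Pl) hs
    (fun b => bif b then uPl else AutT.one)
  obtain ⟨g, hg⟩ := exists_extend_of_clsSep h𝒳 hsep Z o (aStr s₀ (TwoLines A)) σ
  have hjg : ∀ b, IsRestr (j b) (bif b then uPl else (AutT.one (Z := Z) (t := aStr s₀ Pl))) g := fun b =>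
    (hσ b).trans hg (hio b)
  have hinj : Function.Injective (aMap s₀ loc).left.appTop := by
    show Function.Injective (Spec.map (CommRingCat.ofHom loc.toRingHom)).appTop
    intro x y hxy
    apply (Scheme.ΓSpecIso (CommRingCat.of A[X])).commRingCatIsoToRingEquiv.injective
    apply IsLocalization.injective Pl (Submonoid.powers_le.2 (Polynomial.monic_X (R := A)).mem_nonZeroDivisors)
    · have h := congrArg (fun f => f.hom x) (Scheme.ΓSpecIso_naturality (CommRingCat.ofHom loc.toRingHom))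
      have h' := congrArg (fun f => f.hom y) (Scheme.ΓSpecIso_naturality (CommRingCat.ofHom loc.toRingHom))
      exact h.symm.trans ((congrArg _ hxy).trans h')
  haveI : IsAffine (aPt s₀ A[X]).left := inferInstanceAs (IsAffine (Spec (CommRingCat.of A[X])))
  have hline : ∀ (b : Bool) (v : AutT Z (aStr s₀ A[X])),
      IsRestr (aMap s₀ loc) (bif b then uPl else (AutT.one (Z := Z) (t := aStr s₀ Pl))) v →
      IsRestr (aMap s₀ (lineHom b)) v g := fun b v hv => by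
    obtain ⟨w, hw⟩ := IsRestr.exists_of hX (aMap_aStr (lineHom b)) g
    obtain ⟨r, hr⟩ := IsRestr.exists_of hX (aMap_aStr loc) w
    have e := isRestr_aMap_comp (s₀ := s₀) (R := ↥(TwoLines A)) (R' := A[X]) (R'' := Pl) (t'' := aStr s₀ Pl) (t' := aStr s₀ A[X])
      (t := aStr s₀ ↥(TwoLines A)) (a := r) (b := w) (c := g) (lineHom b) loc hr hw
    have h := IsRestr.unique hX e (hjg b)
    rw [h] at hr
    have hwv : w = v := autT_eq_of_dense hX hIs (T₀ := aPt s₀ Pl) (T := aPt s₀ A[X]) (aMap s₀ loc) hinj hr hv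
    rw [← hwv]
    exact hw
  have h₀ : IsRestr (aMap s₀ (lineHom false)) (AutT.one (t := aStr s₀ A[X])) g :=
    hline false _ (IsRestr.one (aMap_aStr loc))
  have h₁ : IsRestr (aMap s₀ (lineHom true)) uP g := hline true _ (by
    obtain ⟨r, hr⟩ := IsRestr.exists_of hX (aMap_aStr loc) uP
    obtain rfl := IsRestr.unique hX (hr.trans huP (aMap_aStr loc)) huPl
    exact hr)
  have hz : ((aeval (0 : A)).comp (lineHom true) : TwoLines A →ₐ[A] A) = (aeval (0 : A)).comp (lineHom false) :=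
    AlgHom.ext fun x => x.2.symm
  obtain ⟨uA, huA⟩ := IsRestr.exists_of hX (Category.comp_id (aStr s₀ A)) u
  obtain ⟨r, hr⟩ := IsRestr.exists_of hX (aMap_aStr (aeval (0 : A) : A[X] →ₐ[A] A)) uP
  obtain rfl : r = uA := IsRestr.unique hX (hr.trans huP (aMap_aStr _)) huA
  have e₁ := isRestr_aMap_comp (s₀ := s₀) (R := ↥(TwoLines A)) (R' := A[X]) (R'' := A) (t'' := aStr s₀ A)
    (t' := aStr s₀ A[X]) (t := aStr s₀ ↥(TwoLines A)) (a := r) (b := uP) (c := g) (lineHom true) (aeval (0 : A)) hr h₁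
  have e₀ := isRestr_aMap_comp (s₀ := s₀) (R := ↥(TwoLines A)) (R' := A[X]) (R'' := A) (t'' := aStr s₀ A)
    (t' := aStr s₀ A[X]) (t := aStr s₀ ↥(TwoLines A)) (a := AutT.one) (b := AutT.one) (c := g) (lineHom false)
    (aeval (0 : A)) (IsRestr.one (Z := Z) (aMap_aStr (aeval (0 : A) : A[X] →ₐ[A] A))) h₀
  rw [hz] at e₁
  obtain rfl := IsRestr.unique hX e₁ e₀
  let w : Over.mk s₀ ⟶ aPt s₀ A := Over.homMk (𝟙 _) (by
    show 𝟙 _ ≫ Spec.map _ ≫ s₀ = s₀
    simp)
  have hw : w ≫ aStr s₀ A = 𝟙 _ := by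
    ext : 1
    show 𝟙 _ ≫ Spec.map _ = 𝟙 _
    simp
  exact (IsRestr.unique hX ((IsRestr.one hw).trans huA hw) (IsRestr.refl u)).symm

theorem isClean_of_clsSep (h𝒳 : Stk.IsStack (AlgSp.J S) 𝒳)
    (hIs : RepByAlgSpWith AlgSp.IsSeparatedMor (inertiaToBase (toSelf 𝒳))) (hsep : ClsSep 𝒳) (η : 𝒳.obj) :
    IsClean η := by
  intro x _ s hs
  have hX := h𝒳.1
  let T := 𝒳.p.obj x
  haveI hsl : 𝒳.p.IsHomLift (𝟙 T) s := IsHomLift.of_fac' 𝒳.p (𝟙 T) s rfl rfl (by simpa using hs)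
  let 𝒰 := T.left.affineOpenCover
  let W : 𝒰.I₀ → Over S := fun i => Over.mk (𝒰.f i ≫ T.hom)
  let c : ∀ i, W i ⟶ T := fun i => Over.homMk (𝒰.f i) rfl
  let R : Sieve T := Sieve.generate (Presieve.ofArrows W c)
  have hR : R ∈ AlgSp.J S T := by
    rw [GrothendieckTopology.mem_over_iff, Sieve.overEquiv_generate]
    refine GrothendieckTopology.superset_covering _ ?_
      (Precoverage.generate_mem_toGrothendieck
        (Scheme.zariskiPrecoverage_le_fppfPrecoverage _ 𝒰.openCover.mem₀))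
    rw [Sieve.generate_le_iff]
    rintro Z g ⟨i⟩
    exact Sieve.le_generate _ _ _ ⟨W i, c i, 𝟙 _, ⟨i⟩, by simp; rfl⟩
  refine Fib44.hom_ext_of_lifts hX ((Fib44.isStack_iff.1 h𝒳).2 R hR).1 rfl (𝟙 T) s (𝟙 x) fun V g hg => ?_
  obtain ⟨Y, q, g', ⟨i⟩, rfl⟩ := hg
  obtain ⟨z, a, ha⟩ := exists_lift_fiber hX (c i) ⟨x, rfl⟩
  obtain ⟨z', b, hb⟩ := exists_lift_fiber hX q z
  haveI := ha
  haveI := hb
  refine ⟨z'.1, b ≫ a, inferInstance, ?_⟩
  rw [Category.comp_id, Category.assoc]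
  congr 1
  obtain ⟨χ, ⟨hχ, hχe⟩, -⟩ :=
    exists_fac hX (𝟙 (W i)) (Category.id_comp (c i)) a ha (a ≫ s) inferInstance
  haveI := hχ
  let Z := classify hX z.1 z.2
  obtain ⟨e, he⟩ := classify_mk_id hX z.1 z.2
  haveI := he
  let u : AutT Z (𝟙 (W i)) := ⟨e.hom ≫ χ ≫ inv e.hom, by
    haveI := fg_isIso_of_lift_id hX e.hom (W i)
    infer_instance⟩
  have hu := autT_eq_one h𝒳 hIs hsep (A := ↥(𝒰.X i)) (s₀ := 𝒰.f i ≫ T.hom) Z u
  have h1 : χ = 𝟙 z.1 := by
    have h2 : e.hom ≫ χ ≫ inv e.hom = 𝟙 _ := congrArg Subtype.val hu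
    rw [← cancel_epi e.hom, ← cancel_mono (inv e.hom), Category.assoc, h2]
    simp
  rw [← hχe, h1, Category.id_comp]

end Groth.Agent.IsoNat97
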