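import Groth.Agent.IsoNat97.Basic
import Groth.Agent.AlgSt88.Substack
import Groth.Agent.AlgSt88.MonoFull

/-! Open subfunctors of the presheaf of isomorphism classes. -/

set_option autoImplicit false
set_option linter.unusedVariables false
set_option linter.style.haveILetI false
set_option backward.isDefEq.respectTransparency false
set_option backward.isDefEq.respectTransparency.types false
universe u

open CategoryTheory CategoryTheory.Limits AlgebraicGeometry Opposite AlgSt FibCat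

namespace Groth.Agent.IsoNat97

open IsoNat AlgSt88

variable {S : Scheme.{u}} {𝒳 𝒴 : AlgSt.Cat S}

theorem factor_iff {Y X : Scheme.{u}} (V : X.Opens) (g : Y ⟶ X) :
    (∃ g' : Y ⟶ V.toScheme, g' ≫ V.ι = g) ↔ ∀ t, g t ∈ V := by
  constructor
  · rintro ⟨g', rfl⟩ t
    exact (g' t).2
  · intro h
    have hr : Set.range g ⊆ Set.range V.ι := by
      rw [Scheme.Opens.range_ι]
      rintro _ ⟨t, rfl⟩
      exact h t
    exact ⟨IsOpenImmersion.lift V.ι g hr, IsOpenImmersion.lift_fac _ _ hr⟩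

/-- The points of an open subfunctor. -/
def clsPts (W : ∀ T : Over S, Set (IsoCl 𝒴 T)) : Set (Points 𝒴) :=
  {z | ∃ p : FPt 𝒴, Points.mk p = z ∧ cls (fib p) ∈ W _}

variable {W : ∀ T : Over S, Set (IsoCl 𝒴 T)}

theorem isOpenSubstack_cls (h𝒴 : IsAlgStack Scheme.fppfPrecoverage 𝒴)
    (hWpull : ∀ (T' T : Over S) (g : T' ⟶ T) (x' : 𝒴.p.Fiber T') (x : 𝒴.p.Fiber T) (a : x'.1 ⟶ x.1),
      𝒴.p.IsHomLift g a → cls x ∈ W T → cls x' ∈ W T')
    (hWopen : ∀ (T : Over S) (x : 𝒴.p.Fiber T), ∃ V : T.left.Opens,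
      ∀ (T' : Over S) (g : T' ⟶ T) (x' : 𝒴.p.Fiber T') (a : x'.1 ⟶ x.1), 𝒴.p.IsHomLift g a →
        (cls x' ∈ W T' ↔ ∃ g' : T'.left ⟶ ↑V, g' ≫ V.ι = g.left)) :
    IsOpenSubstack 𝒴 (fun η => cls (⟨η, rfl⟩ : 𝒴.p.Fiber (𝒴.p.obj η)) ∈ W (𝒴.p.obj η))
      Scheme.fppfPrecoverage := by
  have hY := h𝒴.isStack.1
  have hhom : ∀ {r p : FPt 𝒴} (a : r.obj ⟶ p.obj), cls (fib r) ∈ W _ ↔ cls (fib p) ∈ W _ := fun {r p} a => by
    have ha : 𝒴.p.IsHomLift (fptBase a) a := IsHomLift.of_fac' 𝒴.p _ _ r.lies p.lies (map_fptBase a)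
    refine ⟨fun hr => ?_, hWpull _ _ _ (fib r) (fib p) a ha⟩
    obtain ⟨V, hV⟩ := hWopen _ (fib p)
    refine (hV _ (𝟙 _) (fib p) (𝟙 _) (IsHomLift.id p.lies)).2 ((factor_iff _ _).2 fun t => ?_)
    have h0 := (factor_iff V _).1 ((hV _ _ (fib r) a ha).1 hr) (IsLocalRing.closedPoint r.K)
    haveI : Subsingleton ↥(Spec (CommRingCat.of p.K)) := inferInstanceAs (Subsingleton (PrimeSpectrum p.K))
    convert h0 using 1
    exact @Subsingleton.elim ↥(Spec (CommRingCat.of p.K)) _ _ _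
  have hmem : ∀ p : FPt 𝒴, Points.mk p ∈ clsPts W ↔ cls (fib p) ∈ W _ := fun p => by
    refine ⟨?_, fun h => ⟨p, rfl, h⟩⟩
    rintro ⟨q, hq, hW⟩
    obtain ⟨r, a, b, -⟩ := rel_of_mk_eq hY hq
    exact (hhom b).1 ((hhom a).2 hW)
  have hop : IsOpen (clsPts W) := Points.isOpen_iff.2 fun U x _ => by
    obtain ⟨V, hV⟩ := hWopen U (objAt x (Fib44.idObj U) rfl)
    convert V.isOpen using 1
    ext t
    let a : Over U := Over.mk (Over.homMk (U.left.fromSpecResidueField t) rfl :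
      Over.mk (U.left.fromSpecResidueField t ≫ U.hom) ⟶ U)
    have h := hV _ a.hom (objAt x a rfl) (x.map (Fib44.toId a)) (Fib44.isHomLift_toId x a)
    rw [Set.mem_preimage]
    refine (hmem _).trans (h.trans ((factor_iff _ _).trans ?_))
    constructor
    · intro h1
      have h2 : a.hom.left (IsLocalRing.closedPoint (U.left.residueField t)) = t :=
        Scheme.fromSpecResidueField_apply _ _
      exact h2 ▸ h1 (IsLocalRing.closedPoint (U.left.residueField t))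
    · intro h1 s
      rw [show a.hom.left s = t from Scheme.fromSpecResidueField_apply _ s]
      exact h1
  convert isOpenSubstack_inPts h𝒴 hop using 1
  funext η
  apply propext
  obtain ⟨V, hV⟩ := hWopen _ (⟨η, rfl⟩ : 𝒴.p.Fiber (𝒴.p.obj η))
  have hp : ∀ (p : FPt 𝒴) (g : p.obj ⟶ η), Points.mk p ∈ clsPts W ↔
      ∃ g' : _ ⟶ V.toScheme, g' ≫ V.ι = (eqToHom p.lies.symm ≫ 𝒴.p.map g).left := fun p g =>
    (hmem p).trans (hV _ (eqToHom p.lies.symm ≫ 𝒴.p.map g) (fib p) g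
      (IsHomLift.of_fac' 𝒴.p _ _ p.lies rfl (by simp)))
  refine (hV _ (𝟙 _) _ (𝟙 η) (IsHomLift.id rfl)).trans ((factor_iff _ _).trans ⟨fun h p g => ?_, fun h t => ?_⟩)
  · exact (hp p g).2 ((factor_iff _ _).2 fun s => h _)
  · let T := 𝒴.p.obj η
    let g₀ : Over.mk (T.left.fromSpecResidueField t ≫ T.hom) ⟶ T := Over.homMk (T.left.fromSpecResidueField t) rfl
    obtain ⟨η', hη', φ, hφ⟩ := fg_exists_lift hY g₀
    have h' := (hp { K := ↥(T.left.residueField t), str := _, obj := η', lies := hη' } φ).1 (h _ φ)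
    have e : eqToHom hη'.symm ≫ 𝒴.p.map φ = g₀ := by simp [hφ]
    rw [e] at h'
    convert (factor_iff _ _).1 h' (IsLocalRing.closedPoint _) using 1
    exact (Scheme.fromSpecResidueField_apply _ _).symm

theorem cls_eq_of_fpFst {𝒴' : AlgSt.Cat S} (hY : IsFibGrpd 𝒴.p) (hY' : IsFibGrpd 𝒴'.p) {f : 𝒳 ⥤ᵇ 𝒴} {i : 𝒴' ⥤ᵇ 𝒴}
    (hi : AlgSt.IsMono i) {T : Over S} {z₁ z₂ : (fp f i).p.Fiber T}
    (h₁ : mapCls (fpFst f i) T (cls z₁) = mapCls (fpFst f i) T (cls z₂)) : cls z₁ = cls z₂ := by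
  haveI := full_of_isMono hY' hY hi
  haveI := faithful_of_isMono hY' hY hi
  obtain ⟨e⟩ := cls_eq_iff.1 h₁
  let e₁ : z₁.1.obj.fst ≅ z₂.1.obj.fst := Functor.Fiber.fiberInclusion.mapIso e
  let e₂ : z₁.1.obj.snd ≅ z₂.1.obj.snd := (Functor.FullyFaithful.ofFullyFaithful i.toFunctor).preimageIso
    (z₁.1.obj.iso.symm ≪≫ f.toFunctor.mapIso e₁ ≪≫ z₂.1.obj.iso)
  have he₂ : i.map e₂.hom = z₁.1.obj.iso.inv ≫ f.map e₁.hom ≫ z₂.1.obj.iso.hom :=
    (Functor.FullyFaithful.ofFullyFaithful i.toFunctor).map_preimage _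
  have hl : 𝒳.p.IsHomLift (𝟙 T) e₁.hom := e.hom.2
  exact cls_eq_iff.2 ⟨Fib44.fiberIso (fpObjIso e₁ e₂ (by rw [he₂, Iso.hom_inv_id_assoc]))
    (fp_isHomLift _ hl) z₁.2 z₂.2⟩

end Groth.Agent.IsoNat97
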