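import Groth.Agent.IsoNat97.Basic
import Groth.Agent.AlgSt88.QCOverS
import Groth.Agent.AlgSt88.Substack
import Groth.Agent.AlgSt88.MonoFull

/-! Quasi-compact morphisms through the space of points. -/

set_option autoImplicit false
set_option linter.unusedVariables false
set_option linter.style.haveILetI false
set_option backward.isDefEq.respectTransparency false
set_option backward.isDefEq.respectTransparency.types false
universe u

open CategoryTheory CategoryTheory.Limits AlgebraicGeometry Opposite AlgSt FibCat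

namespace Groth.Agent.IsoNat97

open IsoNat AlgSt88

variable {S : Scheme.{u}} {𝒳 𝒴 : AlgSt.Cat S}

theorem range_map_chart {V : Over S} (v : overCat V ⥤ᵇ 𝒳) :
    Set.range (Points.map v) = Set.range (Points.ofChart v) := by
  apply subset_antisymm
  · rintro _ ⟨z, rfl⟩
    obtain ⟨w, rfl⟩ := (points_map_bijective (isEquivOver_toOverCat V)).2 z
    obtain ⟨τ, rfl⟩ := stPt_bijective.2 w
    obtain ⟨t, rfl⟩ := (AlgSp.Points.schemeHomeo V).surjective τ
    exact ⟨t, (ofChart_eq v t).trans (points_map_comp _ _ _)⟩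
  · rintro _ ⟨t, rfl⟩
    exact ⟨_, ((ofChart_eq v t).trans (points_map_comp _ _ _)).symm⟩

/-- A compact set of points inside an open one is covered by an affine chart inside it. -/
theorem exists_affine_chart (h𝒳 : IsAlgStack Scheme.fppfPrecoverage 𝒳) {C W : Set (Points 𝒳)} (hC : IsCompact C)
    (hW : IsOpen W) (hCW : C ⊆ W) :
    ∃ (V : Over S) (v : overCat V ⥤ᵇ 𝒳), IsAffine V.left ∧ Sm v ∧ C ⊆ Set.range (Points.map v) ∧
      Set.range (Points.map v) ⊆ W := by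
  obtain ⟨U, u, hu, hu'⟩ := h𝒳.atlas
  have hX := h𝒳.isStack.1
  have hopen := isOpenMap_ofChart hX u (rep_flat_of_sm hu) (rep_lfp_of_sm hu)
  let I := {A : U.left.affineOpens // ∀ t ∈ A.1, Points.ofChart u t ∈ W}
  obtain ⟨s, hs⟩ := hC.elim_finite_subcover (fun A : I => Points.ofChart u '' (A.1.1 : Set U.left))
    (fun A => hopen _ A.1.1.isOpen) (fun y hy => by
    obtain ⟨t, rfl⟩ := surjective_ofChart hX u hu' y
    obtain ⟨A, hA, htA, hAW⟩ := exists_isAffineOpen_mem_and_subset (X := U.left)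
      (U := ⟨Points.ofChart u ⁻¹' W, hW U u hu⟩) (x := t) (hCW hy)
    exact Set.mem_iUnion.2 ⟨⟨⟨A, hA⟩, fun r hr => hAW hr⟩, t, htA, rfl⟩)
  haveI : Finite (↥s) := Finite.of_fintype _
  let X' : ↥s → Scheme.{u} := fun A => (A.1.1.1 : U.left.Opens)
  haveI : ∀ A, IsAffine (X' A) := fun A => A.1.1.2
  let c : (∐ X') ⟶ U.left := Sigma.desc fun A => A.1.1.1.ι
  let V : Over S := Over.mk (c ≫ U.hom)
  let c' : V ⟶ U := Over.homMk c rfl
  have hc : Smooth c := IsZariskiLocalAtSource.sigmaDesc (P := @Smooth) fun A => inferInstance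
  refine ⟨V, BasedFunctor.comp (overMap c') u, inferInstanceAs (IsAffine (∐ X')),
    sm_comp (isFibGrpd_overCat V) (isFibGrpd_overCat U) (sm_overMap c' hc) hu, ?_, ?_⟩
  · intro y hy
    obtain ⟨A, hA⟩ := Set.mem_iUnion.1 (hs hy)
    obtain ⟨hAs, t, ht, rfl⟩ := Set.mem_iUnion.1 hA
    rw [range_map_chart]
    refine ⟨Sigma.ι X' ⟨A, hAs⟩ ⟨t, ht⟩, (ofChart_overMap c' u _).trans (congrArg (Points.ofChart u) ?_)⟩
    change c (Sigma.ι X' ⟨A, hAs⟩ ⟨t, ht⟩) = t
    rw [← Scheme.Hom.comp_apply, Sigma.ι_desc]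
    rfl
  · rw [range_map_chart]
    rintro _ ⟨v, rfl⟩
    rw [ofChart_overMap c' u v]
    obtain ⟨⟨A, w⟩, rfl⟩ := (sigmaMk X').surjective v
    rw [sigmaMk_mk]
    refine A.1.2 _ ?_
    change c (Sigma.ι X' A w) ∈ A.1.1.1
    rw [← Scheme.Hom.comp_apply, Sigma.ι_desc]
    exact w.2

/-- Preimages of quasi-compact open sets of points under a quasi-compact morphism are quasi-compact. -/
theorem isCompact_preimage (h𝒳 : IsAlgStack Scheme.fppfPrecoverage 𝒳) (h𝒴 : IsAlgStack Scheme.fppfPrecoverage 𝒴)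
    {f : 𝒳 ⥤ᵇ 𝒴} {𝒱 : AlgSt.Cat S} (h𝒱 : IsAlgStack Scheme.fppfPrecoverage 𝒱) (v : 𝒱 ⥤ᵇ 𝒴)
    (hq : IsQuasiCompact (fp v f)) : IsCompact (Points.map f ⁻¹' Set.range (Points.map v)) := by
  haveI := compactSpace_points_of_isQuasiCompact (isAlgStack_fp h𝒴.isStack h𝒴.diag h𝒱 h𝒳 v f) hq
  have h : Points.map f ⁻¹' Set.range (Points.map v) = Set.range (Points.map (fpSnd v f)) := by
    ext x
    constructor
    · rintro ⟨z, hz⟩
      obtain ⟨w, -, hw⟩ := exists_points_fp h𝒴.isStack.1 h𝒳.isStack.1 h𝒱.isStack.1 f v z x hz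
      exact ⟨w, hw⟩
    · rintro ⟨w, rfl⟩
      refine ⟨Points.map (fpFst v f) w, ?_⟩
      rw [← points_map_comp, ← points_map_comp]
      exact points_map_congr (fpIso v f) w
  rw [h]
  exact isCompact_range (continuous_map h𝒳 _)

theorem isCompact_preimage_of_qcMor (h𝒳 : IsAlgStack Scheme.fppfPrecoverage 𝒳)
    (h𝒴 : IsAlgStack Scheme.fppfPrecoverage 𝒴) {f : 𝒳 ⥤ᵇ 𝒴} (hf : IsQuasiCompactMor Scheme.fppfPrecoverage f)
    (W : Set (Points 𝒴)) (hW : IsOpen W) (hc : IsCompact W) : IsCompact (Points.map f ⁻¹' W) := by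
  obtain ⟨V, v, hV, -, h1, h2⟩ := exists_affine_chart h𝒴 hc hW subset_rfl
  haveI := hV
  rw [subset_antisymm h1 h2]
  exact isCompact_preimage h𝒳 h𝒴 (isAlgStack_overCat V) v
    (hf _ (isAlgStack_overCat V) (isQuasiCompact_overCat V) v)

/-- A morphism to a stack with quasi-compact diagonal is quasi-compact when preimages of quasi-compact opens are
quasi-compact. -/
theorem isQuasiCompactMor_of_preimage [QuasiSeparatedSpace S] (h𝒳 : IsAlgStack Scheme.fppfPrecoverage 𝒳)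
    (h𝒴 : IsAlgStack Scheme.fppfPrecoverage 𝒴) (hd : RepByAlgSpWith AlgSp.IsQuasiCompactMor (diag (toSelf 𝒴)))
    {f : 𝒳 ⥤ᵇ 𝒴} (h : ∀ W : Set (Points 𝒴), IsOpen W → IsCompact W → IsCompact (Points.map f ⁻¹' W)) :
    IsQuasiCompactMor Scheme.fppfPrecoverage f := by
  refine isQuasiCompactMor_of_affine h𝒳 h𝒴 fun T hT t => ?_
  haveI := hT
  have hX := h𝒳.isStack.1
  have hY := h𝒴.isStack.1
  haveI := compactSpace_points_of_isQuasiCompact (isAlgStack_overCat T) (isQuasiCompact_overCat T)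
  obtain ⟨s, hs⟩ := (isCompact_range (continuous_map h𝒴 t)).elim_finite_subcover
    (fun W : {W : Set (Points 𝒴) // IsOpen W ∧ IsCompact W} => W.1) (fun W => W.2.1) (fun y _ => by
      obtain ⟨W, h1, h2, h3, -⟩ := exists_isOpen_isCompact_nhd h𝒴 y Set.univ isOpen_univ trivial
      exact Set.mem_iUnion.2 ⟨⟨W, h1, h2⟩, h3⟩)
  obtain ⟨V, v, hV, -, h1, -⟩ := exists_affine_chart h𝒳
    (h _ (isOpen_biUnion fun W _ => W.2.1) (s.isCompact_biUnion fun W _ => W.2.2)) isOpen_univ (Set.subset_univ _)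
  haveI := hV
  have hV' := isAlgStack_overCat (S := S) V
  have hvf : IsQuasiCompactMor Scheme.fppfPrecoverage (BasedFunctor.comp v f) :=
    isQuasiCompactMor_of_comp hV' h𝒴 isAlgStack_selfOver
      (isQuasiCompactMor_of_iso (selfIso _ _) (isQuasiCompactMor_toSelf hV' (isQuasiCompact_overCat V))) hd
  have hA := isAlgStack_fp h𝒴.isStack h𝒴.diag h𝒳 (isAlgStack_overCat T) f t
  have hB := isAlgStack_fp h𝒴.isStack h𝒴.diag hV' (isAlgStack_overCat T) (BasedFunctor.comp v f) t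
  have hC := isAlgStack_fp h𝒳.isStack h𝒳.diag hV' hA v (fpFst f t)
  haveI := compactSpace_of_isQuasiCompactMor hV' h𝒴 hvf (isAlgStack_overCat T) (isQuasiCompact_overCat T) t
  haveI := compactSpace_of_equiv (e := fpSwap t (BasedFunctor.comp v f)) isEquivOver_fpSwap hB
  obtain ⟨Ψ, hΨ, -, -⟩ := isEquivOver_inverse (isEquivOver_fpPaste v f t)
  haveI := compactSpace_of_equiv hΨ hC
  haveI : CompactSpace (Points (fp f t)) := compactSpace_of_surjective hA (fpSnd v (fpFst f t)) (fun w => by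
    have hw : Points.map f (Points.map (fpFst f t) w) ∈ Set.range (Points.map t) :=
      ⟨Points.map (fpSnd f t) w, by
        rw [← points_map_comp, ← points_map_comp]
        exact (points_map_congr (fpIso f t) w).symm⟩
    obtain ⟨z, hz⟩ := h1 (show Points.map (fpFst f t) w ∈ Points.map f ⁻¹' _ from hs hw)
    obtain ⟨w', -, hw'⟩ := exists_points_fp hX hA.isStack.1 (isFibGrpd_overCat V) (fpFst f t) v z w hz
    exact ⟨w', hw'⟩)
  exact compactSpace_of_equiv (e := fpSwap f t) isEquivOver_fpSwap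
    (isAlgStack_fp h𝒴.isStack h𝒴.diag (isAlgStack_overCat T) h𝒳 t f)

theorem diag_qc {P : MorphismProperty (AlgSp.Sp S)} {Q : MorphismProperty (AlgSp.Sp S)}
    (h : RepByAlgSpWith (P ⊓ Q) (diag (toSelf 𝒴))) : RepByAlgSpWith Q (diag (toSelf 𝒴)) :=
  repByAlgSpWith_mono inf_le_right h

/-- Quasi-compact morphisms correspond under isomorphisms of the presheaves of isomorphism classes. -/
theorem isQuasiCompactMor_of_sq [QuasiSeparatedSpace S] {𝒳' 𝒴' : AlgSt.Cat S}
    (h𝒳 : IsAlgStack Scheme.fppfPrecoverage 𝒳) (h𝒴 : IsAlgStack Scheme.fppfPrecoverage 𝒴)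
    (h𝒳' : IsAlgStack Scheme.fppfPrecoverage 𝒳') (h𝒴' : IsAlgStack Scheme.fppfPrecoverage 𝒴')
    (hd : RepByAlgSpWith AlgSp.IsQuasiCompactMor (diag (toSelf 𝒴')))
    {f : 𝒳 ⥤ᵇ 𝒴} {f' : 𝒳' ⥤ᵇ 𝒴'} (φ : FIsoSq f f') (hf : IsQuasiCompactMor Scheme.fppfPrecoverage f) :
    IsQuasiCompactMor Scheme.fppfPrecoverage f' := by
  refine isQuasiCompactMor_of_preimage h𝒳' h𝒴' hd fun W hW hc => ?_
  let a := ptHomeo φ.src h𝒳 h𝒳'
  let b := ptHomeo φ.tgt h𝒴 h𝒴'
  have h := isCompact_preimage_of_qcMor h𝒳 h𝒴 hf (b ⁻¹' W) (hW.preimage b.continuous)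
    (b.isCompact_preimage.2 hc)
  have he : Points.map f' ⁻¹' W = a '' (Points.map f ⁻¹' (b ⁻¹' W)) := by
    ext z
    obtain ⟨w, rfl⟩ := a.surjective z
    rw [a.injective.mem_set_image]
    show Points.map f' (ptMap φ.src w) ∈ W ↔ ptMap φ.tgt (Points.map f w) ∈ W
    rw [ptMap_square]
  rw [he]
  exact h.image a.continuous

/-- Quasi-compactness of a morphism is tested on quasi-compact open substacks. -/
theorem isQuasiCompactMor_of_openSubstacks [QuasiSeparatedSpace S] (h𝒳 : IsAlgStack Scheme.fppfPrecoverage 𝒳)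
    (h𝒴 : IsAlgStack Scheme.fppfPrecoverage 𝒴) (hd : RepByAlgSpWith AlgSp.IsQuasiCompactMor (diag (toSelf 𝒴)))
    {f : 𝒳 ⥤ᵇ 𝒴}
    (h : ∀ (𝒴' : AlgSt.Cat S), IsAlgStack Scheme.fppfPrecoverage 𝒴' → IsQuasiCompact 𝒴' →
      ∀ (j : 𝒴' ⥤ᵇ 𝒴), IsOpenImm j → IsQuasiCompact (fp j f)) :
    IsQuasiCompactMor Scheme.fppfPrecoverage f := by
  refine isQuasiCompactMor_of_preimage h𝒳 h𝒴 hd fun W hW hc => ?_
  have hY := h𝒴.isStack.1
  obtain ⟨-, hA, hj⟩ := isOpenSubstack_inPts h𝒴 hW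
  obtain ⟨V, v, hV, -, h1, h2⟩ := exists_affine_chart h𝒴 hc hW subset_rfl
  haveI := hV
  have hv : ∀ a, InPts W (v.obj a) := fun a p g => by
    rw [mk_eq_ofChart hY v a p g]
    exact h2 (by rw [range_map_chart]; exact ⟨_, rfl⟩)
  let v' : overCat V ⥤ᵇ fullSub 𝒴 (InPts W) :=
    { toFunctor := ObjectProperty.lift (InPts W) v.toFunctor hv
      w := v.w }
  let j := subIncl 𝒴 (InPts W)
  haveI : j.toFunctor.Full := inferInstanceAs (ObjectProperty.ι (InPts W)).Full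
  have hs : AlgSt.IsSurjective v' := fun w => by
    have hw : Points.map j w ∈ W := (range_subIncl_inPts W).subset ⟨w, rfl⟩
    obtain ⟨z, hz⟩ := h1 hw
    exact ⟨z, points_map_injective hA.isStack.1 hY j ((points_map_comp v' j z).symm.trans hz)⟩
  have hq := isQuasiCompact_of_surjective hA (isAlgStack_overCat V) v' hs (isQuasiCompact_overCat V)
  have := isCompact_preimage h𝒳 h𝒴 hA j (h _ hA hq j hj)
  rwa [range_subIncl_inPts] at this

end Groth.Agent.IsoNat97
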