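import Groth.Agent.IsoNat97.LiftSec
import Groth.Agent.AlgSt88.FpMap

/-! Decomposition of sections of fibre products of charts and of inertia spaces. -/

set_option autoImplicit false
set_option linter.unusedVariables false
set_option linter.style.haveILetI false
set_option backward.isDefEq.respectTransparency false
set_option backward.isDefEq.respectTransparency.types false
universe u

open CategoryTheory CategoryTheory.Limits AlgebraicGeometry Opposite AlgSt FibCat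

namespace Groth.Agent.IsoNat97

open AlgSt88

variable {S : Scheme.{u}} {𝒳 : AlgSt.Cat S} {U V : Over S}

theorem chMap_cancel (hX : IsFibGrpd 𝒳.p) (x : overCat U ⥤ᵇ 𝒳) {T'' T' T : Over S} {j : T'' ⟶ T'} {i : T' ⟶ T}
    {a' : T' ⟶ U} {a : T ⟶ U} (h : i ≫ a = a') {z : 𝒳.obj} {ψ₁ ψ₂ : z ⟶ (chObj x a').1}
    (h₁ : 𝒳.p.IsHomLift j ψ₁) (h₂ : 𝒳.p.IsHomLift j ψ₂) (he : ψ₁ ≫ chMap x i h = ψ₂ ≫ chMap x i h) : ψ₁ = ψ₂ := by
  haveI := h₁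
  obtain ⟨χ, -, huniq⟩ := exists_fac hX j (rfl : j ≫ i = j ≫ i) (chMap x i h) inferInstance (ψ₁ ≫ chMap x i h) inferInstance
  exact (huniq _ h₁ rfl).trans (huniq _ h₂ he.symm).symm

theorem exists_restrict (hX : IsFibGrpd 𝒳.p) {c : overCat V ⥤ᵇ 𝒳} {x : overCat U ⥤ᵇ 𝒳} {T' T : Over S}
    (l : T' ⟶ T) {b : T ⟶ V} {a : T ⟶ U} {b' : T' ⟶ V} {a' : T' ⟶ U} (hb : l ≫ b = b') (ha : l ≫ a = a')
    (θ : (chObj c b).1 ⟶ (chObj x a).1) (hθ : 𝒳.p.IsHomLift (𝟙 T) θ) :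
    ∃ θ' : (chObj c b').1 ⟶ (chObj x a').1, 𝒳.p.IsHomLift (𝟙 T') θ' ∧
      θ' ≫ chMap x l ha = chMap c l hb ≫ θ := by
  haveI := hθ
  obtain ⟨χ, h, -⟩ := exists_fac hX (𝟙 T') (Category.id_comp l) (chMap x l ha) inferInstance (chMap c l hb ≫ θ)
    inferInstance
  exact ⟨χ, h⟩

theorem restrict_trans (hX : IsFibGrpd 𝒳.p) {c : overCat V ⥤ᵇ 𝒳} {x : overCat U ⥤ᵇ 𝒳} {T₂ T₁ T : Over S}
    {l₁ : T₁ ⟶ T} {l₂ : T₂ ⟶ T} {l₃ : T₂ ⟶ T₁} (hl : l₃ ≫ l₁ = l₂) {b : T ⟶ V} {a : T ⟶ U} {b₁ : T₁ ⟶ V} {a₁ : T₁ ⟶ U}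
    {b₂ : T₂ ⟶ V} {a₂ : T₂ ⟶ U} (hb₁ : l₁ ≫ b = b₁) (ha₁ : l₁ ≫ a = a₁) (hb₂ : l₂ ≫ b = b₂) (ha₂ : l₂ ≫ a = a₂)
    (hb₃ : l₃ ≫ b₁ = b₂) (ha₃ : l₃ ≫ a₁ = a₂) {θ : (chObj c b).1 ⟶ (chObj x a).1}
    {θ₁ : (chObj c b₁).1 ⟶ (chObj x a₁).1} (hθ₁ : 𝒳.p.IsHomLift (𝟙 T₁) θ₁)
    {θ₂ : (chObj c b₂).1 ⟶ (chObj x a₂).1} (hθ₂ : 𝒳.p.IsHomLift (𝟙 T₂) θ₂)
    (e₁ : θ₁ ≫ chMap x l₁ ha₁ = chMap c l₁ hb₁ ≫ θ) (e₂ : θ₂ ≫ chMap x l₂ ha₂ = chMap c l₂ hb₂ ≫ θ) :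
    θ₂ ≫ chMap x l₃ ha₃ = chMap c l₃ hb₃ ≫ θ₁ := by
  haveI := hθ₁
  haveI := hθ₂
  refine chMap_cancel hX x ha₁ (j := l₃) inferInstance inferInstance ?_
  rw [Category.assoc, Category.assoc, chMap_comp x l₃ l₁ ha₃ ha₁ l₂ hl ha₂, e₁, e₂, ← Category.assoc,
    chMap_comp c l₃ l₁ hb₃ hb₁ l₂ hl hb₂]

section Pair

variable {F : AlgSp.Sp S} {c : overCat V ⥤ᵇ 𝒳} {x : overCat U ⥤ᵇ 𝒳} {e : ofSp F ⥤ᵇ fp c x}

theorem exists_mkObj (hX : IsFibGrpd 𝒳.p) {T : Over S} (s : (AlgSp.yon S).obj T ⟶ F) :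
    ∃ (b : T ⟶ V) (a : T ⟶ U) (θ : (chObj c b).1 ⟶ (chObj x a).1) (hθ : 𝒳.p.IsHomLift (𝟙 T) θ)
      (k : e.obj (secObj s) ⟶ mkObj hX x b a θ hθ), (fp c x).p.IsHomLift (𝟙 T) k := by
  let o := e.obj (secObj s)
  have ho₁ : o.obj.fst.left = T := e.w_obj (secObj s)
  have ho₂ : o.obj.snd.left = T := ((fpSnd c x).w_obj o).trans ho₁
  let b : T ⟶ V := eqToHom ho₁.symm ≫ o.obj.fst.hom
  let a : T ⟶ U := eqToHom ho₂.symm ≫ o.obj.snd.hom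
  let K : o.obj.fst ⟶ Over.mk b := Over.homMk (eqToHom ho₁) (by simp [b])
  let K' : Over.mk b ⟶ o.obj.fst := Over.homMk (eqToHom ho₁.symm) rfl
  let J : o.obj.snd ⟶ Over.mk a := Over.homMk (eqToHom ho₂) (by simp [a])
  let θ : (chObj c b).1 ⟶ (chObj x a).1 := c.map K' ≫ o.obj.iso.hom ≫ x.map J
  have hθ : 𝒳.p.IsHomLift (𝟙 T) θ := by
    refine IsHomLift.of_fac' 𝒳.p (𝟙 T) _ (chObj c b).2 (chObj x a).2 ?_
    simp only [θ, Functor.map_comp]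
    rw [p_map_eq, p_map_eq, show (overCat U).p.map J = eqToHom ho₂ from rfl,
      show (overCat V).p.map K' = eqToHom ho₁.symm from rfl]
    simp [fp_iso_map]
  refine ⟨b, a, θ, hθ, fpHom (x := o) (y := mkObj hX x b a θ hθ) K J ?_, ?_⟩
  · show c.map K ≫ θ = o.obj.iso.hom ≫ x.map J
    simp only [θ]
    rw [← Category.assoc, ← Functor.map_comp, show K ≫ K' = 𝟙 _ from Over.OverMorphism.ext (by
      change eqToHom ho₁ ≫ eqToHom ho₁.symm = 𝟙 _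
      simp)]
    simp
  · exact IsHomLift.of_fac' (fp c x).p (𝟙 T) _ ho₁ rfl (by
      show K.left = _
      simp [K])

/-- Morphisms of such objects. -/
theorem exists_mkHom (hX : IsFibGrpd 𝒳.p) {T' T : Over S} (l : T' ⟶ T) {b : T ⟶ V} {a : T ⟶ U} {b' : T' ⟶ V}
    {a' : T' ⟶ U} (hb : l ≫ b = b') (ha : l ≫ a = a') {θ : (chObj c b).1 ⟶ (chObj x a).1}
    (hθ : 𝒳.p.IsHomLift (𝟙 T) θ) {θ' : (chObj c b').1 ⟶ (chObj x a').1} (hθ' : 𝒳.p.IsHomLift (𝟙 T') θ')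
    (he : θ' ≫ chMap x l ha = chMap c l hb ≫ θ) :
    ∃ m : mkObj hX x b' a' θ' hθ' ⟶ mkObj hX x b a θ hθ, (fp c x).p.IsHomLift l m := by
  refine ⟨fpHom (x := mkObj hX x b' a' θ' hθ') (y := mkObj hX x b a θ hθ) (Over.homMk l hb) (Over.homMk l ha)
    he.symm, IsHomLift.of_fac' (fp c x).p l _ rfl rfl ?_⟩
  show l = _
  simp

/-- The data of a restricted section. -/
theorem mk_natural (hX : IsFibGrpd 𝒳.p) {T' T : Over S} {l : T' ⟶ T} {s' : (AlgSp.yon S).obj T' ⟶ F}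
    {s : (AlgSp.yon S).obj T ⟶ F} (hl : (AlgSp.yon S).map l ≫ s = s') {b : T ⟶ V} {a : T ⟶ U}
    {θ : (chObj c b).1 ⟶ (chObj x a).1} {hθ : 𝒳.p.IsHomLift (𝟙 T) θ}
    (k : e.obj (secObj s) ⟶ mkObj hX x b a θ hθ) (hk : (fp c x).p.IsHomLift (𝟙 T) k)
    {b' : T' ⟶ V} {a' : T' ⟶ U} {θ' : (chObj c b').1 ⟶ (chObj x a').1} {hθ' : 𝒳.p.IsHomLift (𝟙 T') θ'}
    (k' : e.obj (secObj s') ⟶ mkObj hX x b' a' θ' hθ') (hk' : (fp c x).p.IsHomLift (𝟙 T') k') :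
    ∃ (hb : l ≫ b = b') (ha : l ≫ a = a'), θ' ≫ chMap x l ha = chMap c l hb ≫ θ := by
  subst hl
  have hP : IsFibGrpd (fp c x).p := isFibGrpd_fp (isFibGrpd_overCat V) (isFibGrpd_overCat U) hX c x
  obtain ⟨r, hr⟩ := exists_res (P := fp c x) (e := e) l s
  haveI := hr
  haveI := hk
  haveI := hk'
  haveI := fg_isIso_of_lift_id hP k' T'
  let q : mkObj hX x b' a' θ' hθ' ⟶ mkObj hX x b a θ hθ := inv k' ≫ r ≫ k
  haveI hq : (fp c x).p.IsHomLift l q := by dsimp only [q]; infer_instance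
  have hq₁ : q.hom.fst.left = l := by
    have h : q.hom.fst.left = _ := IsHomLift.fac' (fp c x).p l q
    exact h.trans (by simp)
  have hq₂ : q.hom.snd.left = l := by
    refine (p_map_eq (fpSnd c x) q).trans ?_
    change _ ≫ q.hom.fst.left ≫ _ = _
    rw [hq₁]; simp
    exact Category.comp_id l
  have hb : l ≫ b = b' := by
    have h := Over.w q.hom.fst
    rw [hq₁] at h; exact h
  have ha : l ≫ a = a' := by
    have h := Over.w q.hom.snd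
    rw [hq₂] at h; exact h
  refine ⟨hb, ha, ?_⟩
  have h1 : x.map q.hom.snd = chMap x l ha := congrArg x.map (Over.OverMorphism.ext hq₂)
  have h2 : c.map q.hom.fst = chMap c l hb := congrArg c.map (Over.OverMorphism.ext hq₁)
  rw [← h1, ← h2]
  exact q.hom.w.symm

theorem mk_proj (hX : IsFibGrpd 𝒳.p) {T : Over S} (s : (AlgSp.yon S).obj T ⟶ F) {b : T ⟶ V} {a : T ⟶ U}
    {θ : (chObj c b).1 ⟶ (chObj x a).1} {hθ : 𝒳.p.IsHomLift (𝟙 T) θ}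
    (k : e.obj (secObj s) ⟶ mkObj hX x b a θ hθ) (hk : (fp c x).p.IsHomLift (𝟙 T) k) :
    s ≫ spMapOfOver (BasedFunctor.comp e (fpFst c x)) = (AlgSp.yon S).map b :=
  (sec_proj e s (mkObj hX x b a θ hθ) rfl k hk).trans (congrArg _ (Category.id_comp b))

end Pair

section Inert

variable {F : AlgSp.Sp S} {c : overCat V ⥤ᵇ 𝒳} {e : ofSp F ⥤ᵇ fp c (inertiaToBase (toSelf 𝒳))}

/-- An object of the inertia over a chart. -/
noncomputable def mkInert (hX : IsFibGrpd 𝒳.p) (c : overCat V ⥤ᵇ 𝒳) {T : Over S} (h : T ⟶ V)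
    (σ : (chObj c h).1 ⟶ (chObj c h).1) (hσ : 𝒳.p.IsHomLift (𝟙 T) σ) :
    (fp c (inertiaToBase (toSelf 𝒳))).obj :=
  haveI := hσ
  haveI := fg_isIso_of_lift_id hX σ T
  ⟨{ fst := Over.mk h
     snd := { pt := (chObj c h).1
              aut := asIso σ
              map_aut := (IsHomLift.fac' 𝒳.p (𝟙 T) σ).trans (by simp; rfl) }
     iso := Iso.refl _ }, map_eqToHom_lift (c.w_obj (Over.mk h))⟩

theorem exists_mkInert (hX : IsFibGrpd 𝒳.p) {T : Over S} (s : (AlgSp.yon S).obj T ⟶ F) :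
    ∃ (h : T ⟶ V) (σ : (chObj c h).1 ⟶ (chObj c h).1) (hσ : 𝒳.p.IsHomLift (𝟙 T) σ)
      (k : e.obj (secObj s) ⟶ mkInert hX c h σ hσ),
      (fp c (inertiaToBase (toSelf 𝒳))).p.IsHomLift (𝟙 T) k := by
  let o := e.obj (secObj s)
  have ho₁ : o.obj.fst.left = T := e.w_obj (secObj s)
  let h : T ⟶ V := eqToHom ho₁.symm ≫ o.obj.fst.hom
  let K : o.obj.fst ≅ Over.mk h := Over.isoMk (eqToIso ho₁) (by simp [h])
  let τ : (chObj c h).1 ≅ o.obj.snd.pt := c.toFunctor.mapIso K.symm ≪≫ o.obj.iso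
  let σ : (chObj c h).1 ⟶ (chObj c h).1 := τ.hom ≫ o.obj.snd.aut.hom ≫ τ.inv
  have hσ : 𝒳.p.IsHomLift (𝟙 T) σ := by
    refine IsHomLift.of_fac' 𝒳.p (𝟙 T) _ (chObj c h).2 (chObj c h).2 ?_
    have ha : 𝒳.p.map o.obj.snd.aut.hom = 𝟙 _ := o.obj.snd.map_aut
    simp only [σ, Functor.map_comp, ha]
    rw [show 𝒳.p.map τ.inv = inv (𝒳.p.map τ.hom) by rw [← Functor.map_inv]; simp]
    erw [Category.id_comp]
    simp
  refine ⟨h, σ, hσ, fpHom (x := o) (y := mkInert hX c h σ hσ) K.hom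
    (⟨τ.inv, ?_⟩ : o.obj.snd ⟶ (mkInert hX c h σ hσ).obj.snd) ?_, ?_⟩
  · show o.obj.snd.aut.hom ≫ τ.inv = τ.inv ≫ σ
    simp [σ]
  · show c.map K.hom ≫ 𝟙 _ = o.obj.iso.hom ≫ τ.inv
    rw [Category.comp_id]
    simp [τ]
  · exact IsHomLift.of_fac' (fp c (inertiaToBase (toSelf 𝒳))).p (𝟙 T) _ ho₁ rfl (by
      show K.hom.left = _
      simp [K])

theorem inert_natural (hX : IsFibGrpd 𝒳.p) (hP : IsFibGrpd (fp c (inertiaToBase (toSelf 𝒳))).p) {T' T : Over S}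
    {l : T' ⟶ T} {s' : (AlgSp.yon S).obj T' ⟶ F} {s : (AlgSp.yon S).obj T ⟶ F}
    (hl : (AlgSp.yon S).map l ≫ s = s') {h : T ⟶ V} {σ : (chObj c h).1 ⟶ (chObj c h).1}
    {hσ : 𝒳.p.IsHomLift (𝟙 T) σ} (k : e.obj (secObj s) ⟶ mkInert hX c h σ hσ)
    (hk : (fp c (inertiaToBase (toSelf 𝒳))).p.IsHomLift (𝟙 T) k) {h' : T' ⟶ V}
    {σ' : (chObj c h').1 ⟶ (chObj c h').1} {hσ' : 𝒳.p.IsHomLift (𝟙 T') σ'}
    (k' : e.obj (secObj s') ⟶ mkInert hX c h' σ' hσ')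
    (hk' : (fp c (inertiaToBase (toSelf 𝒳))).p.IsHomLift (𝟙 T') k') :
    ∃ hh : l ≫ h = h', σ' ≫ chMap c l hh = chMap c l hh ≫ σ := by
  subst hl
  obtain ⟨r, hr⟩ := exists_res (P := fp c (inertiaToBase (toSelf 𝒳))) (e := e) l s
  haveI := hr
  haveI := hk
  haveI := hk'
  haveI := fg_isIso_of_lift_id hP k' T'
  let q : mkInert hX c h' σ' hσ' ⟶ mkInert hX c h σ hσ := inv k' ≫ r ≫ k
  haveI hq : (fp c (inertiaToBase (toSelf 𝒳))).p.IsHomLift l q := by dsimp only [q]; infer_instance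
  have hq₁ : q.hom.fst.left = l := by
    have h : q.hom.fst.left = _ := IsHomLift.fac' (fp c (inertiaToBase (toSelf 𝒳))).p l q
    exact h.trans (by simp)
  have hh : l ≫ h = h' := by
    have h := Over.w q.hom.fst
    rw [hq₁] at h; exact h
  refine ⟨hh, ?_⟩
  have h1 : c.map q.hom.fst = chMap c l hh := congrArg c.map (Over.OverMorphism.ext hq₁)
  have h2 : q.hom.snd.hom = c.map q.hom.fst :=
    ((Category.id_comp q.hom.snd.hom).symm.trans q.hom.w.symm).trans (Category.comp_id _)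
  rw [← h1, ← h2]
  exact q.hom.snd.comm

end Inert

end Groth.Agent.IsoNat97
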