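import Groth.Agent.IsoNat97.Spread
import Groth.Agent.IsoNat97.Forms
import Groth.Agent.IsoNat97.AutSep
import Groth.Agent.AlgSt88.LocPSt
import Groth.Agent.AlgSt88.SepQs

/-! Properness of the inertia through valuation rings doubled along open subsets. -/

set_option autoImplicit false
set_option linter.unusedVariables false
set_option linter.style.haveILetI false
set_option backward.isDefEq.respectTransparency false
set_option backward.isDefEq.respectTransparency.types false
universe u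

open CategoryTheory CategoryTheory.Limits AlgebraicGeometry Opposite AlgSt FibCat

namespace Groth.Agent.IsoNat97

open AlgSt88 IsoNat

variable {S : Scheme.{u}} {𝒳 𝒴 : AlgSt.Cat S}

/-- Extending automorphisms from an open subscheme is detected by isomorphism classes. -/
theorem extend_autT_of_corr (h𝒳 : Stk.IsStack (AlgSp.J S) 𝒳) (h𝒴 : Stk.IsStack (AlgSp.J S) 𝒴) (φ : FIso 𝒳 𝒴)
    {U : Over S} {x : overCat U ⥤ᵇ 𝒳} {y : overCat U ⥤ᵇ 𝒴} (hxy : φ.toEquiv U (objCls x) = objCls y)
    {O C : Over S} (o : O ⟶ C) [IsOpenImmersion o.left] (t : C ⟶ U)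
    (h : ∀ τ : AutT x (o ≫ t), ∃ g : AutT x t, IsRestr o τ g) (σ : AutT y (o ≫ t)) :
    ∃ g : AutT y t, IsRestr o σ g := by
  have hX := h𝒳.1
  have hY := h𝒴.1
  let ψ := symm hX hY φ
  have hyx : ψ.toEquiv U (objCls y) = objCls x := (Equiv.symm_apply_eq _).2 hxy.symm
  obtain ⟨D, ⟨d⟩⟩ := exists_doubling o
  obtain ⟨η, ⟨T⟩⟩ := exists_triv h𝒴 y d t rfl σ
  obtain ⟨ξ, hξ⟩ := cls_surjective 𝒳 D (ψ.toEquiv D (cls η))
  obtain ⟨τ, ⟨T'⟩⟩ := exists_triv_of_isForm hX (t := t) rfl (isForm_corr hY hX ψ hyx hξ.symm T.isForm)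
  obtain ⟨π, hπ⟩ := d.exists_desc t
  obtain ⟨T₀⟩ : Nonempty (Triv x d t rfl (chObj x π) (AutT.one : AutT x (o ≫ t))) := by
    refine ⟨⟨fun c => chMap x (d.c c) (hπ c), fun c => inferInstance, ?_⟩⟩
    have hc : (o ≫ d.c false) ≫ π = o ≫ t := by rw [Category.assoc, hπ]
    show 𝟙 _ ≫ _ = _
    rw [Category.id_comp, chMap_comp x o (d.c true) rfl (hπ true) (o ≫ d.c false) d.agree.symm hc,
      chMap_comp x o (d.c false) rfl (hπ false) (o ≫ d.c false) rfl hc]
  obtain ⟨S₀⟩ : Nonempty (Triv y d t rfl (chObj y π) (AutT.one : AutT y (o ≫ t))) := by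
    refine ⟨⟨fun c => chMap y (d.c c) (hπ c), fun c => inferInstance, ?_⟩⟩
    have hc : (o ≫ d.c false) ≫ π = o ≫ t := by rw [Category.assoc, hπ]
    show 𝟙 _ ≫ _ = _
    rw [Category.id_comp, chMap_comp y o (d.c true) rfl (hπ true) (o ≫ d.c false) d.agree.symm hc,
      chMap_comp y o (d.c false) rfl (hπ false) (o ≫ d.c false) rfl hc]
  obtain ⟨g, hg⟩ := h τ
  obtain ⟨i⟩ := iso_of_rel h𝒳 T' T₀ (fun c => bif c then g.inv hX else AutT.one)
    (fun c => bif c then τ.inv hX else AutT.one) (fun c => by cases c; exacts [IsRestr.one rfl, hg.inv hX]) (by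
      show τ.mul (τ.inv hX) = AutT.one.mul AutT.one
      rw [AutT.mul_inv, AutT.one_mul'])
  have hcl : cls η = cls (chObj y π) := by
    apply (ψ.toEquiv D).injective
    rw [← hξ, cls_eq_iff.2 ⟨i⟩, corr_chObj hX ψ hyx π]
  obtain ⟨j⟩ := cls_eq_iff.1 hcl
  obtain ⟨G, r, hr, hrel⟩ := rel_of_hom hY T S₀ j.hom.1 j.hom.2
  refine ⟨(G false).mul ((G true).inv hY), ?_⟩
  have e : σ = (r false).mul ((r true).inv hY) := by
    rw [AutT.mul_one'] at hrel
    rw [← hrel, AutT.mul_assoc', AutT.mul_inv, AutT.mul_one']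
  rw [e]
  exact IsRestr.mul (hr false) ((hr true).inv hY)

/-- Automorphisms extend from a basic open of a valuation ring when the inertia is proper. -/
theorem extend_autT_of_proper (hX : IsFibGrpd 𝒳.p)
    (hpr : RepByAlgSpWith AlgSp.IsProperMor (inertiaToBase (toSelf 𝒳)))
    {U : Over S} (x : overCat U ⥤ᵇ 𝒳) {R K : Type u} [CommRing R] [IsDomain R] [ValuationRing R] [Field K]
    [Algebra R K] [IsFractionRing R K] (f : R) (ι : Localization.Away f →+* K)
    (hι : ι.comp (algebraMap R (Localization.Away f)) = algebraMap R K) (hinj : Function.Injective ι)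
    (str : Spec (CommRingCat.of R) ⟶ S) (t : Over.mk str ⟶ U)
    (τ : AutT x ((Over.homMk (Spec.map (CommRingCat.ofHom (algebraMap R (Localization.Away f)))) rfl :
      Over.mk (Spec.map (CommRingCat.ofHom (algebraMap R (Localization.Away f))) ≫ str) ⟶ Over.mk str) ≫ t)) :
    ∃ g : AutT x t, IsRestr (Over.homMk (Spec.map (CommRingCat.ofHom (algebraMap R (Localization.Away f)))) rfl :
      Over.mk (Spec.map (CommRingCat.ofHom (algebraMap R (Localization.Away f))) ≫ str) ⟶ Over.mk str) τ g := by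
  have hXs : RepByAlgSpWith AlgSp.IsSeparatedMor (inertiaToBase (toSelf 𝒳)) :=
    repByAlgSpWith_mono (fun _ _ _ h => h.1) hpr
  obtain ⟨F, e, he, hπ⟩ := hpr U x
  let PK : Over S := Over.mk (Spec.map (CommRingCat.ofHom (algebraMap R K)) ≫ str)
  let PF : Over S := Over.mk (Spec.map (CommRingCat.ofHom (algebraMap R (Localization.Away f))) ≫ str)
  let jK : PK ⟶ Over.mk str := Over.homMk (Spec.map (CommRingCat.ofHom (algebraMap R K))) rfl
  let jF : PF ⟶ Over.mk str := Over.homMk (Spec.map (CommRingCat.ofHom (algebraMap R (Localization.Away f)))) rfl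
  let i : PK ⟶ PF := Over.homMk (Spec.map (CommRingCat.ofHom ι)) (by
    show Spec.map _ ≫ Spec.map _ ≫ str = Spec.map _ ≫ str
    rw [← Spec.map_comp_assoc, ← CommRingCat.ofHom_comp, hι])
  have hi : i ≫ jF = jK := Over.OverMorphism.ext (by
    show Spec.map _ ≫ Spec.map _ = Spec.map _
    rw [← Spec.map_comp, ← CommRingCat.ofHom_comp, hι])
  obtain ⟨τK, hτK⟩ := IsRestr.exists_of hX (by rw [← Category.assoc, hi] : i ≫ jF ≫ t = jK ≫ t) τ
  let q : AlgSp.ValSq (spMapOfOver (BasedFunctor.comp e (fpFst x (inertiaToBase (toSelf 𝒳))))) :=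
    { A := R, K := K, str := str, top := autSec hX he τK, bot := (AlgSp.yon S).map t,
      comm := (autSec_proj hX he τK).trans ((AlgSp.yon S).map_comp _ _) }
  have hsep := hπ.1
  have hqs : AlgSp.IsQuasiSeparatedMor (spMapOfOver (BasedFunctor.comp e (fpFst x (inertiaToBase (toSelf 𝒳))))) :=
    SpPts86.repWith_mono (fun _ _ g hg => by haveI := hg; infer_instance) hsep
  obtain ⟨l, hl1, hl2⟩ := (SpPts86.existVC_iff_strict_of_separated F.property (AlgSp.IsAlgSpace.yon_obj U) hsep).1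
    (SpPts86.existVC_of_univClosed F.property (AlgSp.IsAlgSpace.yon_obj U) hqs hπ.2.2) q
  obtain ⟨g, hg⟩ := exists_autSec_eq hX he l hl2
  obtain ⟨τ', hτ'⟩ := IsRestr.exists_of hX (rfl : jF ≫ t = _) g
  refine ⟨g, ?_⟩
  have hK : IsRestr jK τK g := isRestr_of_autSec hX he (by rw [hg]; exact hl1)
  obtain ⟨c, hc⟩ := IsRestr.exists_of hX (by rw [← Category.assoc, hi] : i ≫ jF ≫ t = jK ≫ t) τ'
  obtain rfl := IsRestr.unique hX (hc.trans hτ' hi) hK
  haveI : IsAffine PF.left := inferInstanceAs (IsAffine (Spec _))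
  have hi' : Function.Injective i.left.appTop := by
    intro a b hab
    apply (Scheme.ΓSpecIso (CommRingCat.of (Localization.Away f))).commRingCatIsoToRingEquiv.injective
    apply hinj
    have h := congrArg (fun f => f.hom a) (Scheme.ΓSpecIso_naturality (CommRingCat.ofHom ι))
    have h' := congrArg (fun f => f.hom b) (Scheme.ΓSpecIso_naturality (CommRingCat.ofHom ι))
    exact h.symm.trans ((congrArg _ hab).trans h')
  obtain rfl := autT_eq_of_dense hX hXs i hi' hτK hc
  exact hτ'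

/-- Properness of the inertia is detected by isomorphism classes. -/
theorem properInertia_of_corr (h𝒳 : Stk.IsStack (AlgSp.J S) 𝒳) (h𝒴 : Stk.IsStack (AlgSp.J S) 𝒴)
    (h𝒴d : RepByAlgSpWith (AlgSp.IsSeparatedMor ⊓ AlgSp.IsQuasiCompactMor) (FibCat.diag (FibCat.toSelf 𝒴)))
    (h𝒴i : RepByAlgSpWith (AlgSp.LocP @LocallyOfFinitePresentation) (inertiaToBase (toSelf 𝒴))) (φ : FIso 𝒳 𝒴)
    (hpr : RepByAlgSpWith AlgSp.IsProperMor (inertiaToBase (toSelf 𝒳))) :
    RepByAlgSpWith AlgSp.IsProperMor (inertiaToBase (toSelf 𝒴)) := by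
  intro U y
  have hX := h𝒳.1
  have hY := h𝒴.1
  haveI : (AlgSp.LocP (S := S) @LocallyOfFinitePresentation).RespectsIso := respectsIso_locP _
  obtain ⟨F, e, he, hlfp, hsep, hqc⟩ :=
    repByAlgSpWith_inf h𝒴i (repByAlgSpWith_inertiaToBase hY (toSelf 𝒴) h𝒴d) U y
  have hlft : AlgSp.LocP @LocallyOfFiniteType (spMapOfOver (BasedFunctor.comp e (fpFst y (inertiaToBase (toSelf 𝒴))))) :=
    fun U V a b h ha hb w => by haveI := hlfp a b h ha hb w; infer_instance
  refine ⟨F, e, he, hsep, ⟨hlft, hqc⟩, SpPts86.isUnivClosedMor_of_existVC hqc fun sq => ?_⟩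
  obtain ⟨b, hb⟩ := (AlgSp.yon S).map_surjective sq.bot
  obtain ⟨e', f, hf, ι, hι, sF, hsF, hsK⟩ := exists_spread F.property hlft sq hb
  refine ⟨e', ?_⟩
  let jφ : e'.ptA' ⟶ sq.ptA := Over.homMk (Spec.map (CommRingCat.ofHom e'.φ)) rfl
  obtain ⟨σ, hσ⟩ := exists_autSec_eq hY he sF hsF
  have hinj : Function.Injective ι := by
    have hu : IsUnit (algebraMap e'.A' e'.K' f) := by
      rw [isUnit_iff_ne_zero]
      exact fun h0 => hf (IsFractionRing.injective e'.A' e'.K' (by rw [h0, map_zero]))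
    have hιe : ι = IsLocalization.Away.lift f hu :=
      IsLocalization.ringHom_ext (Submonoid.powers f) (hι.trans (IsLocalization.Away.lift_comp _ _).symm)
    rw [hιe]
    exact IsLocalization.lift_injective_iff _ |>.2 fun a c => by
      constructor
      · intro hac
        exact congrArg _ (IsLocalization.injective (Localization.Away f)
          (Submonoid.powers_le.2 (mem_nonZeroDivisors_of_ne_zero hf)) hac)
      · intro hac
        rw [IsFractionRing.injective e'.A' e'.K' hac]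
  obtain ⟨x, hx⟩ := exists_corr hX (symm hX hY φ) y
  have hxy : φ.toEquiv U (objCls x) = objCls y := by rw [← hx]; exact Equiv.apply_symm_apply _ _
  haveI : IsOpenImmersion (Over.homMk (Spec.map (CommRingCat.ofHom (algebraMap e'.A' (Localization.Away f)))) rfl :
      Over.mk (Spec.map (CommRingCat.ofHom (algebraMap e'.A' (Localization.Away f))) ≫ e'.ptA'.hom) ⟶ e'.ptA').left :=
    IsOpenImmersion.of_isLocalization f
  obtain ⟨g, hg⟩ := extend_autT_of_corr h𝒳 h𝒴 φ hxy
    (Over.homMk (Spec.map (CommRingCat.ofHom (algebraMap e'.A' (Localization.Away f)))) rfl :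
      Over.mk (Spec.map (CommRingCat.ofHom (algebraMap e'.A' (Localization.Away f))) ≫ e'.ptA'.hom) ⟶ e'.ptA')
    (jφ ≫ b) (extend_autT_of_proper hX hpr x f ι hι hinj e'.ptA'.hom (jφ ≫ b)) σ
  refine ⟨autSec hY he g, ?_, ?_⟩
  · let i : e'.ptK' ⟶ Over.mk (Spec.map (CommRingCat.ofHom (algebraMap e'.A' (Localization.Away f))) ≫ e'.ptA'.hom) :=
      Over.homMk (Spec.map (CommRingCat.ofHom ι)) (by
        show Spec.map _ ≫ Spec.map _ ≫ e'.ptA'.hom = Spec.map _ ≫ e'.ptA'.hom
        rw [← Spec.map_comp_assoc, ← CommRingCat.ofHom_comp, hι])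
    refine Eq.trans ?_ (hsK i _ rfl rfl)
    rw [← hσ, ← autSec_restr hY he hg, ← Category.assoc, ← Functor.map_comp]
    congr 2
    exact Over.OverMorphism.ext (by
      show Spec.map _ = Spec.map _ ≫ Spec.map _
      rw [← Spec.map_comp, ← CommRingCat.ofHom_comp, hι])
  · rw [autSec_proj, Functor.map_comp, hb]

end Groth.Agent.IsoNat97
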