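import Groth.Agent.IsoNat97.ExtHom
import Groth.Agent.IsoNat97.Sec
import Groth.Agent.IsoNat97.ValInertia

/-! The space of isomorphisms with given image, and its valuative criterion. -/

set_option autoImplicit false
set_option linter.unusedVariables false
set_option linter.style.haveILetI false
set_option backward.isDefEq.respectTransparency false
set_option backward.isDefEq.respectTransparency.types false
universe u

open CategoryTheory CategoryTheory.Limits AlgebraicGeometry Opposite AlgSt FibCat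

namespace Groth.Agent.IsoNat97

open AlgSt88 IsoNat

variable {S : Scheme.{u}} {𝒳 𝒴 : AlgSt.Cat S} {f : 𝒳 ⥤ᵇ 𝒴} {U : Over S} {y : overCat U ⥤ᵇ fp f f}

theorem isFibGrpd_diagFp (hX : IsFibGrpd 𝒳.p) (hY : IsFibGrpd 𝒴.p) (y : overCat U ⥤ᵇ fp f f) :
    IsFibGrpd (fp y (FibCat.diag f)).p :=
  isFibGrpd_fp (isFibGrpd_overCat U) hX (isFibGrpd_fp hX hX hY f f) y _

/-- The point given by an object and an isomorphism with a chart object. -/
noncomputable def diagObj (hX : IsFibGrpd 𝒳.p) (hY : IsFibGrpd 𝒴.p) {T : Over S} (t : T ⟶ U) (x : 𝒳.p.Fiber T)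
    (b : (FibCat.diag f).obj x.1 ⟶ (chObj y t).1) (hb : (fp f f).p.IsHomLift (𝟙 T) b) :
    (fp y (FibCat.diag f)).obj :=
  haveI := hb
  haveI : IsIso b := fg_isIso_of_lift_id (isFibGrpd_fp hX hX hY f f) b T
  ⟨{ fst := Over.mk t, snd := x.1, iso := (asIso b).symm }, show (fp f f).p.IsHomLift (𝟙 T) (CategoryTheory.inv b) from inferInstance⟩

variable {F : AlgSp.Sp S} {e : ofSp F ⥤ᵇ fp y (FibCat.diag f)}

theorem exists_sec_mk (hX : IsFibGrpd 𝒳.p) (hY : IsFibGrpd 𝒴.p) (he : IsEquivOver e) {T : Over S} (t : T ⟶ U)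
    (x : 𝒳.p.Fiber T) (b : (FibCat.diag f).obj x.1 ⟶ (chObj y t).1) (hb : (fp f f).p.IsHomLift (𝟙 T) b) :
    ∃ (s : (AlgSp.yon S).obj T ⟶ F) (k : e.obj (secObj s) ⟶ diagObj hX hY t x b hb),
      (fp y (FibCat.diag f)).p.IsHomLift (𝟙 T) k ∧
        s ≫ spMapOfOver (BasedFunctor.comp e (fpFst y (FibCat.diag f))) = (AlgSp.yon S).map t := by
  obtain ⟨s, k, hk⟩ := exists_sec (P := fp y (FibCat.diag f)) he (diagObj hX hY t x b hb) rfl
  refine ⟨s, k, hk, (sec_proj e s _ rfl k hk).trans ?_⟩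
  exact congrArg _ (Category.id_comp t)

theorem exists_pt_of_sec (hX : IsFibGrpd 𝒳.p) (hY : IsFibGrpd 𝒴.p) {T : Over S} {t : T ⟶ U}
    (s : (AlgSp.yon S).obj T ⟶ F)
    (ht : s ≫ spMapOfOver (BasedFunctor.comp e (fpFst y (FibCat.diag f))) = (AlgSp.yon S).map t) :
    ∃ (x : 𝒳.p.Fiber T) (b : (FibCat.diag f).obj x.1 ⟶ (chObj y t).1) (hb : (fp f f).p.IsHomLift (𝟙 T) b)
      (k : e.obj (secObj s) ⟶ diagObj hX hY t x b hb), (fp y (FibCat.diag f)).p.IsHomLift (𝟙 T) k := by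
  have key : ∀ (ob : (fp y (FibCat.diag f)).obj) (ho : ob.obj.fst.left = T),
      eqToHom ho.symm ≫ ob.obj.fst.hom = t →
      ∃ (x : 𝒳.p.Fiber T) (b : (FibCat.diag f).obj x.1 ⟶ (chObj y t).1) (hb : (fp f f).p.IsHomLift (𝟙 T) b)
        (k : ob ⟶ diagObj hX hY t x b hb), (fp y (FibCat.diag f)).p.IsHomLift (𝟙 T) k := by
    rintro ⟨⟨a, x, i⟩, hi⟩ ho hh
    obtain ⟨T₀, ⟨⟨⟩⟩, h₀⟩ := a
    change T₀ = T at ho
    subst ho
    obtain rfl : h₀ = t := (Category.id_comp h₀).symm.trans hh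
    haveI : (fp f f).p.IsHomLift (𝟙 T₀) i.hom := hi
    have hx : 𝒳.p.obj x = T₀ :=
      (fpSnd y (FibCat.diag f)).w_obj ⟨⟨Over.mk h₀, x, i⟩, hi⟩
    have hb : (fp f f).p.IsHomLift (𝟙 T₀) i.inv := IsHomLift.lift_id_inv _ _ _
    refine ⟨⟨x, hx⟩, i.inv, hb, (fpObjIso (F := y) (G := FibCat.diag f)
      (x := ⟨⟨Over.mk h₀, x, i⟩, hi⟩) (y := diagObj hX hY h₀ ⟨x, hx⟩ i.inv hb) (Iso.refl (Over.mk h₀)) (Iso.refl x) ?_).hom,
      fp_isHomLift _ (IsHomLift.id rfl)⟩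
    show y.map (𝟙 _) ≫ _ = i.hom ≫ (FibCat.diag f).map (𝟙 x)
    rw [AlgSt88.map_id' y, AlgSt88.map_id' (FibCat.diag f), Category.id_comp, Category.comp_id]
    show CategoryTheory.inv i.inv = i.hom
    exact IsIso.inv_eq_of_hom_inv_id i.inv_hom_id
  refine key _ (e.w_obj (secObj s)) ?_
  refine (AlgSp.yon S).map_injective ((sec_proj e s _ (e.w_obj (secObj s)) (𝟙 _) ?_).symm.trans ht)
  exact IsHomLift.id (e.w_obj (secObj s))

theorem sec_eq_of_map (hX : IsFibGrpd 𝒳.p) (hY : IsFibGrpd 𝒴.p) (he : IsEquivOver e) {T' T : Over S} (g : T' ⟶ T)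
    {t' : T' ⟶ U} {t : T ⟶ U} (hg : g ≫ t = t') {x' : 𝒳.p.Fiber T'} {x : 𝒳.p.Fiber T}
    {b' : (FibCat.diag f).obj x'.1 ⟶ (chObj y t').1} {hb' : (fp f f).p.IsHomLift (𝟙 T') b'}
    {b : (FibCat.diag f).obj x.1 ⟶ (chObj y t).1} {hb : (fp f f).p.IsHomLift (𝟙 T) b}
    {s' : (AlgSp.yon S).obj T' ⟶ F} (k' : e.obj (secObj s') ⟶ diagObj hX hY t' x' b' hb')
    (hk' : (fp y (FibCat.diag f)).p.IsHomLift (𝟙 T') k') {s : (AlgSp.yon S).obj T ⟶ F}
    (k : e.obj (secObj s) ⟶ diagObj hX hY t x b hb) (hk : (fp y (FibCat.diag f)).p.IsHomLift (𝟙 T) k)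
    (m : x'.1 ⟶ x.1) (hm : (FibCat.diag f).map m ≫ b = b' ≫ chMap y g hg) : (AlgSp.yon S).map g ≫ s = s' := by
  haveI := hb
  haveI := hb'
  haveI : IsIso b := fg_isIso_of_lift_id (isFibGrpd_fp hX hX hY f f) b T
  haveI : IsIso b' := fg_isIso_of_lift_id (isFibGrpd_fp hX hX hY f f) b' T'
  refine sec_eq he (isFibGrpd_diagFp hX hY y) g k' hk' k hk
    (ObjectProperty.homMk { fst := Over.homMk g hg, snd := m, w := ?_ }) (fp_isHomLift _ ?_)
  · show chMap y g hg ≫ CategoryTheory.inv b = CategoryTheory.inv b' ≫ (FibCat.diag f).map m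
    rw [IsIso.comp_inv_eq, Category.assoc, IsIso.eq_inv_comp]
    exact hm.symm
  · exact Fib44.isHomLift_map_left (BasedFunctor.id (overCat U)) (Over.homMk g hg : Over.mk t' ⟶ Over.mk t)

theorem exists_map_of_res (hX : IsFibGrpd 𝒳.p) (hY : IsFibGrpd 𝒴.p) (he : IsEquivOver e) {T' T : Over S}
    (g : T' ⟶ T) {t' : T' ⟶ U} {t : T ⟶ U} (hg : g ≫ t = t') {x' : 𝒳.p.Fiber T'} {x : 𝒳.p.Fiber T}
    {b' : (FibCat.diag f).obj x'.1 ⟶ (chObj y t').1} {hb' : (fp f f).p.IsHomLift (𝟙 T') b'}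
    {b : (FibCat.diag f).obj x.1 ⟶ (chObj y t).1} {hb : (fp f f).p.IsHomLift (𝟙 T) b}
    {s' : (AlgSp.yon S).obj T' ⟶ F} (k' : e.obj (secObj s') ⟶ diagObj hX hY t' x' b' hb')
    (hk' : (fp y (FibCat.diag f)).p.IsHomLift (𝟙 T') k') {s : (AlgSp.yon S).obj T ⟶ F}
    (k : e.obj (secObj s) ⟶ diagObj hX hY t x b hb) (hk : (fp y (FibCat.diag f)).p.IsHomLift (𝟙 T) k)
    (hs : (AlgSp.yon S).map g ≫ s = s') :
    ∃ m : x'.1 ⟶ x.1, 𝒳.p.IsHomLift g m ∧ (FibCat.diag f).map m ≫ b = b' ≫ chMap y g hg := by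
  subst hs
  haveI := hb
  haveI := hb'
  haveI : IsIso b := fg_isIso_of_lift_id (isFibGrpd_fp hX hX hY f f) b T
  haveI : IsIso b' := fg_isIso_of_lift_id (isFibGrpd_fp hX hX hY f f) b' T'
  obtain ⟨r, hr⟩ := exists_res (e := e) g s
  haveI := hk
  haveI := hk'
  haveI := hr
  haveI := fg_isIso_of_lift_id (isFibGrpd_diagFp hX hY y) k' T'
  let M : diagObj hX hY t' x' b' hb' ⟶ diagObj hX hY t x b hb := CategoryTheory.inv k' ≫ r ≫ k
  haveI hM : (fp y (FibCat.diag f)).p.IsHomLift g M :=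
    inferInstanceAs ((fp y (FibCat.diag f)).p.IsHomLift g (CategoryTheory.inv k' ≫ r ≫ k))
  refine ⟨M.hom.snd, Fib44.fp_isHomLift_snd g M, ?_⟩
  have h1 : y.map M.hom.fst ≫ CategoryTheory.inv b = CategoryTheory.inv b' ≫ (FibCat.diag f).map M.hom.snd := M.hom.w
  have h2 : y.map M.hom.fst = chMap y g hg := by
    refine congrArg y.map (Over.OverMorphism.ext ?_)
    haveI : (overCat U).p.IsHomLift g M.hom.fst := (Fib44.fp_isHomLift_iff g M).1 hM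
    exact IsHomLift.fac' (overCat U).p g M.hom.fst |>.trans (by simp)
  rw [h2, IsIso.eq_inv_comp, ← Category.assoc, IsIso.comp_inv_eq] at h1
  exact h1.symm

end Groth.Agent.IsoNat97
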