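import Groth.Agent.IsoNat97.SepSpace
import Groth.Agent.AlgSt88.DiagLFT2
import Groth.Agent.AlgSt88.SepQs

/-! Separatedness of morphisms through extension of morphisms over valuation rings. -/

set_option autoImplicit false
set_option linter.unusedVariables false
set_option linter.style.haveILetI false
set_option backward.isDefEq.respectTransparency false
set_option backward.isDefEq.respectTransparency.types false
universe u

open CategoryTheory CategoryTheory.Limits AlgebraicGeometry Opposite AlgSt FibCat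

namespace Groth.Agent.IsoNat97

open AlgSt88 IsoNat

variable {S : Scheme.{u}} {𝒳 𝒴 : AlgSt.Cat S} {f : 𝒳 ⥤ᵇ 𝒴}

/-- Sections of a separated space agreeing on a schematically dense subscheme are equal. -/
theorem sections_eq_of_dense {F : AlgSp.Sp S} {U : Over S} {π : F ⟶ (AlgSp.yon S).obj U} (hπ : AlgSp.IsSeparatedMor π)
    {T₀ T : Over S} [IsAffine T.left] (j : T₀ ⟶ T) (hj : Function.Injective j.left.appTop)
    (s₁ s₂ : (AlgSp.yon S).obj T ⟶ F) (hp : s₁ ≫ π = s₂ ≫ π)
    (h : (AlgSp.yon S).map j ≫ s₁ = (AlgSp.yon S).map j ≫ s₂) : s₁ = s₂ := by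
  let g : (AlgSp.yon S).obj T ⟶ pullback π π := pullback.lift s₁ s₂ hp
  have hrep : AlgSp.RepWith @IsClosedImmersion (pullback.diagonal π) := hπ
  haveI hcl : IsClosedImmersion (hrep.rep.snd g).left := hrep.property_snd g
  have hsq := hrep.rep.isPullback g
  have hc : (AlgSp.yon S).map j ≫ g = ((AlgSp.yon S).map j ≫ s₁) ≫ pullback.diagonal π := by
    apply pullback.hom_ext
    · simp [g]
    · simp only [g, Category.assoc, pullback.lift_snd, pullback.diagonal_snd, Category.comp_id]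
      exact h.symm
  obtain ⟨r', hr'⟩ := (AlgSp.yon S).map_surjective (hsq.lift ((AlgSp.yon S).map j ≫ s₁) ((AlgSp.yon S).map j) hc.symm)
  have hfac : r' ≫ hrep.rep.snd g = j := (AlgSp.yon S).map_injective (by
    rw [Functor.map_comp, hr', hsq.lift_snd])
  haveI : IsIso (hrep.rep.snd g).left := by
    have hinj : Function.Injective (hrep.rep.snd g).left.appTop := fun x y hxy => hj (by
      have h := congrArg (fun φ : T₀ ⟶ T => φ.left.appTop) hfac
      rw [← show _ = j.left.appTop from h]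
      show (r'.left ≫ (hrep.rep.snd g).left).appTop x = (r'.left ≫ (hrep.rep.snd g).left).appTop y
      rw [Scheme.Hom.comp_appTop, CategoryTheory.comp_apply, CategoryTheory.comp_apply, hxy])
    exact IsClosedImmersion.isIso_of_injective_of_isAffine hinj
  haveI : IsIso (hrep.rep.snd g) :=
    have : IsIso ((Over.forget S).map (hrep.rep.snd g)) := inferInstanceAs (IsIso (hrep.rep.snd g).left)
    isIso_of_reflects_iso _ (Over.forget S)
  have hg : g = (inv ((AlgSp.yon S).map (hrep.rep.snd g)) ≫ hrep.rep.fst g) ≫ pullback.diagonal π := by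
    rw [Category.assoc, hsq.w, IsIso.inv_hom_id_assoc]
  have e₁ : g ≫ pullback.fst π π = s₁ := pullback.lift_fst _ _ _
  have e₂ : g ≫ pullback.snd π π = s₂ := pullback.lift_snd _ _ _
  rw [← e₁, ← e₂, hg]
  simp

theorem appTop_injective_of_ringHom {A B : Type u} [CommRing A] [CommRing B] (ι : A →+* B)
    (hι : Function.Injective ι) : Function.Injective (Spec.map (CommRingCat.ofHom ι)).appTop := by
  intro a b hab
  apply (Scheme.ΓSpecIso (CommRingCat.of A)).commRingCatIsoToRingEquiv.injective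
  apply hι
  have h := congrArg (fun f => f.hom a) (Scheme.ΓSpecIso_naturality (CommRingCat.ofHom ι))
  have h' := congrArg (fun f => f.hom b) (Scheme.ΓSpecIso_naturality (CommRingCat.ofHom ι))
  exact h.symm.trans ((congrArg _ hab).trans h')

/-- Morphisms with given image extend from a basic open of a valuation ring when the diagonal is proper. -/
theorem extHom_of_diag_proper (hX : IsFibGrpd 𝒳.p) (hY : IsFibGrpd 𝒴.p)
    (hpr : RepByAlgSpWith AlgSp.IsProperMor (FibCat.diag f))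
    {R K : Type u} [CommRing R] [IsDomain R] [ValuationRing R] [Field K] [Algebra R K] [IsFractionRing R K]
    (a : R) (ι : Localization.Away a →+* K)
    (hι : ι.comp (algebraMap R (Localization.Away a)) = algebraMap R K) (hinj : Function.Injective ι)
    (str : Spec (CommRingCat.of R) ⟶ S) :
    ExtHom f (Over.homMk (Spec.map (CommRingCat.ofHom (algebraMap R (Localization.Away a)))) rfl :
      Over.mk (Spec.map (CommRingCat.ofHom (algebraMap R (Localization.Away a))) ≫ str) ⟶ Over.mk str) := by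
  let C : Over S := Over.mk str
  let O : Over S := Over.mk (Spec.map (CommRingCat.ofHom (algebraMap R (Localization.Away a))) ≫ str)
  let o : O ⟶ C := Over.homMk (Spec.map (CommRingCat.ofHom (algebraMap R (Localization.Away a)))) rfl
  intro x₁ x₂ α hα z a₁ a₂ ha₁ ha₂ he'
  change f.map a₁ ≫ α = f.map a₂ at he'
  haveI := hα
  haveI := fg_isIso_of_lift_id hY α C
  have hFF := isFibGrpd_fp hX hX hY f f
  let w : (fp f f).obj := ⟨{ fst := x₁.1, snd := x₂.1, iso := asIso α }, by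
    show 𝒴.p.IsHomLift (𝟙 (𝒳.p.obj x₁.1)) α
    rw [x₁.2]; exact hα⟩
  have hw : (fp f f).p.obj w = C := x₁.2
  obtain ⟨kw, hkw⟩ := classify_mk_id hFF w hw
  let y : overCat C ⥤ᵇ fp f f := classify hFF w hw
  haveI := hkw
  haveI : (fp f f).p.IsHomLift (𝟙 C) kw.inv := IsHomLift.lift_id_inv _ _ _
  let φ : (FibCat.diag f).obj z.1 ⟶ w := ObjectProperty.homMk { fst := a₁, snd := a₂, w := (by
      show f.map a₁ ≫ α = 𝟙 _ ≫ f.map a₂
      rw [Category.id_comp]; exact he') }
  have hφ : (fp f f).p.IsHomLift o φ := AlgSt88.fp_isHomLift φ ha₁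
  have h0 : o ≫ 𝟙 C = o := Category.comp_id o
  obtain ⟨c, ⟨hc, hce⟩, -⟩ := exists_fac hFF (𝟙 O) (Category.id_comp o) (chMap y o h0 ≫ kw.hom) (by
    have h' : (fp f f).p.IsHomLift (o ≫ 𝟙 C) (chMap y o h0 ≫ kw.hom) :=
      @IsHomLift.comp _ _ _ _ (fp f f).p _ _ _ _ _ _ o (𝟙 C) (chMap y o h0) kw.hom (isHomLift_chMap y o h0) hkw
    rwa [Category.comp_id] at h') φ hφ
  obtain ⟨F, e, he, hπ⟩ := hpr C y
  obtain ⟨sF, kF, hkF, hsF⟩ := exists_sec_mk hX hY he o z c hc
  let PK : Over S := Over.mk (Spec.map (CommRingCat.ofHom (algebraMap R K)) ≫ str)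
  let jK : PK ⟶ C := Over.homMk (Spec.map (CommRingCat.ofHom (algebraMap R K))) rfl
  let i : PK ⟶ O := Over.homMk (Spec.map (CommRingCat.ofHom ι)) (by
    show Spec.map _ ≫ Spec.map _ ≫ str = Spec.map _ ≫ str
    rw [← Spec.map_comp_assoc, ← CommRingCat.ofHom_comp, hι])
  have hi : i ≫ o = jK := Over.OverMorphism.ext (by
    show Spec.map _ ≫ Spec.map _ = Spec.map _
    rw [← Spec.map_comp, ← CommRingCat.ofHom_comp, hι])
  let q : AlgSp.ValSq (spMapOfOver (BasedFunctor.comp e (fpFst y (FibCat.diag f)))) :=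
    { A := R, K := K, str := str, top := (AlgSp.yon S).map i ≫ sF, bot := (AlgSp.yon S).map (𝟙 C),
      comm := by
        rw [Category.assoc, hsF, ← Functor.map_comp, hi]
        exact ((Category.comp_id _).symm.trans (congrArg ((AlgSp.yon S).map jK ≫ ·) ((AlgSp.yon S).map_id C).symm)) }
  have hsep := hπ.1
  have hqs : AlgSp.IsQuasiSeparatedMor (spMapOfOver (BasedFunctor.comp e (fpFst y (FibCat.diag f)))) :=
    SpPts86.repWith_mono (fun _ _ g hg => by haveI := hg; infer_instance) hsep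
  obtain ⟨l, hl1, hl2⟩ := (SpPts86.existVC_iff_strict_of_separated F.property (AlgSp.IsAlgSpace.yon_obj C) hsep).1
    (SpPts86.existVC_of_univClosed F.property (AlgSp.IsAlgSpace.yon_obj C) hqs hπ.2.2) q
  obtain ⟨x, b, hb, k, hk⟩ := exists_pt_of_sec (t := 𝟙 C) hX hY l hl2
  haveI : IsAffine O.left := inferInstanceAs (IsAffine (Spec _))
  have hsl : (AlgSp.yon S).map o ≫ l = sF := by
    refine sections_eq_of_dense hsep i (appTop_injective_of_ringHom ι hinj) _ _ ?_ ?_
    · rw [Category.assoc, hsF]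
      refine (congrArg ((AlgSp.yon S).map o ≫ ·) hl2).trans ?_
      exact ((AlgSp.yon S).map_comp _ _).symm.trans (congrArg _ (Category.comp_id o))
    · rw [← Category.assoc, ← Functor.map_comp, hi]
      exact hl1
  obtain ⟨m, hm, hme⟩ := exists_map_of_res hX hY he o h0 kF hkF k hk hsl
  haveI := hb
  let bb : (FibCat.diag f).obj x.1 ⟶ w := b ≫ kw.hom
  haveI hbb : (fp f f).p.IsHomLift (𝟙 C) bb := inferInstanceAs ((fp f f).p.IsHomLift (𝟙 C) (b ≫ kw.hom))
  have hmb : (FibCat.diag f).map m ≫ bb = φ := by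
    show _ ≫ b ≫ kw.hom = _
    rw [← Category.assoc, hme, Category.assoc, hce]
  haveI h1 : 𝒳.p.IsHomLift (𝟙 C) bb.hom.fst := (Fib44.fp_isHomLift_iff _ bb).1 hbb
  haveI h2 : 𝒳.p.IsHomLift (𝟙 C) bb.hom.snd := Fib44.fp_isHomLift_snd _ bb
  haveI := fg_isIso_of_lift_id hX bb.hom.fst C
  haveI : 𝒳.p.IsHomLift (𝟙 C) (CategoryTheory.inv bb.hom.fst) := inferInstance
  have e1 : m ≫ bb.hom.fst = a₁ := congrArg (fun t => t.hom.fst) hmb
  have e2 : m ≫ bb.hom.snd = a₂ := congrArg (fun t => t.hom.snd) hmb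
  have hbw : f.map bb.hom.fst ≫ α = f.map bb.hom.snd := bb.hom.w.trans (Category.id_comp _)
  refine ⟨CategoryTheory.inv bb.hom.fst ≫ bb.hom.snd, inferInstance, ?_, ?_⟩
  · rw [← e1, Category.assoc, IsIso.hom_inv_id_assoc, e2]
  · rw [f.map_comp, ← hbw, ← Category.assoc, ← f.map_comp, IsIso.inv_hom_id, f.map_id, Category.id_comp]

/-- Universal closedness of the diagonal from extension of morphisms over valuation rings. -/
theorem univClosed_of_extHom (hX : IsFibGrpd 𝒳.p) (hY : IsFibGrpd 𝒴.p) {U : Over S} {y : overCat U ⥤ᵇ fp f f}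
    {F : AlgSp.Space S} {e : ofSp F.obj ⥤ᵇ fp y (FibCat.diag f)} (he : IsEquivOver e)
    (hlft : AlgSp.LocP @LocallyOfFiniteType (spMapOfOver (BasedFunctor.comp e (fpFst y (FibCat.diag f)))))
    (hqc : AlgSp.IsQuasiCompactMor (spMapOfOver (BasedFunctor.comp e (fpFst y (FibCat.diag f)))))
    (hext : ∀ {R K : Type u} [CommRing R] [IsDomain R] [ValuationRing R] [Field K] [Algebra R K] [IsFractionRing R K]
      (a : R) (ι : Localization.Away a →+* K), ι.comp (algebraMap R (Localization.Away a)) = algebraMap R K →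
        Function.Injective ι → ∀ str : Spec (CommRingCat.of R) ⟶ S,
      ExtHom f (Over.homMk (Spec.map (CommRingCat.ofHom (algebraMap R (Localization.Away a)))) rfl :
        Over.mk (Spec.map (CommRingCat.ofHom (algebraMap R (Localization.Away a))) ≫ str) ⟶ Over.mk str)) :
    AlgSp.IsUnivClosedMor (spMapOfOver (BasedFunctor.comp e (fpFst y (FibCat.diag f)))) := by
  refine SpPts86.isUnivClosedMor_of_existVC hqc fun sq => ?_
  obtain ⟨b, hb⟩ := (AlgSp.yon S).map_surjective sq.bot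
  obtain ⟨e', a, ha, ι, hι, sF, hsF, hsK⟩ := exists_spread F.property hlft sq hb
  refine ⟨e', ?_⟩
  let jφ : e'.ptA' ⟶ sq.ptA := Over.homMk (Spec.map (CommRingCat.ofHom e'.φ)) rfl
  have hinj : Function.Injective ι := by
    have hu : IsUnit (algebraMap e'.A' e'.K' a) := by
      rw [isUnit_iff_ne_zero]
      exact fun h0 => ha (IsFractionRing.injective e'.A' e'.K' (by rw [h0, map_zero]))
    have hιe : ι = IsLocalization.Away.lift a hu :=
      IsLocalization.ringHom_ext (Submonoid.powers a) (hι.trans (IsLocalization.Away.lift_comp _ _).symm)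
    rw [hιe]
    exact IsLocalization.lift_injective_iff _ |>.2 fun c d => by
      constructor
      · intro hcd
        exact congrArg _ (IsLocalization.injective (Localization.Away a)
          (Submonoid.powers_le.2 (mem_nonZeroDivisors_of_ne_zero ha)) hcd)
      · intro hcd
        rw [IsFractionRing.injective e'.A' e'.K' hcd]
  let C : Over S := e'.ptA'
  let O : Over S := Over.mk (Spec.map (CommRingCat.ofHom (algebraMap e'.A' (Localization.Away a))) ≫ C.hom)
  let o : O ⟶ C := Over.homMk (Spec.map (CommRingCat.ofHom (algebraMap e'.A' (Localization.Away a)))) rfl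
  let t : C ⟶ U := jφ ≫ b
  obtain ⟨z, c, hc, kF, hkF⟩ := exists_pt_of_sec (t := o ≫ t) hX hY sF hsF
  let w : (fp f f).obj := (chObj y t).1
  have hw : 𝒳.p.obj w.obj.fst = C := (chObj y t).2
  let x₁ : 𝒳.p.Fiber C := ⟨w.obj.fst, hw⟩
  let x₂ : 𝒳.p.Fiber C := ⟨w.obj.snd, ((fpSnd f f).w_obj w).trans (chObj y t).2⟩
  have hα : 𝒴.p.IsHomLift (𝟙 C) w.obj.iso.hom := by
    have h' : 𝒴.p.IsHomLift (𝟙 (𝒳.p.obj w.obj.fst)) w.obj.iso.hom := w.property
    rwa [hw] at h'
  let ψ : (FibCat.diag f).obj z.1 ⟶ w := c ≫ chMap y o rfl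
  haveI := hc
  have hψ : (fp f f).p.IsHomLift o ψ := by
    have h' : (fp f f).p.IsHomLift (𝟙 O ≫ o) (c ≫ chMap y o rfl) :=
      @IsHomLift.comp _ _ _ _ (fp f f).p _ _ _ _ _ _ (𝟙 O) o c (chMap y o rfl) hc (isHomLift_chMap y o rfl)
    rwa [Category.id_comp] at h'
  haveI := hψ
  obtain ⟨β, hβ, hβe, hfβ⟩ := hext a ι hι hinj C.hom x₁ x₂ w.obj.iso.hom hα z ψ.hom.fst ψ.hom.snd
    ((Fib44.fp_isHomLift_iff o ψ).1 hψ) (Fib44.fp_isHomLift_snd o ψ) (ψ.hom.w.trans (Category.id_comp _))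
  let bb : (FibCat.diag f).obj x₁.1 ⟶ (chObj y t).1 := ObjectProperty.homMk { fst := 𝟙 _, snd := β, w := (by
      show f.map (𝟙 _) ≫ w.obj.iso.hom = 𝟙 _ ≫ f.map β
      rw [AlgSt88.map_id' f, Category.id_comp, Category.id_comp, hfβ]) }
  have hbb : (fp f f).p.IsHomLift (𝟙 C) bb := AlgSt88.fp_isHomLift bb (IsHomLift.id x₁.2)
  obtain ⟨l, kl, hkl, hl⟩ := exists_sec_mk hX hY he t x₁ bb hbb
  have hres : (AlgSp.yon S).map o ≫ l = sF :=
    sec_eq_of_map hX hY he o rfl kF hkF kl hkl ψ.hom.fst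
      (AlgSt88.fpHom_ext (Category.comp_id _) hβe)
  refine ⟨l, ?_, ?_⟩
  · let i : e'.ptK' ⟶ O := Over.homMk (Spec.map (CommRingCat.ofHom ι)) (by
      show Spec.map _ ≫ Spec.map _ ≫ e'.ptA'.hom = Spec.map _ ≫ e'.ptA'.hom
      rw [← Spec.map_comp_assoc, ← CommRingCat.ofHom_comp, hι])
    refine Eq.trans ?_ (hsK i _ rfl rfl)
    rw [← hres, ← Category.assoc, ← Functor.map_comp]
    congr 2
    exact Over.OverMorphism.ext (by
      show Spec.map _ = Spec.map _ ≫ Spec.map _
      rw [← Spec.map_comp, ← CommRingCat.ofHom_comp, hι])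
  · rw [hl, Functor.map_comp, hb]

/-- The diagonal of a morphism between stacks with separated quasi-compact diagonals. -/
theorem sepQC_diag (h𝒳d : RepByAlgSpWith (AlgSp.IsSeparatedMor ⊓ AlgSp.IsQuasiCompactMor) (FibCat.diag (FibCat.toSelf 𝒳)))
    (h𝒴d : RepByAlgSpWith (AlgSp.IsSeparatedMor ⊓ AlgSp.IsQuasiCompactMor) (FibCat.diag (FibCat.toSelf 𝒴)))
    (f : 𝒳 ⥤ᵇ 𝒴) : RepByAlgSpWith (AlgSp.IsSeparatedMor ⊓ AlgSp.IsQuasiCompactMor) (FibCat.diag f) := by
  refine repByAlgSpWith_diag_of_comp (g := toSelf 𝒴) (R := AlgSp.IsQuasiSeparatedMor) ?_ ?_ ?_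
    (repByAlgSpWith_mono (fun _ _ a ha => SpPts86.repWith_mono (fun _ _ g hg => by haveI := hg; infer_instance) ha.1) h𝒴d)
    (repByAlgSpWith_diag_of_iso (selfIso (toSelf 𝒳) (BasedFunctor.comp f (toSelf 𝒴))) h𝒳d)
  · exact fun _ _ _ _ hX₁ hY₁ hX₂ hY₂ a b a' b' sq ha =>
      ⟨repWith_diag_baseChange _ sq ha.1, SpPts86.isQuasiCompactMor_baseChange ha.2 sq⟩
  · exact respectsIso_of_bc fun X Y Z W a g fst snd _ _ sq hf =>
      ⟨repWith_diag_baseChange _ sq hf.1, SpPts86.isQuasiCompactMor_baseChange hf.2 sq⟩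
  · exact fun X Y Z hX hY hZ a b hb hab =>
      ⟨repWith_diag_cancel _ a b hab.1,
        Groth.Agent.S9919.result (X := ⟨X, hX⟩) (Y := ⟨Y, hY⟩) (Z := ⟨Z, hZ⟩) ⟨a⟩ ⟨b⟩ hab.2 hb⟩

end Groth.Agent.IsoNat97
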