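import Groth.Agent.SpPts86.ValClosed
import Groth.Agent.SpPts86.ValDesc
import Groth.Agent.SpVal61.Lift
import Mathlib.RingTheory.Localization.Away.Basic

/-! Spreading out a field-valued point of a space over a valuation ring. -/

set_option autoImplicit false
set_option linter.style.haveILetI false
set_option backward.isDefEq.respectTransparency false
set_option backward.isDefEq.respectTransparency.types false
universe u

open CategoryTheory CategoryTheory.Limits AlgebraicGeometry AlgSp

namespace Groth.Agent.IsoNat97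

theorem exists_spread_ring {A₀ C R K : Type u} [CommRing A₀] [CommRing C] [Algebra A₀ C] [Algebra.FiniteType A₀ C]
    [CommRing R] [IsDomain R] [Field K] [Algebra R K] [IsFractionRing R K] (α : A₀ →+* R) (β : C →+* K)
    (h : β.comp (algebraMap A₀ C) = (algebraMap R K).comp α) :
    ∃ (f : R) (hf : f ≠ 0) (γ : C →+* Localization.Away f) (ι : Localization.Away f →+* K),
      ι.comp (algebraMap R (Localization.Away f)) = algebraMap R K ∧ ι.comp γ = β ∧
      γ.comp (algebraMap A₀ C) = (algebraMap R (Localization.Away f)).comp α ∧ Function.Injective ι := by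
  classical
  obtain ⟨gens, hgens⟩ := Algebra.FiniteType.out (R := A₀) (A := C)
  choose num den hden heq using fun x : C => IsFractionRing.div_surjective (A := R) (β x)
  let f : R := ∏ x ∈ gens, den x
  have hf : f ≠ 0 := Finset.prod_ne_zero_iff.2 fun x _ => nonZeroDivisors.ne_zero (hden x)
  have hunit : IsUnit (algebraMap R K f) := by
    rw [isUnit_iff_ne_zero]
    exact fun h0 => hf (IsFractionRing.injective R K (by rw [h0, map_zero]))
  let ι : Localization.Away f →+* K := IsLocalization.Away.lift f hunit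
  have hι : ι.comp (algebraMap R (Localization.Away f)) = algebraMap R K := IsLocalization.Away.lift_comp _ _
  have hinj : Function.Injective ι := IsLocalization.lift_injective_iff _ |>.2 fun x y => by
    constructor
    · intro hxy
      exact congrArg _ (IsLocalization.injective (Localization.Away f)
        (Submonoid.powers_le.2 (mem_nonZeroDivisors_of_ne_zero hf)) hxy)
    · intro hxy
      rw [IsFractionRing.injective R K hxy]
  have hmem : ∀ x, β x ∈ ι.range := fun x => by
    have hx : x ∈ Algebra.adjoin A₀ (gens : Set C) := by rw [hgens]; trivial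
    induction hx using Algebra.adjoin_induction with
    | mem x hx =>
      obtain ⟨c, hc⟩ : den x ∣ f := Finset.dvd_prod_of_mem _ hx
      refine ⟨algebraMap R _ (num x * c) * IsLocalization.Away.invSelf f, ?_⟩
      have e1 : ι (IsLocalization.Away.invSelf f) * algebraMap R K f = 1 := by
        rw [← hι, RingHom.comp_apply, ← map_mul, mul_comm, IsLocalization.Away.mul_invSelf, map_one]
      have hd : algebraMap R K (den x) ≠ 0 :=
        fun h0 => nonZeroDivisors.ne_zero (hden x) (IsFractionRing.injective R K (by rw [h0, map_zero]))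
      rw [map_mul, ← RingHom.comp_apply ι, hι, ← heq x, eq_div_iff hd]
      calc algebraMap R K (num x * c) * ι (IsLocalization.Away.invSelf f) * algebraMap R K (den x)
          = algebraMap R K (num x) * (ι (IsLocalization.Away.invSelf f) * algebraMap R K f) := by
            have ec : algebraMap R K f = algebraMap R K (den x) * algebraMap R K c := by rw [← map_mul, ← hc]
            rw [map_mul, ec]; ring
        _ = algebraMap R K (num x) := by rw [e1, mul_one]
    | algebraMap a =>
      exact ⟨algebraMap R _ (α a), by rw [← RingHom.comp_apply, hι]; exact (RingHom.congr_fun h a).symm⟩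
    | add x y _ _ hx hy => rw [map_add]; exact add_mem hx hy
    | mul x y _ _ hx hy => rw [map_mul]; exact mul_mem hx hy
  choose γ₀ hγ₀ using hmem
  let γ : C →+* Localization.Away f :=
    { toFun := γ₀
      map_one' := hinj (by rw [hγ₀, map_one, map_one])
      map_mul' := fun x y => hinj (by rw [hγ₀, map_mul, map_mul, hγ₀, hγ₀])
      map_zero' := hinj (by rw [hγ₀, map_zero, map_zero])
      map_add' := fun x y => hinj (by rw [hγ₀, map_add, map_add, hγ₀, hγ₀]) }
  refine ⟨f, hf, γ, ι, hι, RingHom.ext hγ₀, RingHom.ext fun a => hinj ?_, hinj⟩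
  show ι (γ₀ _) = _
  rw [hγ₀, RingHom.comp_apply, ← RingHom.comp_apply ι, hι]
  exact RingHom.congr_fun h a

variable {S : Scheme.{u}}

/-- After a dominating extension a field-valued point of a space locally of finite type spreads over a basic open. -/
theorem exists_spread {F : Sp S} (hF : IsAlgSpace F) {U : Over S} {π : F ⟶ (yon S).obj U}
    (hlft : LocP @LocallyOfFiniteType π) (sq : ValSq π) {b : sq.ptA ⟶ U} (hb : (yon S).map b = sq.bot) :
    ∃ (e : sq.DomExt) (f : e.A') (hf : f ≠ 0) (ι : Localization.Away f →+* e.K')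
      (hι : ι.comp (algebraMap e.A' (Localization.Away f)) = algebraMap e.A' e.K')
      (sF : (yon S).obj (Over.mk (Spec.map (CommRingCat.ofHom (algebraMap e.A' (Localization.Away f))) ≫ e.ptA'.hom)) ⟶ F),
      sF ≫ π = (yon S).map ((Over.homMk (Spec.map (CommRingCat.ofHom (algebraMap e.A' (Localization.Away f)))) rfl :
          Over.mk (Spec.map (CommRingCat.ofHom (algebraMap e.A' (Localization.Away f))) ≫ e.ptA'.hom) ⟶ e.ptA') ≫
        (Over.homMk (Spec.map (CommRingCat.ofHom e.φ)) rfl : e.ptA' ⟶ sq.ptA) ≫ b) ∧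
      ∀ (i : e.ptK' ⟶ Over.mk (Spec.map (CommRingCat.ofHom (algebraMap e.A' (Localization.Away f))) ≫ e.ptA'.hom))
        (k : e.ptK' ⟶ sq.ptK), i.left = Spec.map (CommRingCat.ofHom ι) → k.left = Spec.map (CommRingCat.ofHom e.ψ) →
        (yon S).map i ≫ sF = (yon S).map k ≫ sq.top := by
  obtain ⟨W, p, hp, hps⟩ := hF.atlas
  obtain ⟨n, hn⟩ := (yon S).map_surjective (p ≫ π)
  haveI : LocallyOfFiniteType n.left :=
    hlft p (𝟙 _) n hp (AlgSp.repWith_id _ _) (by rw [Category.comp_id]; exact hn.symm)
  let P : Over S := hp.rep.pullback sq.top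
  let s : P ⟶ sq.ptK := hp.rep.snd sq.top
  obtain ⟨t, ht⟩ := (yon S).map_surjective (hp.rep.fst sq.top)
  have hsq := hp.rep.isPullback sq.top
  haveI : Surjective s.left := hps.property _ _ _ hsq
  obtain ⟨w, -⟩ := s.left.surjective (IsLocalRing.closedPoint sq.K)
  let K' : CommRingCat := P.left.residueField w
  let s' : P.left ⟶ Spec (CommRingCat.of sq.K) := s.left
  let ψ : CommRingCat.of sq.K ⟶ K' := Spec.preimage (P.left.fromSpecResidueField w ≫ s')
  have hψ : Spec.map ψ = P.left.fromSpecResidueField w ≫ s' := Spec.map_preimage _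
  obtain ⟨R', hR', hloc⟩ := IsLocalRing.exists_factor_valuationRing (ψ.hom.comp (algebraMap sq.A sq.K))
  let e : sq.DomExt :=
    { A' := R', K' := K', φ := (ψ.hom.comp (algebraMap sq.A sq.K)).codRestrict _ hR', ψ := ψ.hom,
      comm := rfl, isLocalHom := hloc }
  let a : Spec (CommRingCat.of e.A') ⟶ U.left := Spec.map (CommRingCat.ofHom e.φ) ≫ b.left
  let g : Spec (CommRingCat.of e.K') ⟶ W.left := P.left.fromSpecResidueField w ≫ t.left
  have hcomm : t ≫ n = s ≫ sq.j ≫ b := (yon S).map_injective (by
    rw [Functor.map_comp, hn, ← Category.assoc, ht, hsq.w, Category.assoc, sq.comm, ← hb, Functor.map_comp,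
      Functor.map_comp])
  have hga : g ≫ n.left = Spec.map (CommRingCat.ofHom (algebraMap e.A' e.K')) ≫ a := by
    have h1 : t.left ≫ n.left = s'  ≫ Spec.map (CommRingCat.ofHom (algebraMap sq.A sq.K)) ≫ b.left :=
      congrArg CommaMorphism.left hcomm
    show (P.left.fromSpecResidueField w ≫ t.left) ≫ n.left = _ ≫ Spec.map _ ≫ b.left
    rw [Category.assoc, h1, ← Category.assoc, ← hψ, ← Spec.map_comp_assoc, ← Spec.map_comp_assoc]
    rfl
  obtain ⟨_, ⟨U', hU', rfl⟩, hu, -⟩ :=
    U.left.isBasis_affineOpens.exists_subset_of_mem_open (Set.mem_univ (a (IsLocalRing.closedPoint e.A'))) isOpen_univ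
  have haU : Set.range a ⊆ (U' : Set U.left) := by
    rintro _ ⟨y, rfl⟩
    exact ((IsLocalRing.specializes_closedPoint y).map a.continuous).mem_open U'.isOpen hu
  have hgU : g (IsLocalRing.closedPoint e.K') ∈ n.left ⁻¹ᵁ U' := by
    show (g ≫ n.left) (IsLocalRing.closedPoint e.K') ∈ U'
    rw [hga]
    exact haU ⟨_, rfl⟩
  obtain ⟨_, ⟨O, hO, rfl⟩, hgO, hOU⟩ :=
    W.left.isBasis_affineOpens.exists_subset_of_mem_open hgU (n.left ⁻¹ᵁ U').isOpen
  have hrg : Set.range g ⊆ Set.range hO.fromSpec := by
    rintro _ ⟨y, rfl⟩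
    rw [hO.range_fromSpec, show y = IsLocalRing.closedPoint e.K' from @Subsingleton.elim (PrimeSpectrum e.K') _ _ _]
    exact hgO
  have hra : Set.range a ⊆ Set.range hU'.fromSpec := by rw [hU'.range_fromSpec]; exact haU
  let β := Spec.preimage (IsOpenImmersion.lift hO.fromSpec g hrg)
  have hβ : Spec.map β ≫ hO.fromSpec = g := by rw [Spec.map_preimage, IsOpenImmersion.lift_fac]
  let α := Spec.preimage (IsOpenImmersion.lift hU'.fromSpec a hra)
  have hα : Spec.map α ≫ hU'.fromSpec = a := by rw [Spec.map_preimage, IsOpenImmersion.lift_fac]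
  have hap := hU'.SpecMap_appLE_fromSpec n.left hO hOU
  letI := (n.left.appLE U' O hOU).hom.toAlgebra
  haveI : Algebra.FiniteType Γ(U.left, U') Γ(W.left, O) := n.left.finiteType_appLE hU' hO hOU
  have hcomm2 : n.left.appLE U' O hOU ≫ β = α ≫ CommRingCat.ofHom (algebraMap e.A' e.K') := by
    apply Spec.map_injective
    rw [← cancel_mono hU'.fromSpec, Spec.map_comp, Category.assoc, hap, reassoc_of% hβ, hga, Spec.map_comp,
      Category.assoc, hα]
  obtain ⟨f, hf, γ, ι, hι, hιγ, hγA, -⟩ := exists_spread_ring (R := e.A') (K := e.K') α.hom β.hom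
    (congrArg CommRingCat.Hom.hom hcomm2)
  let PF : Over S := Over.mk (Spec.map (CommRingCat.ofHom (algebraMap e.A' (Localization.Away f))) ≫ e.ptA'.hom)
  have hw : (Spec.map (CommRingCat.ofHom γ) ≫ hO.fromSpec) ≫ n.left =
      Spec.map (CommRingCat.ofHom (algebraMap e.A' (Localization.Away f))) ≫ a := by
    rw [Category.assoc, ← hap, ← Spec.map_comp_assoc, ← hα, ← Spec.map_comp_assoc]
    congr 2
    exact CommRingCat.hom_ext hγA
  let wF : PF ⟶ W := Over.homMk (Spec.map (CommRingCat.ofHom γ) ≫ hO.fromSpec) (by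
    show _ ≫ W.hom = _
    rw [← Over.w n, ← Category.assoc]
    refine (congrArg (· ≫ U.hom) hw).trans ?_
    show (_ ≫ (_ ≫ b.left)) ≫ U.hom = _ ≫ (_ ≫ sq.str)
    rw [Category.assoc, Category.assoc]
    exact congrArg (_ ≫ ·) (congrArg (_ ≫ ·) (Over.w b)))
  refine ⟨e, f, hf, ι, hι, (yon S).map wF ≫ p, ?_, fun i k hi hk => ?_⟩
  · rw [Category.assoc, ← hn, ← Functor.map_comp]
    congr 1
    exact Over.OverMorphism.ext hw
  · let r : e.ptK' ⟶ P := Over.homMk (P.left.fromSpecResidueField w) (by
      refine (congrArg (_ ≫ ·) (Over.w s).symm).trans ?_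
      show P.left.fromSpecResidueField w ≫ s' ≫ Spec.map _ ≫ sq.str = Spec.map _ ≫ Spec.map _ ≫ sq.str
      rw [← Category.assoc, ← hψ, ← Spec.map_comp_assoc, ← Spec.map_comp_assoc]
      rfl)
    have e1 : i ≫ wF = r ≫ t := Over.OverMorphism.ext (by
      show i.left ≫ Spec.map _ ≫ hO.fromSpec = P.left.fromSpecResidueField w ≫ t.left
      rw [hi, ← Spec.map_comp_assoc]
      refine Eq.trans ?_ hβ
      congr 2
      exact CommRingCat.hom_ext hιγ)
    have e2 : k = r ≫ s := Over.OverMorphism.ext (hk.trans hψ)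
    rw [← Category.assoc, ← Functor.map_comp, e1, Functor.map_comp, Category.assoc, ht, hsq.w, e2,
      Functor.map_comp, Category.assoc]

end Groth.Agent.IsoNat97
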