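import Groth.Agent.IsoNat97.NoAut

/-! Affine lines meeting at one point, and their punctured parts. -/

set_option autoImplicit false
set_option linter.unusedVariables false
set_option linter.deprecated false
set_option linter.style.haveILetI false
set_option backward.isDefEq.respectTransparency false
set_option backward.isDefEq.respectTransparency.types false
universe u

open CategoryTheory CategoryTheory.Limits AlgebraicGeometry Opposite AlgSt FibCat Polynomial

namespace Groth.Agent.IsoNat97

open AlgSt88

variable {S : Scheme.{u}} (A : Type u) [CommRing A] (n : ℕ)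

/-- The value at the origin, line by line. -/
noncomputable def starEval : (Fin (n + 1) → A[X]) →ₐ[A] (Fin (n + 1) → A) :=
  Pi.algHom A _ fun i => (aeval (0 : A)).comp (Pi.evalAlgHom A (fun _ => A[X]) i)

/-- Functions on `n + 1` lines meeting at the origin. -/
noncomputable abbrev Star : Subalgebra A (Fin (n + 1) → A[X]) :=
  AlgHom.equalizer (starEval A n)
    (Pi.algHom A _ fun _ => (aeval (0 : A)).comp (Pi.evalAlgHom A (fun _ => A[X]) 0))

variable {A n}

theorem mem_star {p : Fin (n + 1) → A[X]} : p ∈ Star A n ↔ ∀ i, (p i).eval 0 = (p 0).eval 0 := by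
  simp [Star, starEval, funext_iff, AlgHom.mem_equalizer, coe_aeval_eq_eval]

/-- The inclusion of a line. -/
noncomputable def starLine (i : Fin (n + 1)) : Star A n →ₐ[A] A[X] :=
  (Pi.evalAlgHom A (fun _ => A[X]) i).comp (Star A n).val

theorem starLine_apply (i : Fin (n + 1)) (p : Star A n) : starLine i p = p.1 i := rfl

/-- The origin. -/
noncomputable def starOrigin : Star A n →ₐ[A] A := (aeval (0 : A)).comp (starLine 0)

theorem aeval_comp_starLine (i : Fin (n + 1)) : (aeval (0 : A)).comp (starLine i) = (starOrigin : Star A n →ₐ[A] A) :=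
  AlgHom.ext fun p => by
    simp only [starOrigin, AlgHom.comp_apply, starLine_apply, coe_aeval_eq_eval]
    exact mem_star.1 p.2 i

/-- A family of functions on the lines with a common value. -/
noncomputable def starMap {B : Type u} [CommRing B] [Algebra A B] (φ : Fin (n + 1) → (B →ₐ[A] A[X]))
    (h : ∀ i, (aeval (0 : A)).comp (φ i) = (aeval (0 : A)).comp (φ 0)) : B →ₐ[A] Star A n :=
  (Pi.algHom A _ φ).codRestrict _ fun b => mem_star.2 fun i => by
    have := DFunLike.congr_fun (h i) b
    simpa [coe_aeval_eq_eval] using this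

theorem starLine_comp_starMap {B : Type u} [CommRing B] [Algebra A B] (φ : Fin (n + 1) → (B →ₐ[A] A[X]))
    (h : ∀ i, (aeval (0 : A)).comp (φ i) = (aeval (0 : A)).comp (φ 0)) (i : Fin (n + 1)) :
    (starLine i).comp (starMap φ h) = φ i := rfl

theorem star_hom_ext {B : Type u} [CommRing B] [Algebra A B] {f g : B →ₐ[A] Star A n}
    (h : ∀ i, (starLine i).comp f = (starLine i).comp g) : f = g :=
  AlgHom.ext fun b => Subtype.ext (funext fun i => DFunLike.congr_fun (h i) b)

/-- The function supported on one punctured line. -/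
noncomputable def starEq (i : Fin (n + 1)) : Star A n :=
  ⟨Pi.single i X, mem_star.2 fun j => by
    by_cases h : j = i
    · subst h; by_cases h0 : (0 : Fin (n + 1)) = j <;> simp [Pi.single_apply, h0]
    · by_cases h0 : (0 : Fin (n + 1)) = i <;> simp [Pi.single_apply, h, h0]⟩

theorem starEq_mul {i j : Fin (n + 1)} (h : i ≠ j) : (starEq i : Star A n) * starEq j = 0 :=
  Subtype.ext (funext fun k => by
    by_cases hk : k = i
    · subst hk; simp [starEq, Pi.single_apply, h]
    · simp [starEq, Pi.single_apply, hk])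

theorem starLine_starEq (i : Fin (n + 1)) : starLine i (starEq i : Star A n) = X := by
  simp [starLine_apply, starEq]

theorem isLocalization_starLine (i : Fin (n + 1)) :
    letI := ((IsScalarTower.toAlgHom A A[X] (Localization.Away (X : A[X]))).comp (starLine i)).toRingHom.toAlgebra
    IsLocalization.Away (starEq i : Star A n) (Localization.Away (X : A[X])) := by
  letI := ((IsScalarTower.toAlgHom A A[X] (Localization.Away (X : A[X]))).comp (starLine i)).toRingHom.toAlgebra
  have halg : ∀ x : Star A n, algebraMap (Star A n) (Localization.Away (X : A[X])) x =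
      algebraMap A[X] _ (starLine i x) := fun x => rfl
  have hlift : ∀ p : A[X], ∃ x : Star A n, starLine i x = X * p := fun p =>
    ⟨starEq i * starMap (fun _ => AlgHom.id A A[X]) (fun _ => rfl) p, by
      rw [map_mul, starLine_starEq]; rfl⟩
  refine IsLocalization.Away.mk (starEq i)
    (by rw [halg, starLine_starEq]; exact IsLocalization.Away.algebraMap_isUnit _) (fun z => ?_) (fun x y h => ?_)
  · obtain ⟨m, p, hp⟩ := IsLocalization.Away.surj (X : A[X]) z
    obtain ⟨x, hx⟩ := hlift p
    refine ⟨m + 1, x, ?_⟩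
    rw [halg, halg, starLine_starEq, hx, map_mul, pow_succ, ← mul_assoc, hp, mul_comm]
  · rw [halg, halg] at h
    have h' : starLine i x = starLine i y := IsLocalization.injective _
      (Submonoid.powers_le.2 Polynomial.monic_X.mem_nonZeroDivisors) h
    refine ⟨1, Subtype.ext (funext fun k => ?_)⟩
    by_cases hk : k = i
    · subst hk
      rw [starLine_apply, starLine_apply] at h'
      simp [starEq, h']
    · simp [starEq, Pi.single_apply, hk]

/-! Sub-stars -/

/-- A sub-star. -/
noncomputable def starSub {m : ℕ} (f : Fin (m + 1) → Fin (n + 1)) : Star A n →ₐ[A] Star A m :=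
  starMap (fun k => starLine (f k)) fun k => by rw [aeval_comp_starLine, aeval_comp_starLine]

theorem starLine_comp_starSub {m : ℕ} (f : Fin (m + 1) → Fin (n + 1)) (k : Fin (m + 1)) :
    (starLine k).comp (starSub f) = (starLine (f k) : Star A n →ₐ[A] A[X]) := rfl

/-- A point of a line as constant functions. -/
noncomputable def originHom (m : ℕ) : Star A m →ₐ[A] A[X] := (Algebra.ofId A A[X]).comp starOrigin

theorem aeval_comp_originHom (m : ℕ) :
    (aeval (0 : A)).comp (originHom m) = (starOrigin : Star A m →ₐ[A] A) :=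
  AlgHom.ext fun p => by simp [originHom, Algebra.ofId_apply]

/-- The retraction onto a sub-star collapsing the other lines. -/
noncomputable def starRet {m : ℕ} (g : Fin (n + 1) → Option (Fin (m + 1))) : Star A m →ₐ[A] Star A n :=
  starMap (fun k => (g k).elim (originHom m) starLine) fun k => by
    have h : ∀ o : Option (Fin (m + 1)), (aeval (0 : A)).comp (o.elim (originHom m) starLine) = starOrigin := fun o => by
      cases o
      · exact aeval_comp_originHom m
      · exact aeval_comp_starLine _
    rw [h, h]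

theorem starLine_comp_starRet {m : ℕ} (g : Fin (n + 1) → Option (Fin (m + 1))) (k : Fin (n + 1)) :
    (starLine k).comp (starRet g) = ((g k).elim (originHom m) starLine : Star A m →ₐ[A] A[X]) := rfl

section Scheme

variable (s₀ : Spec (CommRingCat.of A) ⟶ S)

/-- A punctured line. -/
noncomputable abbrev puncPt : Over S := aPt s₀ (Localization.Away (X : A[X]))

/-- Its inclusion in the line. -/
noncomputable abbrev puncLine : puncPt s₀ ⟶ aPt s₀ A[X] :=
  aMap s₀ (IsScalarTower.toAlgHom A A[X] (Localization.Away (X : A[X])))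

/-- Its inclusion in the star. -/
noncomputable def puncIncl (i : Fin (n + 1)) : puncPt s₀ ⟶ aPt s₀ (Star A n) :=
  aMap s₀ ((IsScalarTower.toAlgHom A A[X] (Localization.Away (X : A[X]))).comp (starLine i))

theorem puncIncl_eq (i : Fin (n + 1)) : puncLine s₀ ≫ aMap s₀ (starLine i) = (puncIncl s₀ i : _ ⟶ aPt s₀ (Star A n)) :=
  aMap_comp _ _

/-- The disjoint union of the punctured lines. -/
noncomputable abbrev puncSigma (n : ℕ) : Over S := SpFP87.sigmaOver fun _ : ULift.{u} (Fin (n + 1)) => puncPt s₀

/-- A member. -/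
noncomputable abbrev puncMem (n : ℕ) (i : Fin (n + 1)) : puncPt s₀ ⟶ puncSigma s₀ n :=
  SpFP87.sigmaIncl (fun _ : ULift.{u} (Fin (n + 1)) => puncPt s₀) ⟨i⟩

theorem exists_puncSigmaHom {T : Over S} (f : Fin (n + 1) → (puncPt s₀ ⟶ T)) :
    ∃ o : puncSigma s₀ n ⟶ T, ∀ i, puncMem s₀ n i ≫ o = f i :=
  ⟨Over.homMk (Sigma.desc fun k : ULift.{u} (Fin (n + 1)) => (f k.down).left) (Sigma.hom_ext _ _ fun k => by
    show Sigma.ι (fun _ : ULift.{u} (Fin (n + 1)) => (puncPt s₀).left) k ≫ _ ≫ _ =
      Sigma.ι (fun _ : ULift.{u} (Fin (n + 1)) => (puncPt s₀).left) k ≫ Sigma.desc _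
    rw [← Category.assoc, Sigma.ι_desc, Sigma.ι_desc]
    exact Over.w (f k.down)),
  fun i => Over.OverMorphism.ext (Sigma.ι_desc (fun k : ULift.{u} (Fin (n + 1)) => (f k.down).left) ⟨i⟩)⟩

theorem puncSigma_hom_ext {T : Over S} {a b : puncSigma s₀ n ⟶ T} (h : ∀ i, puncMem s₀ n i ≫ a = puncMem s₀ n i ≫ b) :
    a = b :=
  Over.OverMorphism.ext (Sigma.hom_ext _ _ fun k => congrArg CommaMorphism.left (h k.down))

theorem puncSigma_cover (z : (puncSigma s₀ n).left) : ∃ i y, (puncMem s₀ n i).left y = z := by
  obtain ⟨⟨i⟩, y, hy⟩ := SpFP87.exists_sigmaIncl (fun _ : ULift.{u} (Fin (n + 1)) => puncPt s₀) z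
  exact ⟨i, y, hy⟩

theorem puncSigma_disj (i j : Fin (n + 1)) (a : (puncPt s₀).left) (b : (puncPt s₀).left)
    (h : (puncMem s₀ n i).left a = (puncMem s₀ n j).left b) : i = j :=
  congrArg ULift.down (SpFP87.sigmaIncl_range_eq (fun _ : ULift.{u} (Fin (n + 1)) => puncPt s₀) h)

/-- The punctured star in the star. -/
noncomputable def starOpen (n : ℕ) : puncSigma s₀ n ⟶ aPt s₀ (Star A n) :=
  (exists_puncSigmaHom s₀ fun i => puncIncl s₀ i).choose

theorem puncMem_starOpen (i : Fin (n + 1)) : puncMem s₀ n i ≫ starOpen s₀ n = puncIncl s₀ i :=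
  (exists_puncSigmaHom s₀ fun i => puncIncl s₀ i).choose_spec i

theorem starOpen_aStr (i : Fin (n + 1)) :
    puncMem s₀ n i ≫ starOpen s₀ n ≫ aStr s₀ (Star A n) = aStr s₀ (Localization.Away (X : A[X])) := by
  rw [← Category.assoc, puncMem_starOpen]; exact aMap_aStr _

instance isOpenImmersion_starOpen : IsOpenImmersion (starOpen s₀ n).left := by
  have hj : ∀ i : Fin (n + 1), IsOpenImmersion (puncIncl s₀ i : _ ⟶ aPt s₀ (Star A n)).left := fun i => by
    letI := ((IsScalarTower.toAlgHom A A[X] (Localization.Away (X : A[X]))).comp (starLine i)).toRingHom.toAlgebra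
    haveI := isLocalization_starLine (A := A) i
    exact IsOpenImmersion.of_isLocalization (S := Localization.Away (X : A[X])) (starEq i : Star A n)
  have hne : ∀ (i : Fin (n + 1)) (x : (puncPt s₀).left),
      (starEq i : Star A n) ∉ ((puncIncl s₀ i : _ ⟶ aPt s₀ (Star A n)).left x).asIdeal := fun i x hx => by
    refine x.isPrime.ne_top (Ideal.eq_top_of_isUnit_mem _ hx ?_)
    show IsUnit (IsScalarTower.toAlgHom A A[X] (Localization.Away (X : A[X])) (starLine i (starEq i)))
    rw [starLine_starEq]
    exact IsLocalization.Away.algebraMap_isUnit _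
  have e : (starOpen s₀ n).left = Sigma.desc fun k : ULift.{u} (Fin (n + 1)) => (puncIncl s₀ k.down : _ ⟶ aPt s₀ (Star A n)).left :=
    Sigma.hom_ext _ _ fun k => (congrArg CommaMorphism.left (puncMem_starOpen s₀ k.down)).trans
      (Sigma.ι_desc (fun k : ULift.{u} (Fin (n + 1)) => (puncIncl s₀ k.down : _ ⟶ aPt s₀ (Star A n)).left) k).symm
  rw [e]
  haveI : ∀ k : ULift.{u} (Fin (n + 1)), IsOpenImmersion (puncIncl s₀ k.down : _ ⟶ aPt s₀ (Star A n)).left :=
    fun k => hj k.down
  refine isOpenImmersion_sigmaDesc (g := fun _ : ULift.{u} (Fin (n + 1)) => (puncPt s₀).left) _ fun k l hkl => ?_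
  refine Set.disjoint_left.2 ?_
  rintro _ ⟨a, ha⟩ ⟨b, hb⟩
  have hne' : k.down ≠ l.down := fun h => hkl (ULift.ext _ _ h)
  have h0 : (starEq k.down : Star A n) * starEq l.down ∈ ((puncIncl s₀ k.down : _ ⟶ aPt s₀ (Star A n)).left a).asIdeal := by
    rw [starEq_mul hne']; exact zero_mem _
  rcases ((puncIncl s₀ k.down : _ ⟶ aPt s₀ (Star A n)).left a).isPrime.mem_or_mem h0 with h1 | h1
  · exact hne _ a h1
  · exact hne _ b ((ha.trans hb.symm) ▸ h1)

end Scheme

end Groth.Agent.IsoNat97
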