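import Groth.Agent.IsoNat97.Lie
import Groth.Agent.IsoNat97.LiftSec
import Groth.Agent.S1488
import Mathlib.AlgebraicGeometry.Morphisms.Etale
import Mathlib.RingTheory.Kaehler.Basic
import Mathlib.Algebra.DualNumber

/-! Unramified morphisms and tangent vectors at geometric points. -/

set_option autoImplicit false
set_option linter.unusedVariables false
set_option linter.style.haveILetI false
set_option backward.isDefEq.respectTransparency false
set_option backward.isDefEq.respectTransparency.types false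
universe u

open CategoryTheory CategoryTheory.Limits AlgebraicGeometry Opposite TrivSqZeroExt

namespace Groth.Agent.IsoNat97

/-- Morphisms over an unramified scheme agreeing on a surjective part agree if the part is universally dense. -/
theorem eq_of_unramified {W V T₀ T : Scheme.{u}} (n : W ⟶ V) [LocallyOfFiniteType n] [FormallyUnramified n]
    (i : T₀ ⟶ T) (hi : Function.Surjective i) (l l' : T ⟶ W) (h₀ : i ≫ l = i ≫ l') (h : l ≫ n = l' ≫ n) : l = l' := by
  let P : T ⟶ pullback n n := pullback.lift l l' h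
  have hc : i ≫ P = (i ≫ l) ≫ pullback.diagonal n := by
    apply pullback.hom_ext <;> simp [P, h₀]
  have hr : Set.range P ⊆ Set.range (pullback.diagonal n) := by
    rintro _ ⟨x, rfl⟩
    obtain ⟨y, rfl⟩ := hi x
    exact ⟨(i ≫ l) y, congr($hc.symm y)⟩
  have e : IsOpenImmersion.lift (pullback.diagonal n) P hr ≫ pullback.diagonal n = P :=
    IsOpenImmersion.lift_fac _ _ _
  have e₁ := congrArg (· ≫ pullback.fst n n) e
  have e₂ := congrArg (· ≫ pullback.snd n n) e
  simp only [Category.assoc, pullback.diagonal_fst, pullback.diagonal_snd, Category.comp_id, P, pullback.lift_fst,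
    pullback.lift_snd] at e₁ e₂
  exact e₁.symm.trans e₂

/-- Sections of smooth morphisms lift along square-zero thickenings. -/
theorem exists_section_lift {A A₀ : Type u} [CommRing A] [CommRing A₀] (q : A →+* A₀) (hq : Function.Surjective q)
    (hsq : RingHom.ker q ^ 2 = ⊥) {P : Scheme.{u}} (f : P ⟶ Spec (CommRingCat.of A)) [Smooth f]
    (w : Spec (CommRingCat.of A₀) ⟶ P) (hw : w ≫ f = Spec.map (CommRingCat.ofHom q)) :
    ∃ l : Spec (CommRingCat.of A) ⟶ P, Spec.map (CommRingCat.ofHom q) ≫ l = w ∧ l ≫ f = 𝟙 _ := by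
  let E := RingHom.quotientKerEquivOfSurjective hq
  have hE₁ : CommRingCat.ofHom (Ideal.Quotient.mk (RingHom.ker q)) ≫ CommRingCat.ofHom E.toRingHom =
      CommRingCat.ofHom q := by
    apply CommRingCat.hom_ext; ext a
    exact RingHom.quotientKerEquivOfSurjective_apply_mk hq a
  have hE₂ : CommRingCat.ofHom q ≫ CommRingCat.ofHom E.symm.toRingHom =
      CommRingCat.ofHom (Ideal.Quotient.mk (RingHom.ker q)) := by
    apply CommRingCat.hom_ext; ext a
    exact E.symm_apply_eq.2 (RingHom.quotientKerEquivOfSurjective_apply_mk hq a).symm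
  have hE₃ : CommRingCat.ofHom E.symm.toRingHom ≫ CommRingCat.ofHom E.toRingHom = 𝟙 _ := by
    apply CommRingCat.hom_ext; ext a
    exact E.apply_symm_apply a
  obtain ⟨l, hl₁, hl₂⟩ := ((Groth.Agent.S1488.result f).1 inferInstance).2 A (RingHom.ker q) hsq
    (Spec.map (CommRingCat.ofHom E.symm.toRingHom) ≫ w) (𝟙 _) (by
      rw [Category.comp_id, Category.assoc, hw, ← Spec.map_comp, hE₂])
  refine ⟨l, ?_, hl₂⟩
  rw [← hE₁, Spec.map_comp, Category.assoc, hl₁, ← Category.assoc, ← Spec.map_comp, hE₃, Spec.map_id]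
  exact Category.id_comp _

/-- A morphism locally of finite type is formally unramified if it has no nonzero vertical tangent vectors at
geometric points. -/
theorem formallyUnramified_of_tangent {Z W : Scheme.{u}} (n : Z ⟶ W) [LocallyOfFiniteType n]
    (h : ∀ (k : Type u) [Field k] [IsAlgClosed k] (a : Spec (CommRingCat.of (TrivSqZeroExt k k)) ⟶ Z)
      (a₀ : Spec (CommRingCat.of k) ⟶ Z), Spec.map (CommRingCat.ofHom (fstHom k k k).toRingHom) ≫ a = a₀ →
      a ≫ n = Spec.map (CommRingCat.ofHom (algebraMap k (TrivSqZeroExt k k))) ≫ a₀ ≫ n →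
      a = Spec.map (CommRingCat.ofHom (algebraMap k (TrivSqZeroExt k k))) ≫ a₀) :
    FormallyUnramified n := by
  rw [HasRingHomProperty.iff_appLE (P := @FormallyUnramified)]
  intro O O' hO'
  show (n.appLE O O' hO').hom.FormallyUnramified
  letI := (n.appLE O O' hO').hom.toAlgebra
  haveI : Algebra.FiniteType Γ(W, O) Γ(Z, O') :=
    (HasRingHomProperty.iff_appLE (P := @LocallyOfFiniteType)).1 inferInstance O O' hO'
  show Algebra.FormallyUnramified Γ(W, O) Γ(Z, O')
  rw [Algebra.formallyUnramified_iff]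
  by_contra hne
  rw [not_subsingleton_iff_nontrivial] at hne
  obtain ⟨N, hN, -⟩ := (eq_top_or_exists_le_coatom (⊥ : Submodule Γ(Z, O') (KaehlerDifferential Γ(W, O) Γ(Z, O')))).resolve_left
    bot_ne_top
  haveI := isSimpleModule_iff_isCoatom.2 hN
  obtain ⟨m, hm, ⟨e⟩⟩ := isSimpleModule_iff_quot_maximal.1 (inferInstance : IsSimpleModule Γ(Z, O') (_ ⧸ N))
  letI := Ideal.Quotient.field m
  let k := AlgebraicClosure (Γ(Z, O') ⧸ m)
  let ι : Γ(Z, O') →+* k := (algebraMap (Γ(Z, O') ⧸ m) k).comp (Ideal.Quotient.mk m)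
  let L : KaehlerDifferential Γ(W, O) Γ(Z, O') →ₗ[Γ(Z, O')] Γ(Z, O') ⧸ m := e.toLinearMap ∘ₗ N.mkQ
  obtain ⟨b, hb⟩ : ∃ b, L (KaehlerDifferential.D _ _ b) ≠ 0 := by
    by_contra hcon
    push Not at hcon
    have : L = 0 := LinearMap.ext_on (KaehlerDifferential.span_range_derivation _ _)
      (by rintro _ ⟨b, rfl⟩; exact hcon b)
    apply hN.1
    rw [← Submodule.ker_mkQ N]
    ext ω
    simp only [LinearMap.mem_ker, Submodule.mem_top, iff_true]
    exact e.map_eq_zero_iff.1 (LinearMap.congr_fun this ω)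
  let δ : Γ(Z, O') → k := fun x => algebraMap _ k (L (KaehlerDifferential.D _ _ x))
  have hδ : ∀ x y, δ (x * y) = ι x * δ y + ι y * δ x := fun x y => by
    simp only [δ, ι, Derivation.leibniz, map_add, map_smul, RingHom.comp_apply]
    rw [Algebra.smul_def, Algebra.smul_def, map_mul, map_mul]
    rfl
  let ψ : Γ(Z, O') →+* TrivSqZeroExt k k :=
    { toFun := fun x => inl (ι x) + inr (δ x)
      map_one' := TrivSqZeroExt.ext (by simp) (by simp [δ])
      map_mul' := fun x y => TrivSqZeroExt.ext (by simp) (by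
        simp only [snd_add, snd_inl, snd_inr, zero_add, snd_mul, fst_add, fst_inl, fst_inr, add_zero,
          op_smul_eq_smul, smul_eq_mul, hδ])
      map_zero' := TrivSqZeroExt.ext (by simp) (by simp [δ])
      map_add' := fun x y => TrivSqZeroExt.ext (by simp only [fst_add, fst_inl, fst_inr, map_add]; ring)
        (by simp only [δ, snd_add, snd_inl, snd_inr, map_add]; ring) }
  let a := Spec.map (CommRingCat.ofHom ψ) ≫ O'.2.fromSpec
  let a₀ := Spec.map (CommRingCat.ofHom ι) ≫ O'.2.fromSpec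
  have h₀ : Spec.map (CommRingCat.ofHom (fstHom k k k).toRingHom) ≫ a = a₀ := by
    rw [← Category.assoc, ← Spec.map_comp, ← CommRingCat.ofHom_comp]
    congr 3
    ext x
    simp [ψ]
  have hfs := IsAffineOpen.SpecMap_appLE_fromSpec n O.2 O'.2 hO'
  have h₁ : a ≫ n = Spec.map (CommRingCat.ofHom (algebraMap k (TrivSqZeroExt k k))) ≫ a₀ ≫ n := by
    simp only [a, a₀, Category.assoc]
    rw [← hfs]
    simp only [← Category.assoc, ← Spec.map_comp]
    congr 2
    apply CommRingCat.hom_ext
    ext r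
    · show fst (ψ (algebraMap Γ(W, O) Γ(Z, O') r)) = fst (algebraMap k (TrivSqZeroExt k k) (ι (algebraMap Γ(W, O) Γ(Z, O') r)))
      simp [ψ, algebraMap_eq_inl']
    · show snd (ψ (algebraMap Γ(W, O) Γ(Z, O') r)) = snd (algebraMap k (TrivSqZeroExt k k) (ι (algebraMap Γ(W, O) Γ(Z, O') r)))
      simp [ψ, δ, algebraMap_eq_inl']
  have h₂ := h k a a₀ h₀ h₁
  simp only [a, a₀, ← Category.assoc, ← Spec.map_comp] at h₂
  have h₃ := congrArg CommRingCat.Hom.hom (Spec.map_injective ((cancel_mono O'.2.fromSpec).1 h₂))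
  have h₄ := congrArg snd (RingHom.congr_fun h₃ b)
  have h₅ : δ b = 0 := by
    simpa [ψ, algebraMap_eq_inl'] using h₄
  exact hb ((map_eq_zero _).1 h₅)

end Groth.Agent.IsoNat97
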