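import Groth.Agent.IsoNat97.LieTransfer
import Groth.Agent.IsoNat97.UnrPts
import Groth.Agent.IsoNat97.Transfer
import Groth.Agent.SpFP87.EtLocInst
import Groth.Agent.SpFP87.EtaleMor

/-! Unramified charts are detected by the presheaf of isomorphism classes. -/

set_option autoImplicit false
set_option linter.unusedVariables false
set_option linter.style.haveILetI false
set_option backward.isDefEq.respectTransparency false
set_option backward.isDefEq.respectTransparency.types false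
universe u

open CategoryTheory CategoryTheory.Limits AlgebraicGeometry Opposite AlgSt FibCat TrivSqZeroExt

namespace Groth.Agent.IsoNat97

open AlgSt88 IsoNat

variable {S : Scheme.{u}} {𝒳 𝒴 : AlgSt.Cat S} {U V : Over S}
  {k : Type u} [Field k] {s₀ : Spec (CommRingCat.of k) ⟶ S}

/-- The geometric point in the first order neighbourhood. -/
noncomputable def ptIncl (s₀ : Spec (CommRingCat.of k) ⟶ S) : Over.mk s₀ ⟶ aPt s₀ (Dual k) :=
  Over.homMk (Spec.map (CommRingCat.ofHom (fstHom k k k).toRingHom)) (by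
    show Spec.map _ ≫ Spec.map _ ≫ s₀ = s₀
    rw [← Category.assoc, ← Spec.map_comp, ← CommRingCat.ofHom_comp,
      show (fstHom k k k).toRingHom.comp (algebraMap k (Dual k)) = RingHom.id k from
        RingHom.ext (fstHom k k k).commutes]
    exact (congrArg (· ≫ s₀) (Spec.map_id _)).trans (Category.id_comp _))

theorem ptIncl_aStr : ptIncl s₀ ≫ aStr s₀ (Dual k) = 𝟙 _ := by
  ext : 1
  show Spec.map _ ≫ Spec.map _ = 𝟙 _
  rw [← Spec.map_comp, ← CommRingCat.ofHom_comp,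
    show (fstHom k k k).toRingHom.comp (algebraMap k (Dual k)) = RingHom.id k from
      RingHom.ext (fstHom k k k).commutes]
  exact Spec.map_id _

theorem fst_ker_sq : RingHom.ker (fstHom k k k).toRingHom ^ 2 = ⊥ := ker_fstHom_sq k k

theorem ptIncl_surjective : Function.Surjective (ptIncl s₀).left := fun x => by
  have hle : RingHom.ker (fstHom k k k).toRingHom ≤ x.asIdeal := fun a ha => x.isPrime.mem_of_pow_mem 2 (by
    have h := Ideal.mul_mem_mul ha ha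
    rw [← pow_two (RingHom.ker (fstHom k k k).toRingHom), fst_ker_sq, Ideal.mem_bot] at h
    rw [pow_two, h]; exact x.asIdeal.zero_mem)
  obtain ⟨y, hy⟩ := (range_comap_of_surjective _ (fstHom k k k).toRingHom (fun r => ⟨inl r, rfl⟩)).symm.subset
    (show x ∈ PrimeSpectrum.zeroLocus _ from hle)
  exact ⟨y, hy⟩

theorem isSepClosed_residue [IsAlgClosed k] : IsSepClosed (IsLocalRing.ResidueField k) :=
  IsSepClosed.of_exists_root _ fun q hq hirr hsep => by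
    let E : k ≃+* IsLocalRing.ResidueField k := RingEquiv.ofBijective (IsLocalRing.residue k)
      ⟨RingHom.injective _, IsLocalRing.residue_surjective⟩
    obtain ⟨x, hx⟩ := IsAlgClosed.exists_root (q.map E.symm.toRingHom) (by
      rw [Polynomial.degree_map]; exact (Polynomial.degree_pos_of_irreducible hirr).ne')
    refine ⟨E x, E.symm.injective ?_⟩
    rw [map_zero, ← RingEquiv.coe_toRingHom, ← Polynomial.eval_map_apply]
    simpa using hx

/-- Two lifts of a section to an etale chart agree when they agree at the point. -/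
theorem lift_unique {W : Over S} {F : AlgSp.Sp S} {p : (AlgSp.yon S).obj W ⟶ F} (hp : AlgSp.RepWith @Etale p)
    {a a' : aPt s₀ (Dual k) ⟶ W} (h₀ : ptIncl s₀ ≫ a = ptIncl s₀ ≫ a')
    (h : (AlgSp.yon S).map a ≫ p = (AlgSp.yon S).map a' ≫ p) : a = a' := by
  let s := (AlgSp.yon S).map a ≫ p
  obtain ⟨u, hu⟩ := (AlgSp.yon S).map_surjective
    ((hp.rep.isPullback s).lift ((AlgSp.yon S).map a) (𝟙 _) (Category.id_comp _).symm)
  obtain ⟨u', hu'⟩ := (AlgSp.yon S).map_surjective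
    ((hp.rep.isPullback s).lift ((AlgSp.yon S).map a') (𝟙 _) (h.symm.trans (Category.id_comp _).symm))
  obtain ⟨f, hf⟩ := (AlgSp.yon S).map_surjective (hp.rep.fst s)
  haveI : Etale (hp.rep.snd s).left := hp.property_snd s
  have e₁ : ∀ v (q : aPt s₀ (Dual k) ⟶ W) (hq : (AlgSp.yon S).map q ≫ p = s),
      (AlgSp.yon S).map v = (hp.rep.isPullback s).lift ((AlgSp.yon S).map q) (𝟙 _) (hq.trans (Category.id_comp _).symm) →
        v ≫ hp.rep.snd s = 𝟙 _ ∧ v ≫ f = q := fun v q hq hv =>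
    ⟨(AlgSp.yon S).map_injective (by
      rw [Functor.map_comp, hv, CategoryTheory.Functor.map_id]; exact (hp.rep.isPullback s).lift_snd _ _ _),
     (AlgSp.yon S).map_injective (by rw [Functor.map_comp, hv, hf]; exact (hp.rep.isPullback s).lift_fst _ _ _)⟩
  obtain ⟨hs, hf₁⟩ := e₁ u a rfl hu
  obtain ⟨hs', hf₂⟩ := e₁ u' a' h.symm hu'
  have hi : ptIncl s₀ ≫ u = ptIncl s₀ ≫ u' := (AlgSp.yon S).map_injective (by
    apply (hp.rep.isPullback s).hom_ext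
    · rw [← hf, ← Functor.map_comp, ← Functor.map_comp, Category.assoc, Category.assoc, hf₁, hf₂, h₀]
    · rw [← Functor.map_comp, ← Functor.map_comp, Category.assoc, Category.assoc, hs, hs'])
  have : u.left = u'.left := eq_of_unramified (hp.rep.snd s).left (ptIncl s₀).left ptIncl_surjective _ _
    (congrArg CommaMorphism.left hi) ((congrArg CommaMorphism.left hs).trans (congrArg CommaMorphism.left hs').symm)
  rw [← hf₁, ← hf₂, Over.OverMorphism.ext this]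

/-- Sections of an unramified space agree when they agree at the point. -/
theorem sec_rigid [IsAlgClosed k] {F : AlgSp.Space S} {π : F.obj ⟶ (AlgSp.yon S).obj V}
    (hπ : AlgSp.LocP (@LocallyOfFiniteType ⊓ @FormallyUnramified) π)
    {s s' : (AlgSp.yon S).obj (aPt s₀ (Dual k)) ⟶ F.obj} (h : s ≫ π = s' ≫ π)
    (h₀ : (AlgSp.yon S).map (ptIncl s₀) ≫ s = (AlgSp.yon S).map (ptIncl s₀) ≫ s') : s = s' := by
  obtain ⟨W, p, hp, hps⟩ := F.property.atlas
  obtain ⟨n, hn⟩ := (AlgSp.yon S).map_surjective (p ≫ π)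
  obtain ⟨hn₁, hn₂⟩ := hπ p (𝟙 _) n hp (AlgSp.repWith_id _ _) (by rw [Category.comp_id]; exact hn.symm)
  haveI := hn₁
  haveI := hn₂
  haveI := isSepClosed_residue (k := k)
  obtain ⟨w, hw⟩ := exists_lift_cover hp hps s₀ ((AlgSp.yon S).map (ptIncl s₀) ≫ s)
  have lift : ∀ q : (AlgSp.yon S).obj (aPt s₀ (Dual k)) ⟶ F.obj,
      (AlgSp.yon S).map w ≫ p = (AlgSp.yon S).map (ptIncl s₀) ≫ q →
      ∃ l : aPt s₀ (Dual k) ⟶ W, ptIncl s₀ ≫ l = w ∧ (AlgSp.yon S).map l ≫ p = q := by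
    intro q hq
    obtain ⟨u, hu⟩ := (AlgSp.yon S).map_surjective
      ((hp.rep.isPullback q).lift ((AlgSp.yon S).map w) ((AlgSp.yon S).map (ptIncl s₀)) hq)
    obtain ⟨f, hf⟩ := (AlgSp.yon S).map_surjective (hp.rep.fst q)
    haveI : Etale (hp.rep.snd q).left := hp.property_snd q
    have hus : u ≫ hp.rep.snd q = ptIncl s₀ := (AlgSp.yon S).map_injective (by
      rw [Functor.map_comp, hu]; exact (hp.rep.isPullback q).lift_snd _ _ _)
    obtain ⟨l, hl₁, hl₂⟩ := exists_section_lift (fstHom k k k).toRingHom (fun r => ⟨inl r, rfl⟩) fst_ker_sq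
      (hp.rep.snd q).left u.left (congrArg CommaMorphism.left hus)
    let l' : aPt s₀ (Dual k) ⟶ hp.rep.pullback q := Over.homMk l (by
      rw [← Over.w (hp.rep.snd q), ← Category.assoc]
      exact (congrArg (· ≫ (aPt s₀ (Dual k)).hom) hl₂).trans (Category.id_comp _))
    have h1 : ptIncl s₀ ≫ l' = u := Over.OverMorphism.ext hl₁
    have h2 : l' ≫ hp.rep.snd q = 𝟙 _ := Over.OverMorphism.ext hl₂
    refine ⟨l' ≫ f, ?_, ?_⟩
    · rw [← Category.assoc, h1]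
      exact (AlgSp.yon S).map_injective (by
        rw [Functor.map_comp, hu, hf]; exact (hp.rep.isPullback q).lift_fst _ _ _)
    · rw [Functor.map_comp, hf, Category.assoc, (hp.rep.isPullback q).w, ← Category.assoc, ← Functor.map_comp, h2,
        CategoryTheory.Functor.map_id, Category.id_comp]
  obtain ⟨l, hl, hlp⟩ := lift s hw
  obtain ⟨l', hl', hlp'⟩ := lift s' (hw.trans h₀)
  have hln : l ≫ n = l' ≫ n := (AlgSp.yon S).map_injective (by
    rw [Functor.map_comp, Functor.map_comp, hn, ← Category.assoc, ← Category.assoc, hlp, hlp', h])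
  have : l.left = l'.left := eq_of_unramified n.left (ptIncl s₀).left ptIncl_surjective _ _
    (congrArg CommaMorphism.left (hl.trans hl'.symm)) (congrArg CommaMorphism.left hln)
  rw [← hlp, ← hlp', Over.OverMorphism.ext this]

/-- Isomorphisms with objects of an unramified chart are rigid. -/
theorem obj_rigid [IsAlgClosed k] (hX : IsFibGrpd 𝒳.p) {x : overCat U ⥤ᵇ 𝒳}
    (hx : RepByAlgSpWith (AlgSp.LocP (@LocallyOfFiniteType ⊓ @FormallyUnramified)) x) {c : overCat V ⥤ᵇ 𝒳}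
    {b : aPt s₀ (Dual k) ⟶ V} {a a' : aPt s₀ (Dual k) ⟶ U} {b₀ : Over.mk s₀ ⟶ V} {a₀ : Over.mk s₀ ⟶ U}
    (hb : ptIncl s₀ ≫ b = b₀) (ha : ptIncl s₀ ≫ a = a₀) (ha' : ptIncl s₀ ≫ a' = a₀)
    (θ : (chObj c b).1 ⟶ (chObj x a).1) (θ' : (chObj c b).1 ⟶ (chObj x a').1)
    (θ₀ : (chObj c b₀).1 ⟶ (chObj x a₀).1) (hθ : 𝒳.p.IsHomLift (𝟙 (aPt s₀ (Dual k))) θ)
    (hθ' : 𝒳.p.IsHomLift (𝟙 (aPt s₀ (Dual k))) θ') (hθ₀ : 𝒳.p.IsHomLift (𝟙 (Over.mk s₀)) θ₀) (e : θ₀ ≫ chMap x (ptIncl s₀) ha = chMap c (ptIncl s₀) hb ≫ θ)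
    (e' : θ₀ ≫ chMap x (ptIncl s₀) ha' = chMap c (ptIncl s₀) hb ≫ θ') :
    ∃ h : a' = a, θ' ≫ chMap x (𝟙 _) ((Category.id_comp a).trans h.symm) = θ := by
  obtain ⟨F, eF, he, hπ⟩ := hx V c
  have hP : IsFibGrpd (fp c x).p := isFibGrpd_fp (isFibGrpd_overCat V) (isFibGrpd_overCat U) hX c x
  obtain ⟨s, ks, hks⟩ := exists_sec he (T := aPt s₀ (Dual k)) (mkObj hX x b a θ hθ) rfl
  obtain ⟨s', ks', hks'⟩ := exists_sec he (T := aPt s₀ (Dual k)) (mkObj hX x b a' θ' hθ') rfl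
  obtain ⟨q, kq, hkq⟩ := exists_sec he (T := Over.mk s₀) (mkObj hX x b₀ a₀ θ₀ hθ₀) rfl
  obtain ⟨m, hm⟩ := exists_mkHom hX (ptIncl s₀) hb ha hθ hθ₀ e
  obtain ⟨m', hm'⟩ := exists_mkHom hX (ptIncl s₀) hb ha' hθ' hθ₀ e'
  have h1 := sec_eq he hP (ptIncl s₀) kq hkq ks hks m hm
  have h1' := sec_eq he hP (ptIncl s₀) kq hkq ks' hks' m' hm'
  have hss : s = s' := sec_rigid hπ ((mk_proj hX s ks hks).trans (mk_proj hX s' ks' hks').symm) (h1.trans h1'.symm)
  obtain ⟨hb', ha'', e''⟩ := mk_natural hX (l := 𝟙 _) (s := s) (s' := s') (by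
    rw [CategoryTheory.Functor.map_id, Category.id_comp, hss]) ks hks ks' hks'
  refine ⟨((Category.id_comp a).symm.trans ha'').symm, ?_⟩
  rw [e'', chMap_id, Category.id_comp]

/-- An unramified chart has no infinitesimal automorphisms at its points. -/
theorem lieTriv_of_unr [IsAlgClosed k] (hX : IsFibGrpd 𝒳.p) {x : overCat U ⥤ᵇ 𝒳}
    (hx : RepByAlgSpWith (AlgSp.LocP (@LocallyOfFiniteType ⊓ @FormallyUnramified)) x) (a₀ : Over.mk s₀ ⟶ U) :
    LieTriv (BasedFunctor.comp (overMap a₀) x) := by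
  intro g hg
  let X₀ := BasedFunctor.comp (overMap a₀) x
  have hi : ptIncl s₀ ≫ aStr s₀ (Dual k) = 𝟙 _ := ptIncl_aStr
  have ha : ptIncl s₀ ≫ aStr s₀ (Dual k) ≫ a₀ = a₀ := by rw [← Category.assoc, hi, Category.id_comp]
  obtain ⟨g₁, hg₁⟩ := IsRestr.exists_of hX hi g
  have h1 : g₁ = AutT.one := by
    obtain ⟨r, hr⟩ := IsRestr.exists_of hX (Category.comp_id (aStr s₀ k)) g₁
    have hk : aStr s₀ k ≫ ptIncl s₀ = aMap s₀ (fstHom k k k) := by
      ext : 1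
      show Spec.map _ ≫ Spec.map _ = Spec.map _
      rw [← Spec.map_comp, ← CommRingCat.ofHom_comp]
      rfl
    obtain rfl := IsRestr.unique hX (hr.trans hg₁ hk) hg
    let w : Over.mk s₀ ⟶ aPt s₀ k := Over.homMk (𝟙 _) (by
      show 𝟙 _ ≫ Spec.map _ ≫ s₀ = s₀
      simp)
    have hw : w ≫ aStr s₀ k = 𝟙 _ := by
      ext : 1
      show 𝟙 _ ≫ Spec.map _ = 𝟙 _
      simp
    exact (IsRestr.unique hX ((IsRestr.one hw).trans hr hw) (IsRestr.refl g₁)).symm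
  subst h1
  obtain ⟨_, eg⟩ := hg₁
  let θ₀ : (chObj X₀ (𝟙 (Over.mk s₀))).1 ⟶ (chObj x a₀).1 :=
    chMap x (𝟙 _) (a' := 𝟙 _ ≫ a₀) (a := a₀) rfl
  have e₂ : ∀ σ : (chObj X₀ (aStr s₀ (Dual k))).1 ⟶ (chObj x (aStr s₀ (Dual k) ≫ a₀)).1,
      chMap X₀ (ptIncl s₀) hi ≫ σ = chMap X₀ (ptIncl s₀) hi →
        θ₀ ≫ chMap x (ptIncl s₀) ha = chMap X₀ (ptIncl s₀) hi ≫ σ := by
    intro σ hσ
    rw [hσ]
    refine (chMap_comp x (𝟙 _) (ptIncl s₀) _ ha (ptIncl s₀) (Category.id_comp _) ?_).trans ?_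
    · rw [← Category.assoc, hi]
    · rfl
  obtain ⟨h, e⟩ := obj_rigid hX hx (c := X₀) hi ha ha (θ := g.1) (θ' := 𝟙 _) θ₀ g.2
    (IsHomLift.id (chObj x (aStr s₀ (Dual k) ≫ a₀)).2) (isHomLift_chMap x _ _)
    (e₂ _ (eg.symm.trans (Category.id_comp _))) (e₂ _ (Category.comp_id _))
  refine Subtype.ext ?_
  rw [← e, chMap_id]
  exact Category.id_comp _

/-- The fibre spaces of the corresponding chart have no vertical tangent vectors. -/
theorem sec_const_of_corr [IsAlgClosed k] (h𝒳 : Stk.IsStack (AlgSp.J S) 𝒳) (h𝒴 : Stk.IsStack (AlgSp.J S) 𝒴)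
    (hIX : RepByAlgSp1 (inertiaToBase (toSelf 𝒳))) (hIY : RepByAlgSp1 (inertiaToBase (toSelf 𝒴))) (φ : FIso 𝒳 𝒴)
    {x : overCat U ⥤ᵇ 𝒳} {y : overCat U ⥤ᵇ 𝒴} (hxy : φ.toEquiv U (objCls x) = objCls y)
    (hx : RepByAlgSpWith (AlgSp.LocP (@LocallyOfFiniteType ⊓ @FormallyUnramified)) x)
    {v : overCat V ⥤ᵇ 𝒴} {F : AlgSp.Space S} {e : ofSp F.obj ⥤ᵇ fp v y} (he : IsEquivOver e)
    (s : (AlgSp.yon S).obj (aPt s₀ (Dual k)) ⟶ F.obj) (b₀ : Over.mk s₀ ⟶ V)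
    (hs : s ≫ spMapOfOver (BasedFunctor.comp e (fpFst v y)) = (AlgSp.yon S).map (aStr s₀ (Dual k) ≫ b₀)) :
    s = (AlgSp.yon S).map (aStr s₀ (Dual k)) ≫ (AlgSp.yon S).map (ptIncl s₀) ≫ s := by
  have hX := h𝒳.1
  have hY := h𝒴.1
  have hP : IsFibGrpd (fp v y).p := isFibGrpd_fp (isFibGrpd_overCat V) (isFibGrpd_overCat U) hY v y
  let r := aStr s₀ (Dual k)
  obtain ⟨b, a, θ, hθ, ks, hks⟩ := exists_mkObj (e := e) hY s
  obtain rfl : b = r ≫ b₀ := (AlgSp.yon S).map_injective ((mk_proj hY s ks hks).symm.trans hs)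
  let i := ptIncl s₀
  have hi : i ≫ r = 𝟙 _ := ptIncl_aStr
  have hb : i ≫ r ≫ b₀ = b₀ := by rw [← Category.assoc, hi, Category.id_comp]
  obtain ⟨a₀, ha₀⟩ : ∃ a₀, i ≫ a = a₀ := ⟨_, rfl⟩
  have har : i ≫ r ≫ a₀ = a₀ := by rw [← Category.assoc, hi, Category.id_comp]
  haveI := hθ
  haveI := fg_isIso_of_lift_id hY θ (aPt s₀ (Dual k))
  -- in the source the corresponding objects give a constant point of the chart
  obtain ⟨v', hv'⟩ := exists_corr hX (symm hX hY φ) v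
  have hcls : cls (chObj v' (r ≫ b₀)) = cls (chObj x a) := by
    rw [← show (φ.toEquiv _).symm (cls (chObj v (r ≫ b₀))) = cls (chObj v' (r ≫ b₀)) from
      corr_chObj hX (symm hX hY φ) hv' _, Equiv.symm_apply_eq, corr_chObj hY φ hxy]
    exact cls_eq_iff.2 ⟨Fib44.fiberIso (asIso θ) hθ (chObj v (r ≫ b₀)).2 (chObj y a).2⟩
  obtain ⟨Θ⟩ := cls_eq_iff.1 hcls
  haveI := Θ.hom.2
  obtain ⟨η₀, hη₀, eη₀⟩ := exists_restrict hX (c := v') (x := x) i hb ha₀ Θ.hom.1 Θ.hom.2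
  obtain ⟨ηr, hηr, eηr⟩ := exists_restrict hX (c := v') (x := x) r (rfl : r ≫ b₀ = _) (rfl : r ≫ a₀ = _) η₀ hη₀
  haveI := hη₀
  haveI := hηr
  have back : ∀ {𝒲 : AlgSt.Cat S} (hW : IsFibGrpd 𝒲.p) {c : overCat V ⥤ᵇ 𝒲} {w : overCat U ⥤ᵇ 𝒲}
      (η : (chObj c b₀).1 ⟶ (chObj w a₀).1) (hη : 𝒲.p.IsHomLift (𝟙 (Over.mk s₀)) η)
      (η' : (chObj c (r ≫ b₀)).1 ⟶ (chObj w (r ≫ a₀)).1) (hη' : 𝒲.p.IsHomLift (𝟙 (aPt s₀ (Dual k))) η'),
      η' ≫ chMap w r rfl = chMap c r rfl ≫ η → η ≫ chMap w i har = chMap c i hb ≫ η' := by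
    intro 𝒲 hW c w η hη η' hη' he'
    haveI := hη
    haveI := hη'
    refine chMap_cancel hW w (rfl : r ≫ a₀ = _) (j := i) inferInstance inferInstance ?_
    rw [Category.assoc, Category.assoc, he', ← Category.assoc (chMap c i hb),
      chMap_comp w i r har rfl (𝟙 _) hi (Category.id_comp _), chMap_comp c i r hb rfl (𝟙 _) hi (Category.id_comp _),
      chMap_id, chMap_id, Category.comp_id, Category.id_comp]
  obtain ⟨hconst, -⟩ := obj_rigid hX hx (c := v') hb ha₀ har Θ.hom.1 ηr η₀ Θ.hom.2 hηr hη₀ eη₀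
    (back hX η₀ hη₀ ηr hηr eηr)
  subst hconst
  -- in the target the isomorphism is constant as well
  obtain ⟨θ₀, hθ₀, eθ₀⟩ := exists_restrict hY (c := v) (x := y) i hb har θ hθ
  obtain ⟨θr, hθr, eθr⟩ := exists_restrict hY (c := v) (x := y) r (rfl : r ≫ b₀ = _) (rfl : r ≫ a₀ = _) θ₀ hθ₀
  haveI := hθr
  haveI := fg_isIso_of_lift_id hY θr (aPt s₀ (Dual k))
  have eθr₀ := back hY θ₀ hθ₀ θr hθr eθr
  let Y₀ := BasedFunctor.comp (overMap a₀) y
  let σ : AutT Y₀ r := ⟨(inv θr ≫ θ : (chObj y (r ≫ a₀)).1 ⟶ (chObj y (r ≫ a₀)).1),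
    inferInstanceAs (𝒴.p.IsHomLift (𝟙 (aPt s₀ (Dual k))) (inv θr ≫ θ))⟩
  obtain ⟨σ₀, hσ₀⟩ := IsRestr.exists_of hY hi σ
  have hσ₀1 : σ₀ = AutT.one := by
    refine Subtype.ext (chMap_cancel hY Y₀ hi σ₀.2 (AutT.one (Z := Y₀) (t := 𝟙 _)).2 ?_)
    obtain ⟨_, e'⟩ := hσ₀
    refine e'.trans ?_
    show chMap Y₀ i hi ≫ inv θr ≫ θ = 𝟙 _ ≫ chMap Y₀ i hi
    rw [Category.id_comp]
    haveI := hθ₀
    haveI := fg_isIso_of_lift_id hY θ₀ (Over.mk s₀)
    have hi' : i ≫ r ≫ a₀ = 𝟙 _ ≫ a₀ := by rw [← Category.assoc, hi]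
    have key : ∀ (w : Over.mk s₀ ⟶ U) (hw : i ≫ r ≫ a₀ = w), w = a₀ →
        chMap y i hw ≫ inv θr ≫ θ = chMap y i hw := by
      rintro w hw rfl
      rw [← cancel_epi θ₀, ← Category.assoc θ₀, eθr₀, Category.assoc, IsIso.hom_inv_id_assoc]
      exact eθ₀.symm.trans eθr₀
    exact key _ hi' (Category.id_comp _)
  subst hσ₀1
  have hk : Ker σ := by
    have h := (IsRestr.one (Z := Y₀) (Category.comp_id (aStr s₀ k))).trans hσ₀ (l := ptIncl s₀)
      (n := aMap s₀ (fstHom k k k)) (by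
        ext : 1
        show Spec.map _ ≫ Spec.map _ = Spec.map _
        rw [← Spec.map_comp, ← CommRingCat.ofHom_comp]
        rfl)
    exact h
  have hL : LieTriv Y₀ := lieTriv_of_corr h𝒳 h𝒴 hIX hIY φ (X := BasedFunctor.comp (overMap a₀) x)
    (corr_overMap hY φ hxy a₀) (lieTriv_of_unr hX hx a₀)
  have hσ1 : inv θr ≫ θ = 𝟙 _ := congrArg Subtype.val (hL σ hk)
  have hθθr : θ = θr := by rw [← Category.comp_id θr, ← hσ1, IsIso.hom_inv_id_assoc]
  subst hθθr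
  obtain ⟨q, kq, hkq⟩ := exists_sec he (T := Over.mk s₀) (mkObj hY y b₀ a₀ θ₀ hθ₀) rfl
  obtain ⟨m, hm⟩ := exists_mkHom hY r (rfl : r ≫ b₀ = _) (rfl : r ≫ a₀ = _) hθ₀ hθ eθr
  obtain ⟨m', hm'⟩ := exists_mkHom hY i hb har hθ hθ₀ eθ₀
  rw [sec_eq he hP i kq hkq ks hks m' hm', sec_eq he hP r ks hks kq hkq m hm]

omit [Field k]

/-- Unramifiedness of charts is detected. -/
theorem unr_of_corr (h𝒳 : IsAlgStack Scheme.fppfPrecoverage 𝒳) (h𝒴 : IsAlgStack Scheme.fppfPrecoverage 𝒴)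
    (hIX : RepByAlgSp1 (inertiaToBase (toSelf 𝒳))) (hIY : RepByAlgSp1 (inertiaToBase (toSelf 𝒴))) (φ : FIso 𝒳 𝒴)
    {x : overCat U ⥤ᵇ 𝒳} {y : overCat U ⥤ᵇ 𝒴} (hxy : φ.toEquiv U (objCls x) = objCls y)
    (hx : RepByAlgSpWith (AlgSp.LocP (@LocallyOfFiniteType ⊓ @FormallyUnramified)) x)
    (hy : RepByAlgSpWith (AlgSp.LocP @LocallyOfFinitePresentation) y) :
    RepByAlgSpWith (AlgSp.LocP (@LocallyOfFiniteType ⊓ @FormallyUnramified)) y := by
  intro V v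
  obtain ⟨F, e, he, hπ⟩ := hy V v
  refine ⟨F, e, he, ?_⟩
  obtain ⟨Z, p, hp, hps⟩ := F.property.atlas
  let π := spMapOfOver (BasedFunctor.comp e (fpFst v y))
  obtain ⟨n, hn⟩ := (AlgSp.yon S).map_surjective (p ≫ π)
  refine SpFP87.locP_of_chart (h := n) F.property.diag (AlgSp.IsAlgSpace.yon_obj V).diag hp hps
    (AlgSp.repWith_id _ V) (by rw [Category.comp_id]; exact hn.symm) ?_
  haveI : LocallyOfFinitePresentation n.left :=
    hπ p (𝟙 _) n hp (AlgSp.repWith_id _ _) (by rw [Category.comp_id]; exact hn.symm)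
  refine ⟨inferInstance, formallyUnramified_of_tangent n.left fun k _ _ a a₀ ha han => ?_⟩
  let s₀ := a₀ ≫ Z.hom
  let a' : aPt s₀ (Dual k) ⟶ Z := Over.homMk a (by
    show a ≫ Z.hom = Spec.map _ ≫ a₀ ≫ Z.hom
    rw [← Over.w n, ← Category.assoc a, han]
    simp only [Category.assoc])
  let a₀' : Over.mk s₀ ⟶ Z := Over.homMk a₀ rfl
  have hi : ptIncl s₀ ≫ a' = a₀' := Over.OverMorphism.ext ha
  have hr : a' ≫ n = aStr s₀ (Dual k) ≫ a₀' ≫ n := Over.OverMorphism.ext han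
  have hs : ((AlgSp.yon S).map a' ≫ p) ≫ π = (AlgSp.yon S).map (aStr s₀ (Dual k) ≫ a₀' ≫ n) := by
    rw [Category.assoc, ← hn, ← Functor.map_comp, hr]
  have h := sec_const_of_corr h𝒳.isStack h𝒴.isStack hIX hIY φ hxy hx he _ _ hs
  have h' : (AlgSp.yon S).map a' ≫ p = (AlgSp.yon S).map (aStr s₀ (Dual k) ≫ a₀') ≫ p := by
    rw [h, ← Category.assoc ((AlgSp.yon S).map (ptIncl s₀)), ← Functor.map_comp, hi, ← Category.assoc, ← Functor.map_comp]
  have := lift_unique hp (a := a') (a' := aStr s₀ (Dual k) ≫ a₀') (by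
    rw [hi, ← Category.assoc, ptIncl_aStr, Category.id_comp]) h'
  exact congrArg CommaMorphism.left this

end Groth.Agent.IsoNat97
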