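import Groth.Agent.Cons62.Unramified
import Mathlib.RingTheory.Unramified.Locus
import Mathlib.AlgebraicGeometry.Morphisms.Etale

/-! The unramified locus of an affine morphism of finite presentation. -/

set_option autoImplicit false
universe u

open CategoryTheory CategoryTheory.Limits AlgebraicGeometry TopologicalSpace Topology TensorProduct

namespace Groth.Agent.IsoNat97

theorem unrLocus_spec {A C : CommRingCat.{u}} (φ : A ⟶ C) (hφ : φ.hom.FinitePresentation) :
    ∃ U₀ : (Spec C).Opens, IsConstructible (U₀ : Set (Spec C)) ∧ FormallyUnramified (U₀.ι ≫ Spec.map φ) ∧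
      ∀ (K : CommRingCat.{u}) (a : Spec K ⟶ Spec A) (P : Scheme.{u}) (fst : P ⟶ Spec C) (snd : P ⟶ Spec K),
        IsPullback fst snd (Spec.map φ) a → FormallyUnramified snd → Set.range fst ⊆ (U₀ : Set (Spec C)) := by
  algebraize [φ.hom]
  have : Module.FinitePresentation C Ω[C⁄A] := inferInstance
  let U₀ : (Spec C).Opens := ⟨Algebra.unramifiedLocus A C, Algebra.isOpen_unramifiedLocus⟩
  have hU : (U₀ : Set (Spec C)) = (Module.support C Ω[C⁄A])ᶜ := Algebra.unramifiedLocus_eq_compl_support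
  refine ⟨U₀, hU ▸ isConstructible_compl.mpr Cons62.isConstructible_support, ?_, ?_⟩
  · let ι := {f : C // (PrimeSpectrum.basicOpen f : Set (PrimeSpectrum C)) ⊆ (U₀ : Set (Spec C))}
    have hsup : ∀ x : U₀.toScheme, ∃ f : ι, x ∈ U₀.ι ⁻¹ᵁ (PrimeSpectrum.basicOpen f.1) := fun x => by
      obtain ⟨_, ⟨_, ⟨f, rfl⟩, rfl⟩, hxf, hfU⟩ :=
        PrimeSpectrum.isBasis_basic_opens.exists_subset_of_mem_open x.2 U₀.isOpen
      exact ⟨⟨f, hfU⟩, hxf⟩
    rw [IsZariskiLocalAtSource.iff_of_iSup_eq_top (P := @FormallyUnramified)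
      (fun f : ι => U₀.ι ⁻¹ᵁ (PrimeSpectrum.basicOpen f.1))
      (eq_top_iff.mpr fun x _ => Opens.mem_iSup.mpr (hsup x))]
    intro f
    haveI : Algebra.FormallyUnramified A (Localization.Away f.1) :=
      Algebra.basicOpen_subset_unramifiedLocus_iff.mp f.2
    let j := Spec.map (CommRingCat.ofHom (algebraMap C (Localization.Away f.1)))
    have h1 : FormallyUnramified (j ≫ Spec.map φ) := by
      rw [← Spec.map_comp, HasRingHomProperty.Spec_iff (P := @FormallyUnramified)]
      show ((algebraMap C (Localization.Away f.1)).comp (algebraMap A C)).FormallyUnramified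
      rw [← IsScalarTower.algebraMap_eq, RingHom.formallyUnramified_algebraMap]
      infer_instance
    haveI : IsOpenImmersion j := IsOpenImmersion.of_isLocalization f.1
    have hr : Set.range ((U₀.ι ⁻¹ᵁ (PrimeSpectrum.basicOpen f.1)).ι ≫ U₀.ι) ⊆ Set.range j := by
      rintro _ ⟨y, rfl⟩
      show _ ∈ Set.range (PrimeSpectrum.comap (algebraMap C (Localization.Away f.1)))
      rw [PrimeSpectrum.localization_away_comap_range (Localization.Away f.1) f.1]
      exact y.2
    rw [← Category.assoc, ← IsOpenImmersion.lift_fac j _ hr, Category.assoc]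
    haveI : IsOpenImmersion (IsOpenImmersion.lift j _ hr) := by
      have : IsOpenImmersion (IsOpenImmersion.lift j _ hr ≫ j) := by
        rw [IsOpenImmersion.lift_fac]; infer_instance
      exact IsOpenImmersion.of_comp _ j
    exact IsZariskiLocalAtSource.comp h1 _
  · intro K a P fst snd hP hsnd
    obtain ⟨ψ, rfl⟩ := Spec.map_surjective a
    letI := ψ.hom.toAlgebra
    letI : Algebra C (K ⊗[A] C) := Algebra.TensorProduct.rightAlgebra
    have h1 := (isPullback_SpecMap_of_isPushout _ _ _ _ (CommRingCat.isPushout_tensorProduct A K C)).flip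
    have hsnd' : FormallyUnramified (Spec.map (CommRingCat.ofHom (algebraMap K (K ⊗[A] C)))) := by
      have := h1.isoIsPullback_inv_snd _ _ hP
      rw [← MorphismProperty.cancel_left_of_respectsIso (P := @FormallyUnramified) (h1.isoIsPullback _ _ hP).inv]
      exact this.symm ▸ hsnd
    rw [HasRingHomProperty.Spec_iff (P := @FormallyUnramified), CommRingCat.hom_ofHom] at hsnd'
    erw [RingHom.formallyUnramified_algebraMap] at hsnd'
    rw [Algebra.formallyUnramified_iff,
      ← (KaehlerDifferential.tensorKaehlerEquiv A K C (K ⊗[A] C)).subsingleton_congr,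
      Cons62.subsingleton_tensor_iff] at hsnd'
    rintro _ ⟨y, rfl⟩
    rw [hU]
    obtain ⟨Q, hQ⟩ : ∃ Q, (Spec.map (CommRingCat.ofHom (algebraMap C (K ⊗[A] C)))) Q = fst y := by
      have e := h1.isoIsPullback_inv_fst _ _ hP
      exact ⟨(h1.isoIsPullback _ _ hP).inv y, congrArg (fun f : P ⟶ Spec C => f y) e⟩
    rw [← hQ]
    exact hsnd' Q

theorem unrLocus_affine {W T : Scheme.{u}} [IsAffine W] [IsAffine T] (n : W ⟶ T) [LocallyOfFinitePresentation n] :
    ∃ U₀ : W.Opens, IsConstructible (U₀ : Set W) ∧ FormallyUnramified (U₀.ι ≫ n) ∧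
      ∀ (K : CommRingCat.{u}) (a : Spec K ⟶ T) (P : Scheme.{u}) (fst : P ⟶ W) (snd : P ⟶ Spec K),
        IsPullback fst snd n a → FormallyUnramified snd → Set.range fst ⊆ (U₀ : Set W) := by
  let n' : Spec Γ(W, ⊤) ⟶ Spec Γ(T, ⊤) := W.isoSpec.inv ≫ n ≫ T.isoSpec.hom
  obtain ⟨φ, hφ⟩ := Spec.map_surjective n'
  have hn' : LocallyOfFinitePresentation (Spec.map φ) := by rw [hφ]; infer_instance
  rw [HasRingHomProperty.Spec_iff (P := @LocallyOfFinitePresentation)] at hn'
  obtain ⟨U', hc, hu, hpt⟩ := unrLocus_spec φ hn'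
  let U₀ : W.Opens := W.isoSpec.hom ⁻¹ᵁ U'
  refine ⟨U₀, Scheme.Hom.isConstructible_preimage W.isoSpec.hom hc, ?_, fun K a P fst snd hP hsnd => ?_⟩
  · have e : U₀.ι ≫ n = (W.isoSpec.hom ∣_ U') ≫ (U'.ι ≫ Spec.map φ) ≫ T.isoSpec.inv := by
      rw [Category.assoc, morphismRestrict_ι_assoc, hφ]
      simp [n', U₀]
    rw [e]
    exact MorphismProperty.comp_mem (W := @FormallyUnramified) _ _ inferInstance
      (MorphismProperty.comp_mem (W := @FormallyUnramified) _ _ hu inferInstance)
  · have hP' : IsPullback (fst ≫ W.isoSpec.hom) snd (Spec.map φ) (a ≫ T.isoSpec.hom) := by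
      refine hP.of_iso (Iso.refl P) W.isoSpec (Iso.refl _) T.isoSpec ?_ ?_ ?_ ?_ <;> simp [hφ, n']
    rintro _ ⟨y, rfl⟩
    exact hpt K _ P _ snd hP' hsnd ⟨y, rfl⟩

end Groth.Agent.IsoNat97
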